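import Mathlib
import Cfsg.Prelude.Def_LieRecognition
import Cfsg.Prelude.Def_FusionSystem
import Cfsg.Agent.Lib.Helper87.LinPoly
import Cfsg.Agent.Lib.Helper87.RegField
import Cfsg.Agent.Lib.Helper1.Hig.Defs

/-! HIG server (helper1, S1138/S5214), piece (D2) exists_fmap (written by helper26). -/

set_option autoImplicit false
set_option linter.style.haveILetI false
set_option maxHeartbeats 400000

namespace Cfsg.Agent.Helper26.Hig

open Cfsg.Agent.Helper1.Hig Cfsg.Agent.Helper87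
open scoped commutatorElement

section grp

variable {P : Type*} [Group P]

theorem helper26_aut_mem_center (φ : MulAut P) {z : P} (hz : z ∈ Subgroup.center P) :
    φ z ∈ Subgroup.center P := by
  rw [Subgroup.mem_center_iff] at hz ⊢
  intro g
  have h := hz (φ⁻¹ g)
  have h2 := congrArg φ h
  rw [map_mul, map_mul] at h2
  simpa using h2

theorem helper26_comm_mul_left (m m' y : P) (hc : ⁅m', y⁆ ∈ Subgroup.center P) :
    ⁅m * m', y⁆ = ⁅m, y⁆ * ⁅m', y⁆ := by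
  have h1 : ⁅m * m', y⁆ = m * ⁅m', y⁆ * m⁻¹ * ⁅m, y⁆ := by
    simp only [commutatorElement_def]; group
  have h2 : m * ⁅m', y⁆ = ⁅m', y⁆ * m := Subgroup.mem_center_iff.1 hc m
  have h3 : ⁅m, y⁆ * ⁅m', y⁆ = ⁅m', y⁆ * ⁅m, y⁆ := Subgroup.mem_center_iff.1 hc _
  rw [h1, h2, mul_inv_cancel_right, h3]

theorem helper26_comm_mul_right (m y y' : P) (hc : ⁅m, y'⁆ ∈ Subgroup.center P) :
    ⁅m, y * y'⁆ = ⁅m, y⁆ * ⁅m, y'⁆ := by
  have h1 : ⁅m, y * y'⁆ = ⁅m, y⁆ * (y * ⁅m, y'⁆ * y⁻¹) := by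
    simp only [commutatorElement_def]; group
  have h2 : y * ⁅m, y'⁆ = ⁅m, y'⁆ * y := Subgroup.mem_center_iff.1 hc y
  rw [h1, h2, mul_inv_cancel_right]

theorem helper26_comm_mul_central (m z y : P) (hz : z ∈ Subgroup.center P) :
    ⁅m * z, y⁆ = ⁅m, y⁆ := by
  have hzy : ⁅z, y⁆ = 1 := by
    rw [commutatorElement_eq_one_iff_mul_comm]
    exact (Subgroup.mem_center_iff.1 hz y).symm
  have hc : ⁅z, y⁆ ∈ Subgroup.center P := by rw [hzy]; exact Subgroup.one_mem _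
  rw [helper26_comm_mul_left m z y hc, hzy, mul_one]

end grp

section main

variable {P : Type*} [Group P] (S : SuzNF P) (C : Cfg S)

/-- `M` is commutative -/
theorem helper26_M_comm {a b : P} (ha : a ∈ C.M) (hb : b ∈ C.M) : a * b = b * a :=
  (Subgroup.mem_centralizer_iff.1 (C.le_cent hb) a ha)

/-- two elements of `M` with the same square differ by a central element -/
theorem helper26_comm_eq_of_sq_eq {m m' : P} (hm : m ∈ C.M) (hm' : m' ∈ C.M)
    (h : m' * m' = m * m) (y : P) : ⁅m', y⁆ = ⁅m, y⁆ := by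
  have hmi : m⁻¹ ∈ C.M := Subgroup.inv_mem _ hm
  have hz : (m⁻¹ * m') * (m⁻¹ * m') = 1 := by
    have h1 : m' * m⁻¹ = m⁻¹ * m' := helper26_M_comm S C hm' hmi
    calc (m⁻¹ * m') * (m⁻¹ * m') = m⁻¹ * (m' * m⁻¹) * m' := by group
      _ = m⁻¹ * (m⁻¹ * m') * m' := by rw [h1]
      _ = m⁻¹ * m⁻¹ * (m' * m') := by group
      _ = m⁻¹ * m⁻¹ * (m * m) := by rw [h]
      _ = 1 := by group
  have hzc : m⁻¹ * m' ∈ Subgroup.center P := (S.sq_one_iff _).1 hz
  have e : m' = m * (m⁻¹ * m') := by group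
  rw [e, helper26_comm_mul_central m _ y hzc]

theorem helper26_pow_mem (k : ℕ) : ∀ m ∈ C.M, (S.ξ ^ k) m ∈ C.M := by
  induction k with
  | zero => intro m hm; simpa using hm
  | succ k ih =>
    intro m hm
    rw [pow_succ, MulAut.mul_apply]
    exact ih _ (C.ξ_mem m hm)

theorem helper26_inv_mem : ∀ m ∈ C.M, (S.ξ⁻¹) m ∈ C.M := by
  intro m hm
  have hN : 0 < orderOf S.ξ := by
    rw [S.order_ξ]
    have : 2 ^ 2 ≤ 2 ^ S.n := Nat.pow_le_pow_right (by norm_num) S.hn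
    omega
  have h1 : S.ξ ^ (orderOf S.ξ - 1) * S.ξ = 1 := by
    rw [← pow_succ, Nat.sub_add_cancel hN, pow_orderOf_eq_one]
  have h2 : S.ξ⁻¹ = S.ξ ^ (orderOf S.ξ - 1) := (eq_inv_of_mul_eq_one_left h1).symm
  rw [h2]
  exact helper26_pow_mem S C _ m hm

/-- (D2) coordinates: Helper87.RegField.exists_coords applied to A = ↥(center P), K = zpowers ξ
(or ZMod/Multiplicative ℤ action), F := GaloisField 2 S.n, gives e, χ; lam := χ ξ (order N since χ
is bijective on a cyclic group of order N). f y x := e ⁅m,y⁆ for any m ∈ M with e (m*m) = x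
(well defined: m unique mod Z and ⁅·,y⁆ kills Z). f_mul: ⁅m, y y'⁆ = ⁅m,y⁆ * y ⁅m,y'⁆ y⁻¹ and
⁅m,y'⁆ central. f_ξ: ⁅ξ m, ξ y⁆ = ξ ⁅m,y⁆. -/
theorem exists_fmap {P : Type*} [Group P] (S : SuzNF P) (C : Cfg S) :
    ∃ (F : Type) (_ : Field F) (_ : Fintype F) (_ : CharP F 2),
      Fintype.card F = 2 ^ S.n ∧ Nonempty (FMap S C F) := by
  classical
  haveI : Fact (Nat.Prime 2) := ⟨Nat.prime_two⟩
  haveI := S.fin
  have hn0 : S.n ≠ 0 := by have := S.hn; omega
  have hN2 : 3 ≤ 2 ^ S.n - 1 := by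
    have : 2 ^ 2 ≤ 2 ^ S.n := Nat.pow_le_pow_right (by norm_num) S.hn
    omega
  letI instF : Fintype (GaloisField 2 S.n) := Fintype.ofFinite _
  refine ⟨GaloisField 2 S.n, inferInstance, instF, inferInstance, ?_, ?_⟩
  · rw [← Nat.card_eq_fintype_card]; exact GaloisField.card 2 S.n hn0
  -- the regular action of `K = ⟨ξ⟩` on `A = Z(P)`
  let Z : Subgroup P := Subgroup.center P
  let K : Subgroup (MulAut P) := Subgroup.zpowers S.ξ
  let act : K → Z → Z := fun k z => ⟨(k : MulAut P) (z : P), helper26_aut_mem_center _ z.2⟩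
  have hcommA : ∀ a b : Z, a * b = b * a := by
    intro a b
    apply Subtype.ext
    rw [Subgroup.coe_mul, Subgroup.coe_mul]
    exact Subgroup.mem_center_iff.1 b.2 a
  have hKc : ∀ k l : K, k * l = l * k := by
    rintro ⟨k, hk⟩ ⟨l, hl⟩
    obtain ⟨i, rfl⟩ := Subgroup.mem_zpowers_iff.1 hk
    obtain ⟨j, rfl⟩ := Subgroup.mem_zpowers_iff.1 hl
    apply Subtype.ext
    exact (Commute.zpow_zpow_self S.ξ i j)
  have h1 : ∀ a, act 1 a = a := by
    intro a
    apply Subtype.ext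
    rfl
  have hmul : ∀ k l a, act (k * l) a = act k (act l a) := by
    intro k l a
    apply Subtype.ext
    rfl
  have hhom : ∀ k a b, act k (a * b) = act k a * act k b := by
    intro k a b
    apply Subtype.ext
    exact map_mul (k : MulAut P) (a : P) (b : P)
  -- a base point
  have hZcard : Nat.card Z = 2 ^ S.n := S.card_center
  obtain ⟨a₀, ha₀⟩ : ∃ a₀ : Z, a₀ ≠ 1 := by
    by_contra hcon
    push Not at hcon
    have : Nat.card Z = 1 := by
      rw [Nat.card_eq_one_iff_unique]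
      exact ⟨⟨fun a b => by rw [hcon a, hcon b]⟩, ⟨1⟩⟩
    rw [hZcard] at this
    omega
  have hξord : orderOf S.ξ = 2 ^ S.n - 1 := S.order_ξ
  have hreg : ∀ a, a ≠ 1 → ∃! k, act k a₀ = a := by
    intro a ha
    have ha₀' : (a₀ : P) ≠ 1 := fun h => ha₀ (Subtype.ext h)
    have ha' : (a : P) ≠ 1 := fun h => ha (Subtype.ext h)
    obtain ⟨i, hi⟩ := S.trans a₀ a a₀.2 a.2 ha₀' ha'
    refine ⟨⟨S.ξ ^ i, Subgroup.pow_mem _ (Subgroup.mem_zpowers _) i⟩, Subtype.ext hi, ?_⟩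
    rintro ⟨l, hl⟩ hla
    obtain ⟨j, rfl⟩ := Subgroup.mem_zpowers_iff.1 hl
    have hla' : (S.ξ ^ j) (a₀ : P) = a := congrArg Subtype.val hla
    apply Subtype.ext
    change S.ξ ^ j = S.ξ ^ i
    -- `ξ^(j - i)` fixes `a₀`
    have hfix : (S.ξ ^ (j - (i : ℤ))) (a₀ : P) = a₀ := by
      have e : S.ξ ^ (j - (i : ℤ)) = (S.ξ ^ i)⁻¹ * S.ξ ^ j := by
        rw [zpow_sub, zpow_natCast]
        exact (Commute.zpow_left (Commute.inv_right (Commute.pow_right (Commute.refl S.ξ) i)) j).eq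
      rw [e, MulAut.mul_apply, hla', ← hi]
      simp
    set d : ℤ := j - (i : ℤ) with hd
    have hmod : S.ξ ^ d = S.ξ ^ (d % (orderOf S.ξ : ℤ)) := (zpow_mod_orderOf S.ξ d).symm
    have hNpos : (0 : ℤ) < (orderOf S.ξ : ℤ) := by
      rw [hξord]; exact_mod_cast (by omega : 0 < 2 ^ S.n - 1)
    have hr0 : 0 ≤ d % (orderOf S.ξ : ℤ) := Int.emod_nonneg _ hNpos.ne'
    have hrlt : d % (orderOf S.ξ : ℤ) < (orderOf S.ξ : ℤ) := Int.emod_lt_of_pos _ hNpos
    obtain ⟨r, hr⟩ := Int.eq_ofNat_of_zero_le hr0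
    have hrN : r < 2 ^ S.n - 1 := by
      rw [hr, hξord] at hrlt
      exact_mod_cast hrlt
    have hdr : S.ξ ^ d = S.ξ ^ r := by rw [hmod, hr, zpow_natCast]
    have hr00 : r = 0 := by
      by_contra hne
      have := S.fpf r (Nat.pos_of_ne_zero hne) hrN (a₀ : P) (by rw [← hdr]; exact hfix)
      exact ha₀' this
    have hd1 : S.ξ ^ d = 1 := by rw [hdr, hr00, pow_zero]
    have : S.ξ ^ j = S.ξ ^ (d + (i : ℤ)) := by rw [hd]; congr 1; ring
    rw [this, zpow_add, hd1, one_mul, zpow_natCast]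
  have hcard : Nat.card Z = Nat.card (GaloisField 2 S.n) := by
    rw [hZcard, GaloisField.card 2 S.n hn0]
  obtain ⟨e', χ, he, hχ, -, hadd, hek⟩ :=
    RegField.exists_coords (F := GaloisField 2 S.n) hcommA hKc act h1 hmul hhom a₀ ha₀ hreg hcard
  -- the data
  let ξK : K := ⟨S.ξ, Subgroup.mem_zpowers _⟩
  let lam : GaloisField 2 S.n := ((χ ξK : (GaloisField 2 S.n)ˣ) : GaloisField 2 S.n)
  let eP : P → GaloisField 2 S.n := fun z => if h : z ∈ Z then e' ⟨z, h⟩ else 0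
  have eP_mem : ∀ z (h : z ∈ Z), eP z = e' ⟨z, h⟩ := fun z h => dif_pos h
  have e'_one : e' 1 = 0 := by
    have := hadd 1 1
    rw [mul_one] at this
    exact left_eq_add.1 this
  have eP_one : eP 1 = 0 := by
    rw [eP_mem 1 (Subgroup.one_mem _)]
    exact e'_one
  have eP_mul : ∀ z ∈ Z, ∀ z' ∈ Z, eP (z * z') = eP z + eP z' := by
    intro z hz z' hz'
    rw [eP_mem _ (Subgroup.mul_mem _ hz hz'), eP_mem z hz, eP_mem z' hz']
    exact hadd ⟨z, hz⟩ ⟨z', hz'⟩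
  have eP_inj : ∀ z ∈ Z, eP z = 0 → z = 1 := by
    intro z hz h
    rw [eP_mem z hz, ← e'_one] at h
    exact congrArg Subtype.val (he.1 h)
  have eP_inj2 : ∀ z ∈ Z, ∀ z' ∈ Z, eP z = eP z' → z = z' := by
    intro z hz z' hz' h
    rw [eP_mem z hz, eP_mem z' hz'] at h
    exact congrArg Subtype.val (he.1 h)
  have eP_surj : ∀ x : GaloisField 2 S.n, ∃ z ∈ Z, eP z = x := by
    intro x
    obtain ⟨z, hz⟩ := he.2 x
    exact ⟨z.1, z.2, by rw [eP_mem z.1 z.2]; exact hz⟩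
  have eP_ξ : ∀ z ∈ Z, eP (S.ξ z) = lam * eP z := by
    intro z hz
    rw [eP_mem _ (helper26_aut_mem_center S.ξ hz), eP_mem z hz]
    exact hek ξK ⟨z, hz⟩
  have hlam0 : lam ≠ 0 := Units.ne_zero _
  have eP_ξinv : ∀ z ∈ Z, eP (S.ξ⁻¹ z) = lam⁻¹ * eP z := by
    intro z hz
    have hz' : S.ξ⁻¹ z ∈ Z := helper26_aut_mem_center S.ξ⁻¹ hz
    have h := eP_ξ _ hz'
    have e : S.ξ (S.ξ⁻¹ z) = z := by simp
    rw [e] at h
    rw [h, ← mul_assoc, inv_mul_cancel₀ hlam0, one_mul]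
  -- a square root in `M` of every element of `F`
  have hroot : ∀ x : GaloisField 2 S.n, ∃ m ∈ C.M, eP (m * m) = x := by
    intro x
    obtain ⟨z, hz, hzx⟩ := eP_surj x
    obtain ⟨m, hm, hmm⟩ := C.sq_surj z hz
    exact ⟨m, hm, by rw [hmm, hzx]⟩
  let mOf : GaloisField 2 S.n → P := fun x => Classical.choose (hroot x)
  have mOf_mem : ∀ x, mOf x ∈ C.M := fun x => (Classical.choose_spec (hroot x)).1
  have mOf_sq : ∀ x, eP (mOf x * mOf x) = x := fun x => (Classical.choose_spec (hroot x)).2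
  let f : P → GaloisField 2 S.n → GaloisField 2 S.n := fun y x => eP ⁅mOf x, y⁆
  have f_spec : ∀ y : P, ∀ m ∈ C.M, f y (eP (m * m)) = eP ⁅m, y⁆ := by
    intro y m hm
    change eP ⁅mOf (eP (m * m)), y⁆ = eP ⁅m, y⁆
    have h1 := mOf_sq (eP (m * m))
    have h2 : mOf (eP (m * m)) * mOf (eP (m * m)) = m * m :=
      eP_inj2 _ (C.sq_mem _ (mOf_mem _)) _ (C.sq_mem _ hm) h1
    rw [helper26_comm_eq_of_sq_eq S C hm (mOf_mem _) h2 y]
  have f_add : ∀ y : P, ∀ x x' : GaloisField 2 S.n, f y (x + x') = f y x + f y x' := by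
    intro y x x'
    have hm := mOf_mem x
    have hm' := mOf_mem x'
    have hsq : (mOf x * mOf x') * (mOf x * mOf x') = (mOf x * mOf x) * (mOf x' * mOf x') := by
      have hc : mOf x' * mOf x = mOf x * mOf x' := helper26_M_comm S C hm' hm
      calc (mOf x * mOf x') * (mOf x * mOf x') = mOf x * (mOf x' * mOf x) * mOf x' := by group
        _ = mOf x * (mOf x * mOf x') * mOf x' := by rw [hc]
        _ = (mOf x * mOf x) * (mOf x' * mOf x') := by group
    have h1 : x + x' = eP ((mOf x * mOf x') * (mOf x * mOf x')) := by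
      rw [hsq, eP_mul _ (C.sq_mem _ hm) _ (C.sq_mem _ hm'), mOf_sq, mOf_sq]
    rw [h1, f_spec y _ (Subgroup.mul_mem _ hm hm'),
      helper26_comm_mul_left _ _ _ (C.comm_mem _ hm' y),
      eP_mul _ (C.comm_mem _ hm y) _ (C.comm_mem _ hm' y)]
  have f_mul : ∀ y y' : P, ∀ x : GaloisField 2 S.n, f (y * y') x = f y x + f y' x := by
    intro y y' x
    change eP ⁅mOf x, y * y'⁆ = eP ⁅mOf x, y⁆ + eP ⁅mOf x, y'⁆
    rw [helper26_comm_mul_right _ _ _ (C.comm_mem _ (mOf_mem x) y'),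
      eP_mul _ (C.comm_mem _ (mOf_mem x) y) _ (C.comm_mem _ (mOf_mem x) y')]
  have f_ξ : ∀ y : P, ∀ x : GaloisField 2 S.n, f (S.ξ y) x = lam * f y (lam⁻¹ * x) := by
    intro y x
    have hm := mOf_mem x
    set m := mOf x with hmdef
    have hm' : S.ξ⁻¹ m ∈ C.M := helper26_inv_mem S C m hm
    have h1 : eP ((S.ξ⁻¹ m) * (S.ξ⁻¹ m)) = lam⁻¹ * x := by
      rw [← map_mul, eP_ξinv _ (C.sq_mem _ hm), hmdef, mOf_sq]
    rw [← h1, f_spec y _ hm', ← eP_ξ _ (C.comm_mem _ hm' y), map_commutatorElement]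
    have e : S.ξ (S.ξ⁻¹ m) = m := by simp
    rw [e]
  have f_eq_zero : ∀ y : P, (∀ x, f y x = 0) ↔ y ∈ Subgroup.centralizer (C.M : Set P) := by
    intro y
    constructor
    · intro h
      rw [Subgroup.mem_centralizer_iff]
      intro m hm
      have h1 := h (eP (m * m))
      rw [f_spec y m hm] at h1
      have h2 : ⁅m, y⁆ = 1 := eP_inj _ (C.comm_mem _ hm y) h1
      exact commutatorElement_eq_one_iff_mul_comm.1 h2
    · intro hy x
      change eP ⁅mOf x, y⁆ = 0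
      have h1 : mOf x * y = y * mOf x := Subgroup.mem_centralizer_iff.1 hy _ (mOf_mem x)
      rw [commutatorElement_eq_one_iff_mul_comm.2 h1, eP_one]
  have order_lam : orderOf lam = 2 ^ S.n - 1 := by
    change orderOf ((χ ξK : (GaloisField 2 S.n)ˣ) : GaloisField 2 S.n) = _
    rw [orderOf_units, orderOf_injective χ hχ.1 ξK, ← hξord]
    exact (Subgroup.orderOf_coe ξK).symm
  exact ⟨{ lam := lam, e := eP, f := f, order_lam := order_lam, e_mul := eP_mul, e_inj := eP_inj,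
           e_surj := eP_surj, e_ξ := eP_ξ, f_spec := f_spec, f_add := f_add, f_mul := f_mul,
           f_ξ := f_ξ, f_eq_zero := f_eq_zero }⟩

end main

end Cfsg.Agent.Helper26.Hig
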