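import Mathlib
import Cfsg.Agent.Lib.Helper12.SUOT0
import Cfsg.Agent.Lib.Helper12.SUOT_T14

/-!
# SUOT piece (T8z): the vector `z` and the unit vector `f` (helper26, for helper12's SUOT sub-server, S2282)
-/

set_option autoImplicit false

namespace Cfsg.Agent.Helper26.SUOT

open Matrix Cfsg Cfsg.Agent.Helper13 Cfsg.Agent.Helper87.PsuA Cfsg.Agent.Helper12.SUOT

variable {F : Type*} [Field F] [Fintype F] {q n : ℕ}

/-- the basis `b` extended by zero to all natural indices -/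
def h26BB (b : Fin n → Fin n → F) (a : ℕ) : Fin n → F := if h : a < n then b ⟨a, h⟩ else 0

theorem h26BB_eq (b : Fin n → Fin n → F) (a : ℕ) (h : a < n) : h26BB b a = b ⟨a, h⟩ := dif_pos h

theorem h26_H_one (hF : Fintype.card F = q ^ 2) {b : Fin n → Fin n → F} (hb : HB q b) (a c : ℕ)
    (h : a + c + 1 = n) : Cfsg.hermForm n F q (h26BB b a) (h26BB b c) = 1 := by
  rw [h26BB_eq b a (by omega), h26BB_eq b c (by omega), hb]
  rw [if_pos]
  apply Fin.ext
  rw [Fin.val_rev]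
  simp only
  omega

theorem h26_H_zero (hF : Fintype.card F = q ^ 2) {b : Fin n → Fin n → F} (hb : HB q b) (a c : ℕ)
    (h : a + c + 1 ≠ n) : Cfsg.hermForm n F q (h26BB b a) (h26BB b c) = 0 := by
  by_cases ha : a < n
  · by_cases hc : c < n
    · rw [h26BB_eq b a ha, h26BB_eq b c hc, hb]
      rw [if_neg]
      intro h'
      have := congrArg Fin.val h'
      rw [Fin.val_rev] at this
      simp only at this
      omega
    · unfold h26BB
      rw [dif_neg hc]
      exact H_zero_right hF _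
  · unfold h26BB
    rw [dif_neg ha]
    exact H_zero_left hF _

theorem h26_N_succ (hF : Fintype.card F = q ^ 2) {b : Fin n → Fin n → F} (hb : HB q b) (a c : ℕ)
    (hac : c + 1 = a) (ha : a < n) : Nm q b *ᵥ h26BB b a = h26BB b c := by
  rw [h26BB_eq b a ha, h26BB_eq b c (by omega)]
  exact Nm_b_succ hF hb _ _ hac

theorem h26_N_zero (hF : Fintype.card F = q ^ 2) {b : Fin n → Fin n → F} (hb : HB q b) (hn : 0 < n) :
    Nm q b *ᵥ h26BB b 0 = 0 := by
  rw [h26BB_eq b 0 hn]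
  exact Nm_b_zero hF hb _ rfl

theorem h26_exists_w (hF : Fintype.card F = q ^ 2) (al : F) : ∃ w : F, w + w ^ q = -(al * al ^ q) := by
  apply Cfsg.Agent.Helper87.PsuB0.exists_trace hF
  rw [frob_neg hF, mul_pow, frob_frob hF]
  ring

/-- (T8z) -/
theorem exists_z (hF : Fintype.card F = q ^ 2) {b : Fin n → Fin n → F} (hb : HB q b)
    (hn : 5 ≤ n) (hodd : Odd n) (al : F) :
    ∃ z f : Fin n → F,
      Cfsg.hermForm n F q z (b ⟨0, by omega⟩) = 0 ∧
      Cfsg.hermForm n F q z (b ⟨1, by omega⟩) = 1 ∧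
      Cfsg.hermForm n F q z (Nm q b *ᵥ z) = 0 ∧
      Cfsg.hermForm n F q (Nm q b *ᵥ z) (Nm q b *ᵥ z) = 1 ∧
      Cfsg.hermForm n F q z z = -(al * al ^ q) ∧
      Cfsg.hermForm n F q f f = 1 ∧
      Cfsg.hermForm n F q f (b ⟨0, by omega⟩) = 0 ∧
      Cfsg.hermForm n F q f (b ⟨1, by omega⟩) = 0 ∧
      Cfsg.hermForm n F q f z + al * Cfsg.hermForm n F q f (Nm q b *ᵥ z) = 0 := by
  obtain ⟨w, hw⟩ := h26_exists_w hF al
  have e0 : b ⟨0, by omega⟩ = h26BB b 0 := (h26BB_eq b 0 (by omega)).symm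
  have e1 : b ⟨1, by omega⟩ = h26BB b 1 := (h26BB_eq b 1 (by omega)).symm
  rw [e0, e1]
  obtain ⟨k, hk⟩ := hodd
  by_cases h5 : n = 5
  · -- `z = b_3 + w b_1`, `f = b_2 - al b_1`
    have hNz : Nm q b *ᵥ (h26BB b 3 + w • h26BB b 1) = h26BB b 2 + w • h26BB b 0 := by
      rw [Nm_mulVec_add, Nm_mulVec_smul, h26_N_succ hF hb 3 2 rfl (by omega),
        h26_N_succ hF hb 1 0 rfl (by omega)]
    refine ⟨h26BB b 3 + w • h26BB b 1, h26BB b 2 - al • h26BB b 1, ?_, ?_, ?_, ?_, ?_, ?_, ?_, ?_, ?_⟩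
    all_goals
      simp only [hNz, hermForm_add_left, hermForm_add_right hF, hermForm_smul_left, hermForm_smul_right,
        H_sub_left hF, H_sub_right hF]
      simp (disch := omega) only [h26_H_one hF hb, h26_H_zero hF hb]
      first | ring1 | linear_combination hw
  · -- `n = 2 k + 1 ≥ 7`: `z = b_(n-2) + b_(k+1) + w b_1`, `f = b_k - al b_1`
    obtain ⟨m, rfl⟩ : ∃ m, k = m + 3 := ⟨k - 3, by omega⟩
    have hNz : Nm q b *ᵥ (h26BB b (2 * m + 5) + h26BB b (m + 4) + w • h26BB b 1) =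
        h26BB b (2 * m + 4) + h26BB b (m + 3) + w • h26BB b 0 := by
      rw [Nm_mulVec_add, Nm_mulVec_add, Nm_mulVec_smul, h26_N_succ hF hb (2 * m + 5) (2 * m + 4) rfl (by omega),
        h26_N_succ hF hb (m + 4) (m + 3) rfl (by omega), h26_N_succ hF hb 1 0 rfl (by omega)]
    refine ⟨h26BB b (2 * m + 5) + h26BB b (m + 4) + w • h26BB b 1, h26BB b (m + 3) - al • h26BB b 1,
      ?_, ?_, ?_, ?_, ?_, ?_, ?_, ?_, ?_⟩
    all_goals
      simp only [hNz, hermForm_add_left, hermForm_add_right hF, hermForm_smul_left, hermForm_smul_right,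
        H_sub_left hF, H_sub_right hF]
      simp (disch := omega) only [h26_H_one hF hb, h26_H_zero hF hb]
      first | ring1 | linear_combination hw

end Cfsg.Agent.Helper26.SUOT
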