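import Mathlib
import Cfsg.Agent.Lib.Helper12.SUOT0
import Cfsg.Agent.Lib.Helper12.SUOT_T14
import Cfsg.Agent.Lib.Helper86.SUOT_T8a
import Cfsg.Agent.Lib.Helper26.SUOT_T8z

/-!
# SUOT piece (T8): the vector `p = z + al^q N z` (helper26, for helper12's SUOT sub-server, S2282)
-/

set_option autoImplicit false

namespace Cfsg.Agent.Helper26.SUOT

open Matrix Cfsg Cfsg.Agent.Helper13 Cfsg.Agent.Helper87.PsuA Cfsg.Agent.Helper12.SUOT

variable {F : Type*} [Field F] [Fintype F] {q n : ℕ}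

/-- (T8) assembled from T8a + T8z + T1/T2 -/
theorem exists_p (hF : Fintype.card F = q ^ 2) {b : Fin n → Fin n → F} (hb : HB q b)
    (hn : 5 ≤ n) (hodd : Odd n) (al : F) :
    ∃ p f : Fin n → F,
      Cfsg.hermForm n F q p p = 0 ∧
      Cfsg.hermForm n F q p (b ⟨0, by omega⟩) = 0 ∧
      Cfsg.hermForm n F q p (b ⟨1, by omega⟩) = 1 ∧
      Cfsg.hermForm n F q (actv (uEl q b al) p) p = al * (al - al ^ q) ∧
      Cfsg.hermForm n F q f f = 1 ∧
      Cfsg.hermForm n F q f p = 0 ∧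
      Cfsg.hermForm n F q f (b ⟨0, by omega⟩) = 0 ∧
      Cfsg.hermForm n F q f (b ⟨1, by omega⟩) = 0 := by
  obtain ⟨z, f, h1, h2, h3, h4, h5, h6, h7, h8, h9⟩ := exists_z hF hb hn hodd al
  have h3' : Cfsg.hermForm n F q (Nm q b *ᵥ z) z = 0 := H_symm_zero hF h3
  have hN0 : Nm q b *ᵥ b ⟨0, by omega⟩ = 0 := Nm_b_zero hF hb _ rfl
  have hN1 : Nm q b *ᵥ b ⟨1, by omega⟩ = b ⟨0, by omega⟩ := Nm_b_succ hF hb _ _ rfl
  have hpp : Cfsg.hermForm n F q (z + al ^ q • (Nm q b *ᵥ z)) (z + al ^ q • (Nm q b *ᵥ z)) = 0 := by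
    simp only [hermForm_add_left, hermForm_add_right hF, hermForm_smul_left, hermForm_smul_right,
      frob_frob hF, h3, h3', h4, h5]
    ring
  refine ⟨z + al ^ q • (Nm q b *ᵥ z), f, hpp, ?_, ?_, ?_, h6, ?_, h7, h8⟩
  · rw [hermForm_add_left, hermForm_smul_left, Nm_adj hF hb, hN0, H_zero_right hF, h1]
    ring
  · rw [hermForm_add_left, hermForm_smul_left, Nm_adj hF hb, hN1, h1, h2]
    ring
  · rw [Cfsg.Agent.Helper86.SUOT.hup_formula hF hb al z, hpp, h3, h4]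
    ring
  · rw [hermForm_add_right hF, hermForm_smul_right, frob_frob hF]
    exact h9

end Cfsg.Agent.Helper26.SUOT
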