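import Mathlib
import Cfsg.Agent.Lib.Helper67.BGCruxDefs
import Cfsg.Agent.Lib.Helper99.FrobFR
import Cfsg.Agent.Lib.Helper96.BGAsymPure

/-!
# (C9) of helper67's CRUX server: the pure Frobenius lemma (F')
-/

set_option autoImplicit false

namespace Cfsg.Agent.Helper26.BGCrux

open Subgroup Cfsg
open Cfsg.Agent.Helper52 (sylCard)
open Cfsg.Agent.Helper67.BGCrux

variable {G : Type*} [Group G] [Finite G]

/-- **(C9)** pure Frobenius lemma (F'): directly from `Helper99.FrobFR.frob_centralizes` with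
`hKgen` from `Helper96.BGAsym.le_closure_comm_of_fpf` (the commutativity of `K` is not needed). -/
theorem frob_le_centralizer {p q r : ℕ} (hp : p.Prime) (hq : q.Prime) (hr : r.Prime)
    (hp2 : p ≠ 2) (hq2 : q ≠ 2) (hpq : p ≠ q) (hpr : p ≠ r) (hqr : q ≠ r)
    (S K : Subgroup G) (x : G) (hS : IsPGroup p S) (hK : IsPGroup q K)
    (hKc : ∀ a ∈ K, ∀ b ∈ K, a * b = b * a)
    (hKS : K ≤ normalizer (S : Set G)) (hxS : x ∈ normalizer (S : Set G))
    (hxK : x ∈ normalizer (K : Set G)) (hxr : x ^ r = 1)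
    (hfpf : ∀ u ∈ K, x * u = u * x → u = 1)
    (hfix : S ⊓ centralizer ({x} : Set G) ≤ centralizer (K : Set G)) :
    S ≤ centralizer (K : Set G) := by
  have hKgen := Cfsg.Agent.Helper96.BGAsym.le_closure_comm_of_fpf K x hxK hfpf
  apply Cfsg.Agent.Helper99.FrobFR.frob_centralizes hp hq hr hp2 hq2 hpq hpr hqr S K x hS hK hKS
    hxS hxK hxr hKgen
  intro y hy hxy _
  apply hfix
  have hc : y ∈ centralizer ({x} : Set G) := by
    rw [mem_centralizer_iff]
    intro h hh
    rw [Set.mem_singleton_iff] at hh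
    subst hh
    exact hxy
  exact Subgroup.mem_inf.2 ⟨hy, hc⟩

end Cfsg.Agent.Helper26.BGCrux
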