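import Mathlib
import Cfsg.Agent.Lib.Helper62.SLN0
import Cfsg.Agent.Lib.Helper20.U2Rd

/-!
# SLN project (S2332): pieces R1, R2, R2', R4, R6 (helper26, for helper62's server)
-/

set_option autoImplicit false

namespace Cfsg.Agent.Helper26.SLN

open Matrix Module Cfsg.Agent.Helper93.U2 Cfsg.Agent.Helper62.SLN

section REPgen

variable {G : Type*} [Group G] {𝓐 : Type*} [AddCommGroup 𝓐] [Fintype 𝓐]
  {V : Type*} [AddCommGroup V] [Module ℂ V] [FiniteDimensional ℂ V]
  (pr : Pairing 𝓐) (el : 𝓐 → G) (ρ : Representation ℂ G V)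

omit [Fintype 𝓐] [FiniteDimensional ℂ V] in
/-- piece R1 -/
theorem map_wsp_conj (l : G) (θ θ' : 𝓐 → 𝓐) (hθ : Function.Surjective θ)
    (hl : ∀ b, l * el b * l⁻¹ = el (θ b)) (hβ : ∀ a b, pr.β a (θ b) = pr.β (θ' a) b)
    (a : 𝓐) (v : V) (hv : v ∈ wsp pr el ρ (θ' a)) : ρ l v ∈ wsp pr el ρ a := by
  rw [mem_wsp] at hv ⊢
  intro c
  obtain ⟨b, rfl⟩ := hθ c
  rw [← hl b, hβ, ← Module.End.mul_apply, ← map_mul, inv_mul_cancel_right, map_mul,
    Module.End.mul_apply, hv b, map_smul]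

omit [FiniteDimensional ℂ V] in
/-- the projector `eOp a0` on a family of weight vectors indexed by a subtype -/
theorem h26_eOp_sum_sub (p : 𝓐 → Prop) [DecidablePred p] (a0 : {a // p a})
    (f : ∀ a : {a // p a}, wsp pr el ρ a.1) :
    eOp pr el ρ a0.1 (∑ a, (f a : V)) = f a0 := by
  rw [map_sum, Finset.sum_eq_single a0]
  · exact Cfsg.Agent.Helper20.U2.eOp_self pr el ρ a0.1 _ (f a0).2
  · intro a _ hne
    exact Cfsg.Agent.Helper20.U2.eOp_other pr el ρ a0.1 a.1
      (fun e => hne (Subtype.ext e.symm)) _ (f a).2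
  · intro h
    exact absurd (Finset.mem_univ _) h

omit [FiniteDimensional ℂ V] in
/-- every vector is the sum of its weight components -/
theorem h26_decomp (hel : ∀ a b, el (a + b) = el a * el b) (v : V) :
    v = ∑ a : 𝓐, eOp pr el ρ a v := by
  have h := Cfsg.Agent.Helper20.U2.sum_eOp pr el ρ hel
  have h2 := congrArg (fun f : V →ₗ[ℂ] V => f v) h
  simp only [LinearMap.sum_apply, Module.End.one_apply] at h2
  exact h2.symm

omit [FiniteDimensional ℂ V] in
/-- the weight component for a weight that is not trivial on `B` of a vector fixed by `B` vanishes -/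
theorem h26_eOp_fix_zero (hel : ∀ a b, el (a + b) = el a * el b) (w : V) (b : 𝓐)
    (hfix : ρ (el b) w = w) (a : 𝓐) (hne : pr.β a b ≠ 1) : eOp pr el ρ a w = 0 := by
  classical
  have e1 : w = ∑ a' : 𝓐, pr.β a' b • eOp pr el ρ a' w := by
    calc w = ρ (el b) w := hfix.symm
      _ = ρ (el b) (∑ a' : 𝓐, eOp pr el ρ a' w) := by rw [← h26_decomp pr el ρ hel w]
      _ = ∑ a' : 𝓐, ρ (el b) (eOp pr el ρ a' w) := map_sum _ _ _
      _ = ∑ a' : 𝓐, pr.β a' b • eOp pr el ρ a' w := by
        apply Finset.sum_congr rfl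
        intro a' _
        exact (mem_wsp pr el ρ a' _).1 (Cfsg.Agent.Helper20.U2.eOp_mem_wsp pr el ρ hel a' w) b
  have e2 : eOp pr el ρ a w = pr.β a b • eOp pr el ρ a w := by
    have h := h26_eOp_sum_sub pr el ρ (fun _ => True) ⟨a, trivial⟩
      (fun a' => ⟨pr.β a'.1 b • eOp pr el ρ a'.1 w,
        Submodule.smul_mem _ _ (Cfsg.Agent.Helper20.U2.eOp_mem_wsp pr el ρ hel a'.1 w)⟩)
    simp only at h
    have h3 : (∑ a' : {a // True}, pr.β a'.1 b • eOp pr el ρ a'.1 w)
        = ∑ a' : 𝓐, pr.β a' b • eOp pr el ρ a' w :=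
      (Finset.sum_subtype (Finset.univ : Finset 𝓐) (p := fun _ => True) (by simp)
        (fun a' => pr.β a' b • eOp pr el ρ a' w)).symm
    rw [h3, ← e1] at h
    exact h
  have h0 : (1 - pr.β a b) • eOp pr el ρ a w = 0 := by
    rw [sub_smul, one_smul, ← e2, sub_self]
  rcases smul_eq_zero.1 h0 with h | h
  · exact absurd (sub_eq_zero.1 h).symm hne
  · exact h

/-- piece R2' : more generally for the fixed space of a subgroup `{el b : b ∈ B}` -/
theorem finrank_fixSp_eq_sum_wsp (hel : ∀ a b, el (a + b) = el a * el b) (B : AddSubgroup 𝓐)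
    [DecidablePred fun a : 𝓐 => ∀ b ∈ B, pr.β a b = 1] :
    finrank ℂ (fixSp ρ (el '' (B : Set 𝓐))) =
      ∑ a ∈ Finset.univ.filter (fun a : 𝓐 => ∀ b ∈ B, pr.β a b = 1), finrank ℂ (wsp pr el ρ a) := by
  -- weight spaces of good weights are fixed
  have h1 : ∀ a : 𝓐, (∀ b ∈ B, pr.β a b = 1) → wsp pr el ρ a ≤ fixSp ρ (el '' (B : Set 𝓐)) := by
    intro a ha v hv
    rw [mem_fixSp]
    rintro g ⟨b, hb, rfl⟩
    rw [(mem_wsp pr el ρ a v).1 hv b, ha b hb, one_smul]
  -- bad components of fixed vectors vanish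
  have h2 : ∀ w ∈ fixSp ρ (el '' (B : Set 𝓐)), ∀ a : 𝓐, ¬ (∀ b ∈ B, pr.β a b = 1) →
      eOp pr el ρ a w = 0 := by
    intro w hw a ha
    push Not at ha
    obtain ⟨b, hb, hne⟩ := ha
    exact h26_eOp_fix_zero pr el ρ hel w b ((mem_fixSp ρ _ w).1 hw _ ⟨b, hb, rfl⟩) a hne
  -- the equivalence
  have e : (fixSp ρ (el '' (B : Set 𝓐))) ≃ₗ[ℂ]
      (∀ a : {a : 𝓐 // ∀ b ∈ B, pr.β a b = 1}, wsp pr el ρ a.1) :=
    { toFun := fun w a => ⟨eOp pr el ρ a.1 w.1,
        Cfsg.Agent.Helper20.U2.eOp_mem_wsp pr el ρ hel a.1 w.1⟩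
      map_add' := by
        intro x y
        funext a
        apply Subtype.ext
        simp
      map_smul' := by
        intro c x
        funext a
        apply Subtype.ext
        simp
      invFun := fun f => ⟨∑ a, (f a : V),
        Submodule.sum_mem _ (fun a _ => h1 a.1 a.2 (f a).2)⟩
      left_inv := by
        intro w
        apply Subtype.ext
        change ∑ a : {a : 𝓐 // ∀ b ∈ B, pr.β a b = 1}, eOp pr el ρ a.1 w.1 = w.1
        have hs : (∑ a : {a : 𝓐 // ∀ b ∈ B, pr.β a b = 1}, eOp pr el ρ a.1 w.1)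
            = ∑ a ∈ Finset.univ.filter (fun a : 𝓐 => ∀ b ∈ B, pr.β a b = 1),
                eOp pr el ρ a w.1 :=
          (Finset.sum_subtype (Finset.univ.filter (fun a : 𝓐 => ∀ b ∈ B, pr.β a b = 1))
            (by simp) (fun a => eOp pr el ρ a w.1)).symm
        rw [hs, Finset.sum_filter]
        conv_rhs => rw [h26_decomp pr el ρ hel w.1]
        apply Finset.sum_congr rfl
        intro a _
        split_ifs with h
        · rfl
        · exact (h2 w.1 w.2 a h).symm
      right_inv := by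
        intro f
        funext a
        apply Subtype.ext
        exact h26_eOp_sum_sub pr el ρ _ a f }
  rw [e.finrank_eq, Module.finrank_pi_fintype]
  exact (Finset.sum_subtype (Finset.univ.filter (fun a : 𝓐 => ∀ b ∈ B, pr.β a b = 1))
    (by simp) (fun a => finrank ℂ (wsp pr el ρ a))).symm

/-- piece R2 : `V` is the direct sum of the weight spaces -/
theorem finrank_eq_sum_wsp (hel : ∀ a b, el (a + b) = el a * el b) :
    finrank ℂ V = ∑ a : 𝓐, finrank ℂ (wsp pr el ρ a) := by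
  classical
  have h := finrank_fixSp_eq_sum_wsp pr el ρ hel (⊥ : AddSubgroup 𝓐)
  have hall : ∀ a : 𝓐, ∀ b ∈ (⊥ : AddSubgroup 𝓐), pr.β a b = 1 := by
    intro a b hb
    rw [AddSubgroup.mem_bot] at hb
    rw [hb, pr.zero_right]
  have hel0 : el 0 = 1 := by
    have := hel 0 0
    rw [add_zero] at this
    exact (mul_eq_left.1 this.symm)
  have htop : fixSp ρ (el '' ((⊥ : AddSubgroup 𝓐) : Set 𝓐)) = ⊤ := by
    rw [eq_top_iff]
    intro v _
    rw [mem_fixSp]
    rintro g ⟨b, hb, rfl⟩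
    have hb' : b = 0 := hb
    rw [hb', hel0, map_one, Module.End.one_apply]
  rw [htop, finrank_top] at h
  rw [h, Finset.filter_true_of_mem (fun a _ => hall a)]

omit [Fintype 𝓐] in
/-- piece R4 : a commutator of two elements stabilising a line acts trivially on it -/
theorem comm_fix_line {G : Type*} [Group G] (ρ : Representation ℂ G V) (W : Submodule ℂ V)
    (hW : finrank ℂ W ≤ 1) (a b : G)
    (ha : ∀ v ∈ W, ρ a v ∈ W) (hb : ∀ v ∈ W, ρ b v ∈ W) : ∀ v ∈ W, ρ (a * b * a⁻¹ * b⁻¹) v = v := by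
  intro v hv
  by_cases hv0 : v = 0
  · rw [hv0, map_zero]
  -- `W` is spanned by `v`
  have hspan : ∀ w ∈ W, ∃ c : ℂ, w = c • v := by
    intro w hw
    have h1 : finrank ℂ W = 1 := by
      apply le_antisymm hW
      rw [Nat.succ_le_iff, Module.finrank_pos_iff_exists_ne_zero]
      exact ⟨⟨v, hv⟩, fun h => hv0 (congrArg Subtype.val h)⟩
    have h2 := (finrank_eq_one_iff_of_nonzero' (⟨v, hv⟩ : W)
      (fun h => hv0 (congrArg Subtype.val h))).1 h1 ⟨w, hw⟩
    obtain ⟨c, hc⟩ := h2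
    exact ⟨c, (congrArg Subtype.val hc).symm⟩
  obtain ⟨α, hα⟩ := hspan _ (ha v hv)
  obtain ⟨β, hβ⟩ := hspan _ (hb v hv)
  -- `ρ a⁻¹ v = α⁻¹ v`, `ρ b⁻¹ v = β⁻¹ v`
  have hα0 : α ≠ 0 := by
    intro h0
    rw [h0, zero_smul] at hα
    have : ρ a⁻¹ (ρ a v) = v := by
      rw [← Module.End.mul_apply, ← map_mul, inv_mul_cancel, map_one, Module.End.one_apply]
    rw [hα, map_zero] at this
    exact hv0 this.symm
  have hβ0 : β ≠ 0 := by
    intro h0
    rw [h0, zero_smul] at hβ
    have : ρ b⁻¹ (ρ b v) = v := by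
      rw [← Module.End.mul_apply, ← map_mul, inv_mul_cancel, map_one, Module.End.one_apply]
    rw [hβ, map_zero] at this
    exact hv0 this.symm
  have hinv : ∀ (t : G) (x : V), ρ t⁻¹ (ρ t x) = x := by
    intro t x
    rw [← Module.End.mul_apply, ← map_mul, inv_mul_cancel, map_one, Module.End.one_apply]
  have hai : ρ a⁻¹ v = α⁻¹ • v := by
    have h := hinv a v
    rw [hα, map_smul] at h
    calc ρ a⁻¹ v = α⁻¹ • (α • ρ a⁻¹ v) := by rw [smul_smul, inv_mul_cancel₀ hα0, one_smul]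
      _ = α⁻¹ • v := by rw [h]
  have hbi : ρ b⁻¹ v = β⁻¹ • v := by
    have h := hinv b v
    rw [hβ, map_smul] at h
    calc ρ b⁻¹ v = β⁻¹ • (β • ρ b⁻¹ v) := by rw [smul_smul, inv_mul_cancel₀ hβ0, one_smul]
      _ = β⁻¹ • v := by rw [h]
  rw [map_mul, map_mul, map_mul, Module.End.mul_apply, Module.End.mul_apply, Module.End.mul_apply]
  simp only [hbi, hai, hβ, hα, map_smul, smul_smul]
  convert one_smul ℂ v using 2
  field_simp

omit [Fintype 𝓐] in
/-- piece R6 : conjugate sets have fixed spaces of the same dimension -/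
theorem finrank_fixSp_conj {G : Type*} [Group G] (ρ : Representation ℂ G V) (s : G) (S : Set G) :
    finrank ℂ (fixSp ρ ((fun g => s * g * s⁻¹) '' S)) = finrank ℂ (fixSp ρ S) := by
  have hinv : ∀ (t : G) (v : V), ρ t⁻¹ (ρ t v) = v := by
    intro t v
    rw [← Module.End.mul_apply, ← map_mul, inv_mul_cancel, map_one, Module.End.one_apply]
  have hinv' : ∀ (t : G) (v : V), ρ t (ρ t⁻¹ v) = v := by
    intro t v
    rw [← Module.End.mul_apply, ← map_mul, mul_inv_cancel, map_one, Module.End.one_apply]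
  have e : (fixSp ρ S) ≃ₗ[ℂ] (fixSp ρ ((fun g => s * g * s⁻¹) '' S)) :=
    { toFun := fun v => ⟨ρ s v.1, by
        rw [mem_fixSp]
        rintro g ⟨g0, hg0, rfl⟩
        rw [← Module.End.mul_apply, ← map_mul, inv_mul_cancel_right, map_mul,
          Module.End.mul_apply, (mem_fixSp ρ S v.1).1 v.2 g0 hg0]⟩
      map_add' := by
        intro x y
        apply Subtype.ext
        simp
      map_smul' := by
        intro c x
        apply Subtype.ext
        simp
      invFun := fun w => ⟨ρ s⁻¹ w.1, by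
        rw [mem_fixSp]
        intro g hg
        have hw := (mem_fixSp ρ _ w.1).1 w.2 (s * g * s⁻¹) ⟨g, hg, rfl⟩
        have : ρ g (ρ s⁻¹ w.1) = ρ s⁻¹ (ρ (s * g * s⁻¹) w.1) := by
          rw [← Module.End.mul_apply, ← Module.End.mul_apply, ← map_mul, ← map_mul]
          congr 2
          group
        rw [this, hw]⟩
      left_inv := by
        intro v
        apply Subtype.ext
        exact hinv s v.1
      right_inv := by
        intro w
        apply Subtype.ext
        exact hinv' s w.1 }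
  exact e.finrank_eq.symm

end REPgen

end Cfsg.Agent.Helper26.SLN
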