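import Mathlib
import Cfsg.Agent.Lib.Helper7.CWDefs

/-!
# CW (F3a) `frame_pair` for helper7's lemma server (row S0406), second seat (helper26)

The coordinate lattice of a frame contains `4e_i ± 4e_j` and has constant parity.
-/

set_option autoImplicit false
open Matrix

namespace Cfsg.Agent.Helper26.CW
open Cfsg Cfsg.Agent.Helper7.CW

variable {Λ : AddSubgroup V}

theorem frame_pair (B : Matrix (Fin 24) (Fin 24) ℤ) (hsymm : B.IsSymm) (v : Fin 24 → V)
    (hv8 : ∀ i, (v i) ⬝ᵥ (B *ᵥ (v i)) = 8)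
    (hv0 : ∀ i j, i ≠ j → (v i) ⬝ᵥ (B *ᵥ (v j)) = 0)
    (hv2 : ∀ i j k, (2 : ℤ) ∣ (v i - v j) k) :
    (∀ i j : Fin 24, i ≠ j →
      ((Pi.single i 4 + Pi.single j 4 : V) ∈ (coord B v).range ∧
        (Pi.single i 4 - Pi.single j 4 : V) ∈ (coord B v).range)) ∧
    (∀ y ∈ (coord B v).range, ∀ i j : Fin 24, (2 : ℤ) ∣ y i - y j) := by
  have hG : ∀ a b : Fin 24, (v a) ⬝ᵥ (B *ᵥ (v b)) = if b = a then 8 else 0 := by
    intro a b
    split_ifs with h
    · subst h; exact hv8 b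
    · exact hv0 a b (fun h' => h h'.symm)
  have hmain : ∀ i j : Fin 24, ∃ z : V, (2 : ℤ) • z = v i - v j := by
    intro i j
    refine ⟨fun k => (v i - v j) k / 2, ?_⟩
    funext k
    simp only [Pi.smul_apply, smul_eq_mul]
    exact Int.mul_ediv_cancel' (hv2 i j k)
  refine ⟨?_, ?_⟩
  · intro i j hij
    obtain ⟨z, hz⟩ := hmain i j
    have hcz : ∀ k, coord B v z k = (if k = i then 4 else 0) - (if k = j then 4 else 0) := by
      intro k
      have h1 : 2 * coord B v z k = (v i) ⬝ᵥ (B *ᵥ v k) - (v j) ⬝ᵥ (B *ᵥ v k) := by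
        rw [coord_apply, ← sub_dotProduct, ← hz, smul_dotProduct, smul_eq_mul]
      rw [hG, hG] at h1
      split_ifs at h1 ⊢ <;> omega
    constructor
    · refine ⟨z + v j, ?_⟩
      funext k
      rw [map_add, Pi.add_apply, hcz k, coord_apply, hG j k, Pi.add_apply, Pi.single_apply,
        Pi.single_apply]
      split_ifs <;> omega
    · refine ⟨z, ?_⟩
      funext k
      rw [hcz k, Pi.sub_apply, Pi.single_apply, Pi.single_apply]
  · rintro y ⟨x, rfl⟩ i j
    obtain ⟨z, hz⟩ := hmain i j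
    refine ⟨x ⬝ᵥ (B *ᵥ z), ?_⟩
    rw [coord_apply, coord_apply, ← dotProduct_sub, ← mulVec_sub, ← hz, mulVec_smul,
      dotProduct_smul, smul_eq_mul]

end Cfsg.Agent.Helper26.CW
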