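import Mathlib
import Cfsg.Agent.Lib.Helper7.CWDefs

/-!
# CW (F3b) `frame_CL` for helper7's lemma server (row S0406), second seat (helper26)

The coordinate lattice of a frame is a Conway lattice and `coord` is injective.
-/

set_option autoImplicit false
open Matrix

namespace Cfsg.Agent.Helper26.CW
open Cfsg Cfsg.Agent.Helper7.CW

variable {Λ : AddSubgroup V}

theorem frame_CL (B : Matrix (Fin 24) (Fin 24) ℤ)
    (hpos : ∀ x : Fin 24 → ℤ, x ≠ 0 → 0 < x ⬝ᵥ (B *ᵥ x))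
    (heven : ∀ x : Fin 24 → ℤ, (2 : ℤ) ∣ x ⬝ᵥ (B *ᵥ x))
    (h2 : ∀ x : Fin 24 → ℤ, x ⬝ᵥ (B *ᵥ x) ≠ 2)
    (h4 : {x : Fin 24 → ℤ | x ⬝ᵥ (B *ᵥ x) = 4}.ncard = 196560)
    (v : Fin 24 → V)
    (hP : ∀ x : V, ∑ i, (coord B v x i) ^ 2 = 8 * (x ⬝ᵥ (B *ᵥ x)))
    (hpair : ∀ i j : Fin 24, i ≠ j →
      ((Pi.single i 4 + Pi.single j 4 : V) ∈ (coord B v).range ∧
        (Pi.single i 4 - Pi.single j 4 : V) ∈ (coord B v).range))
    (hpar : ∀ y ∈ (coord B v).range, ∀ i j : Fin 24, (2 : ℤ) ∣ y i - y j) :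
    CL (coord B v).range ∧ Function.Injective (coord B v) := by
  have hinj : Function.Injective (coord B v) := by
    rw [injective_iff_map_eq_zero]
    intro x hx
    by_contra hne
    have h1 := hP x
    rw [hx] at h1
    have h3 := hpos x hne
    simp at h1
    omega
  refine ⟨⟨hpair, hpar, ?_, ?_, ?_⟩, hinj⟩
  · rintro y ⟨x, rfl⟩ hy
    have hx : x ≠ 0 := by
      rintro rfl
      exact hy (map_zero _)
    rw [hP x]
    have h3 := hpos x hx
    obtain ⟨k, hk⟩ := heven x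
    have h5 := h2 x
    omega
  · rintro y ⟨x, rfl⟩
    rw [hP x]
    obtain ⟨k, hk⟩ := heven x
    rw [hk]
    exact ⟨k, by ring⟩
  · have hset : {y : V | y ∈ (coord B v).range ∧ ∑ i, y i ^ 2 = 32} =
        (coord B v) '' {x | x ⬝ᵥ (B *ᵥ x) = 4} := by
      ext y
      constructor
      · rintro ⟨⟨x, rfl⟩, hs⟩
        refine ⟨x, ?_, rfl⟩
        rw [hP x] at hs
        show x ⬝ᵥ (B *ᵥ x) = 4
        omega
      · rintro ⟨x, hx, rfl⟩
        refine ⟨⟨x, rfl⟩, ?_⟩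
        have hx' : x ⬝ᵥ (B *ᵥ x) = 4 := hx
        rw [hP x, hx']
        norm_num
    rw [hset, Set.ncard_image_of_injective _ hinj, h4]

end Cfsg.Agent.Helper26.CW
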