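import Mathlib
import Cfsg.Agent.Lib.Helper7.CWDefs

/-!
# CW (N4b) `count_oct` for helper7's lemma server (row S0406), second seat (helper26)

At most `2^7` minimal vectors `2a` over a given octad `w`: `a = ±1` on the support of `w` and `0` off it;
the signs on seven points of the support determine `a` (by `hK` applied to `a - a'`).
-/

set_option autoImplicit false
open Matrix

namespace Cfsg.Agent.Helper26.CW
open Cfsg Cfsg.Agent.Helper7.CW

variable {Λ : AddSubgroup V}

theorem n4b_struct (w : Fin 24 → ZMod 2) (hw : hammingNorm w = 8) (a : V) (hr : redV a = w)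
    (hs : ∑ i, a i ^ 2 = 8) :
    (∀ i, w i ≠ 0 → a i = 1 ∨ a i = -1) ∧ (∀ i, w i = 0 → a i = 0) := by
  classical
  have hodd : ∀ i, w i ≠ 0 → a i ≠ 0 := by
    intro i hi h0
    apply hi
    rw [← hr]
    simp [redV, h0]
  have ht : ∀ i ∈ (Finset.univ : Finset (Fin 24)),
      0 ≤ a i ^ 2 - (if w i ≠ 0 then (1 : ℤ) else 0) := by
    intro i _
    split_ifs with hi
    · have h0 := hodd i hi
      have h1 : 0 < a i ^ 2 := by positivity
      omega
    · have := sq_nonneg (a i)
      omega
  have hcard : (Finset.univ.filter (fun i => w i ≠ 0)).card = 8 := hw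
  have hsum : ∑ i, (a i ^ 2 - (if w i ≠ 0 then (1 : ℤ) else 0)) = 0 := by
    rw [Finset.sum_sub_distrib, hs, Finset.sum_boole, hcard]
    norm_num
  have hz := (Finset.sum_eq_zero_iff_of_nonneg ht).mp hsum
  constructor
  · intro i hi
    have h1 := hz i (Finset.mem_univ i)
    rw [if_pos hi] at h1
    have h2 : (a i - 1) * (a i + 1) = 0 := by
      have : a i ^ 2 = 1 := by omega
      nlinarith
    rcases mul_eq_zero.mp h2 with h | h
    · left; omega
    · right; omega
  · intro i hi
    have h1 := hz i (Finset.mem_univ i)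
    rw [if_neg (not_not.mpr hi), sub_zero] at h1
    exact pow_eq_zero_iff (two_ne_zero) |>.mp h1

theorem count_oct (h : CL Λ)
    (hK : ∀ a : V, dbl a ∈ Λ → (∀ i, (2 : ℤ) ∣ a i) → (4 : ℤ) ∣ ∑ i, a i)
    (w : Fin 24 → ZMod 2) (hw : hammingNorm w = 8) :
    {a : V | dbl a ∈ Λ ∧ redV a = w ∧ ∑ i, a i ^ 2 = 8}.ncard ≤ 128 := by
  classical
  set S : Finset (Fin 24) := Finset.univ.filter (fun i => w i ≠ 0) with hS
  have hScard : S.card = 8 := hw
  obtain ⟨s₀, hs₀⟩ : S.Nonempty := by
    rw [← Finset.card_pos, hScard]; norm_num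
  set T := S.erase s₀ with hT
  have hTcard : T.card = 7 := by rw [hT, Finset.card_erase_of_mem hs₀, hScard]
  have hws₀ : w s₀ ≠ 0 := by simpa [hS] using hs₀
  refine le_trans (Set.ncard_le_ncard_of_injOn (fun a : V => T.filter (fun i => a i = 1))
    (t := ↑(T.powerset)) ?_ ?_ (Finset.finite_toSet _)) ?_
  · intro a _
    simp only [Finset.coe_powerset, Set.mem_preimage, Set.mem_powerset_iff, Finset.coe_subset]
    exact Finset.filter_subset _ _
  · rintro a ⟨ha1, ha2, ha3⟩ a' ⟨ha1', ha2', ha3'⟩ heq
    obtain ⟨p1, p0⟩ := n4b_struct w hw a ha2 ha3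
    obtain ⟨p1', p0'⟩ := n4b_struct w hw a' ha2' ha3'
    have hagree : ∀ i ∈ T, a i = a' i := by
      intro i hi
      have hiS : w i ≠ 0 := by
        have := Finset.mem_of_mem_erase hi
        simpa [hS] using this
      have e : (a i = 1 ↔ a' i = 1) := by
        have h1 : i ∈ T.filter (fun i => a i = 1) ↔ i ∈ T.filter (fun i => a' i = 1) := by
          simp only at heq
          rw [heq]
        simpa [hi] using h1
      rcases p1 i hiS with h1 | h1 <;> rcases p1' i hiS with h2 | h2
      · rw [h1, h2]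
      · exfalso; have := e.mp h1; omega
      · exfalso; have := e.mpr h2; omega
      · rw [h1, h2]
    have hoff : ∀ i, i ≠ s₀ → a i = a' i := by
      intro i hi
      by_cases hw0 : w i = 0
      · rw [p0 i hw0, p0' i hw0]
      · apply hagree
        rw [hT, Finset.mem_erase]
        exact ⟨hi, by simp [hS, hw0]⟩
    have hc : dbl (a - a') ∈ Λ := by
      have : dbl (a - a') = dbl a - dbl a' := by
        funext i; simp [dbl, mul_sub]
      rw [this]
      exact Λ.sub_mem ha1 ha1'
    have heven : ∀ i, (2 : ℤ) ∣ (a - a') i := by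
      intro i
      by_cases hi : i = s₀
      · subst hi
        rcases p1 i hws₀ with h1 | h1 <;> rcases p1' i hws₀ with h2 | h2 <;>
          simp [Pi.sub_apply, h1, h2]
      · rw [Pi.sub_apply, hoff i hi, sub_self]
        exact dvd_zero _
    have h4 := hK _ hc heven
    have hsum : ∑ i, (a - a') i = (a - a') s₀ := by
      apply Finset.sum_eq_single s₀
      · intro i _ hi
        rw [Pi.sub_apply, hoff i hi, sub_self]
      · intro hh
        exact absurd (Finset.mem_univ _) hh
    rw [hsum, Pi.sub_apply] at h4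
    funext i
    by_cases hi : i = s₀
    · subst hi
      rcases p1 i hws₀ with h1 | h1 <;> rcases p1' i hws₀ with h2 | h2
      · rw [h1, h2]
      · exfalso; rw [h1, h2] at h4; omega
      · exfalso; rw [h1, h2] at h4; omega
      · rw [h1, h2]
    · exact hoff i hi
  · rw [Set.ncard_coe_finset, Finset.card_powerset, hTcard]
    norm_num

end Cfsg.Agent.Helper26.CW
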