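import Mathlib
import Cfsg.Prelude.Def_Transfer
import Cfsg.Agent.Lib.Helper24.CYCDefs
import Cfsg.Agent.Lib.Helper4.CYCG1
import Cfsg.Agent.Lib.Helper61.CYCTools

/-!
Piece (G2) `exists_hom_units` of helper24's lemma server "CYC" (row S4016), second seat (helper26):
`N_G(P)/C_G(P)` embeds in `(ZMod p)ˣ` for a cyclic Sylow `p`-subgroup `P`.

Route: `P = ⟨g⟩` of order `p ^ (k+1)`, `a = g ^ p ^ k` of order `p`; `x a x⁻¹ = a ^ m` for `x ∈ N_G(P)` and
`x ↦ m mod p` is a monoid hom into `ZMod p`, hence into the units. Its kernel is `C_{N_G(P)}(a)`, which is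
`C_G(P)`: `p'`-elements by (G1), `p`-elements lie in the abelian `P`.
-/

set_option autoImplicit false
set_option linter.unusedSectionVars false

namespace Cfsg.Agent.Helper26.CYC

open Subgroup Cfsg.Agent.Helper24.CYC

universe u

variable {G : Type u} [Group G] [Finite G] {p : ℕ} [Fact p.Prime]

theorem exists_hom_units (P : Sylow p G) (hcyc : IsCyclic P) :
    ∃ f : ↥(NP P) →* (ZMod p)ˣ, ∀ x : ↥(NP P), f x = 1 ↔ (x : G) ∈ CP P := by
  classical
  have hp : p.Prime := Fact.out
  obtain ⟨⟨g, hgP⟩, hg⟩ := hcyc.exists_generator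
  have hpow : ∀ b ∈ (P : Subgroup G), ∃ k : ℕ, g ^ k = b := by
    intro b hb
    have h1 := hg ⟨b, hb⟩
    rw [← mem_powers_iff_mem_zpowers] at h1
    obtain ⟨k, hk⟩ := h1
    exact ⟨k, by simpa using congrArg Subtype.val hk⟩
  obtain ⟨n, hn⟩ : ∃ n, orderOf g = p ^ n := by
    obtain ⟨k, hk⟩ := P.2 ⟨g, hgP⟩
    have h1 : g ^ (p ^ k) = 1 := by simpa using congrArg Subtype.val hk
    have h2 := orderOf_dvd_of_pow_eq_one h1
    obtain ⟨n, -, hn⟩ := (Nat.dvd_prime_pow hp).mp h2
    exact ⟨n, hn⟩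
  have hab : ∀ b ∈ (P : Subgroup G), ∀ c ∈ (P : Subgroup G), b * c = c * b := by
    intro b hb c hc
    obtain ⟨i, rfl⟩ := hpow b hb
    obtain ⟨j, rfl⟩ := hpow c hc
    rw [← pow_add, ← pow_add, add_comm]
  rcases Nat.eq_zero_or_pos n with rfl | hnpos
  · have hg1 : g = 1 := by
      rw [pow_zero, orderOf_eq_one_iff] at hn; exact hn
    have hP1 : ∀ b ∈ (P : Subgroup G), b = 1 := by
      intro b hb
      obtain ⟨k, rfl⟩ := hpow b hb
      rw [hg1, one_pow]
    refine ⟨1, fun x => ⟨fun _ => ?_, fun _ => rfl⟩⟩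
    rw [Subgroup.mem_centralizer_iff]
    intro b hb
    rw [hP1 b hb]; simp
  · obtain ⟨k, rfl⟩ : ∃ k, n = k + 1 := ⟨n - 1, by omega⟩
    set a := g ^ p ^ k with ha
    have haP : a ∈ (P : Subgroup G) := pow_mem hgP _
    have hoa : orderOf a = p := by
      rw [ha, orderOf_pow_of_dvd (pow_ne_zero k hp.ne_zero) (by rw [hn]; exact pow_dvd_pow p (Nat.le_succ k)),
        hn, pow_succ, Nat.mul_div_cancel_left _ (pow_pos hp.pos k)]
    have ha1 : a ≠ 1 := by
      intro h
      rw [h, orderOf_one] at hoa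
      exact hp.one_lt.ne hoa
    have hz : ∀ x : ↥(NP P), ∃ m : ℕ, a ^ m = (x : G) * a * (x : G)⁻¹ := by
      intro x
      have hconj : (x : G) * g * (x : G)⁻¹ ∈ (P : Subgroup G) :=
        (mem_normalizer_iff.mp x.2 g).mp hgP
      obtain ⟨m, hm⟩ := hpow _ hconj
      refine ⟨m, ?_⟩
      rw [ha, ← conj_pow, ← hm, ← pow_mul, ← pow_mul, mul_comm]
    have hkey : ∀ (x : ↥(NP P)) (m : ℕ), a ^ m = (x : G) * a * (x : G)⁻¹ →
        ((Classical.choose (hz x) : ℕ) : ZMod p) = (m : ZMod p) := by
      intro x m hm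
      have h1 := Classical.choose_spec (hz x)
      have h2 : a ^ Classical.choose (hz x) = a ^ m := by rw [h1, hm]
      rw [pow_eq_pow_iff_modEq, hoa] at h2
      exact (ZMod.natCast_eq_natCast_iff _ _ _).mpr h2
    let e : ↥(NP P) →* ZMod p :=
      { toFun := fun x => ((Classical.choose (hz x) : ℕ) : ZMod p)
        map_one' := by
          have := hkey 1 1 (by simp)
          simpa using this
        map_mul' := by
          intro x y
          obtain ⟨mx, hmx⟩ := hz x
          obtain ⟨my, hmy⟩ := hz y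
          have hxy : a ^ (mx * my) =
              ((x * y : ↥(NP P)) : G) * a * ((x * y : ↥(NP P)) : G)⁻¹ := by
            rw [pow_mul, hmx, conj_pow, hmy]
            simp [mul_assoc]
          rw [hkey _ _ hxy, hkey x mx hmx, hkey y my hmy, Nat.cast_mul] }
    refine ⟨e.toHomUnits, fun x => ?_⟩
    have hfx : e.toHomUnits x = 1 ↔ (x : G) * a = a * (x : G) := by
      rw [Units.ext_iff, MonoidHom.coe_toHomUnits, Units.val_one]
      obtain ⟨m, hm⟩ := hz x
      show ((Classical.choose (hz x) : ℕ) : ZMod p) = 1 ↔ _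
      rw [hkey x m hm]
      have h1 : (m : ZMod p) = 1 ↔ a ^ m = a ^ 1 := by
        rw [pow_eq_pow_iff_modEq, hoa, ← ZMod.natCast_eq_natCast_iff, Nat.cast_one]
      rw [h1, hm, pow_one]
      constructor
      · intro h
        calc (x : G) * a = ((x : G) * a * (x : G)⁻¹) * (x : G) := by group
          _ = a * (x : G) := by rw [h]
      · intro h
        rw [h]; group
    rw [hfx]
    constructor
    · intro hxa
      by_contra hxC
      have hp' : ∀ y ∈ (NP P ⊓ Subgroup.centralizer {a} : Subgroup G), (orderOf y).Coprime p →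
          y ∈ CP P := by
        intro y hy hyp
        have hya : y * a = a * y := by
          have := Subgroup.mem_centralizer_iff.mp hy.2 a (Set.mem_singleton a)
          exact this.symm
        have h2 := Cfsg.Agent.Helper4.CYC.fpf_cyclic (p := p) (P : Subgroup G) P.2 hcyc y hy.1 hyp a
          haP ha1 hya
        rw [Subgroup.mem_centralizer_iff]
        intro b hb
        exact (h2 b hb).symm
      have hxN : (x : G) ∈ (NP P ⊓ Subgroup.centralizer {a} : Subgroup G) := by
        refine Subgroup.mem_inf.mpr ⟨x.2, ?_⟩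
        rw [Subgroup.mem_centralizer_iff]
        intro b hb
        rw [Set.mem_singleton_iff] at hb
        rw [hb]; exact hxa.symm
      obtain ⟨d, hdN, hdC, j, hdj⟩ :=
        Cfsg.Agent.Helper61.CYC.h61_exists_pelem (p := p) _ _ hp' (x : G) hxN hxC
      have hdP : d ∈ P :=
        Cfsg.Agent.Helper61.CYC.h61_mem_sylow_of_mem_normalizer P d hdN.1 j hdj
      apply hdC
      rw [Subgroup.mem_centralizer_iff]
      intro b hb
      exact hab b hb d hdP
    · intro hx
      exact (Subgroup.mem_centralizer_iff.mp hx a haP).symm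

end Cfsg.Agent.Helper26.CYC
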