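import Mathlib

set_option autoImplicit false

namespace Cfsg.Agent.Helper26

open Matrix

/-! ### The Fano plane on `Fin 7` and `GL₃(2)` -/

/-- The third point of the line through two points (labels `k + 1`, lines = xor-zero triples). -/
def third7 (i j : Fin 7) : Fin 7 :=
  ⟨(Nat.xor (i.1 + 1) (j.1 + 1) - 1) % 7, Nat.mod_lt _ (by norm_num)⟩

/-- The collineations. -/
def fanoAut : Finset (Equiv.Perm (Fin 7)) :=
  Finset.univ.filter (fun σ => ∀ i j : Fin 7, i ≠ j → σ (third7 i j) = third7 (σ i) (σ j))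

set_option maxRecDepth 1000000 in
theorem card_fanoAut : fanoAut.card = 168 := by decide +kernel


theorem mem_fanoAut {σ : Equiv.Perm (Fin 7)} :
    σ ∈ fanoAut ↔ ∀ i j : Fin 7, i ≠ j → σ (third7 i j) = third7 (σ i) (σ j) := by
  unfold fanoAut
  rw [Finset.mem_filter]
  exact ⟨fun h => h.2, fun h => ⟨Finset.mem_univ _, h⟩⟩

attribute [irreducible] fanoAut

end Cfsg.Agent.Helper26
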