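import Mathlib
import Cfsg.Agent.Lib.Helper26.Fano0

set_option autoImplicit false

namespace Cfsg.Agent.Helper26

open Matrix

/-- The non-zero vector labelled `k`. -/
def vec7 (k : Fin 7) : Fin 3 → ZMod 2 := fun i => if Nat.testBit (k.1 + 1) i.1 then 1 else 0

/-- The label of a vector. -/
def idx7 (v : Fin 3 → ZMod 2) : Fin 7 :=
  ⟨((v 0).val + 2 * (v 1).val + 4 * (v 2).val + 6) % 7, Nat.mod_lt _ (by norm_num)⟩

theorem idx7_vec7 : ∀ k : Fin 7, idx7 (vec7 k) = k := by decide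

theorem vec7_idx7 : ∀ v : Fin 3 → ZMod 2, v ≠ 0 → vec7 (idx7 v) = v := by decide

theorem vec7_ne_zero : ∀ k : Fin 7, vec7 k ≠ 0 := by decide

theorem vec7_third7 : ∀ i j : Fin 7, i ≠ j → vec7 (third7 i j) = vec7 i + vec7 j := by decide

theorem vec7_injective : Function.Injective vec7 := by
  intro a b h
  rw [← idx7_vec7 a, ← idx7_vec7 b, h]

theorem exists_vec7_single : ∀ j : Fin 3, ∃ k : Fin 7, vec7 k = Pi.single j 1 := by decide

theorem gl_mulVec_ne_zero (A : GL (Fin 3) (ZMod 2)) {v : Fin 3 → ZMod 2} (hv : v ≠ 0) :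
    A.1 *ᵥ v ≠ 0 := by
  intro h
  apply hv
  have : (A⁻¹).1 *ᵥ (A.1 *ᵥ v) = v := by
    rw [mulVec_mulVec, ← Units.val_mul, inv_mul_cancel, Units.val_one, one_mulVec]
  rw [← this, h, mulVec_zero]

/-- The action of `GL₃(2)` on the seven labels. -/
def glPerm (A : GL (Fin 3) (ZMod 2)) : Equiv.Perm (Fin 7) where
  toFun k := idx7 (A.1 *ᵥ vec7 k)
  invFun k := idx7 ((A⁻¹).1 *ᵥ vec7 k)
  left_inv k := by
    show idx7 ((A⁻¹).1 *ᵥ vec7 (idx7 (A.1 *ᵥ vec7 k))) = k
    rw [vec7_idx7 _ (gl_mulVec_ne_zero A (vec7_ne_zero k)), mulVec_mulVec, ← Units.val_mul,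
      inv_mul_cancel, Units.val_one, one_mulVec, idx7_vec7]
  right_inv k := by
    show idx7 (A.1 *ᵥ vec7 (idx7 ((A⁻¹).1 *ᵥ vec7 k))) = k
    rw [vec7_idx7 _ (gl_mulVec_ne_zero A⁻¹ (vec7_ne_zero k)), mulVec_mulVec, ← Units.val_mul,
      mul_inv_cancel, Units.val_one, one_mulVec, idx7_vec7]

theorem glPerm_apply (A : GL (Fin 3) (ZMod 2)) (k : Fin 7) :
    glPerm A k = idx7 (A.1 *ᵥ vec7 k) := rfl

theorem vec7_glPerm (A : GL (Fin 3) (ZMod 2)) (k : Fin 7) :
    vec7 (glPerm A k) = A.1 *ᵥ vec7 k := by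
  rw [glPerm_apply, vec7_idx7 _ (gl_mulVec_ne_zero A (vec7_ne_zero k))]

/-- The action as a homomorphism. -/
def glHom : GL (Fin 3) (ZMod 2) →* Equiv.Perm (Fin 7) where
  toFun := glPerm
  map_one' := by
    apply Equiv.ext
    intro k
    apply vec7_injective
    rw [vec7_glPerm, Units.val_one, one_mulVec]
    rfl
  map_mul' A B := by
    apply Equiv.ext
    intro k
    apply vec7_injective
    rw [vec7_glPerm, Equiv.Perm.mul_apply, vec7_glPerm, vec7_glPerm, Units.val_mul, mulVec_mulVec]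

theorem glHom_apply (A : GL (Fin 3) (ZMod 2)) : glHom A = glPerm A := rfl

theorem glHom_injective : Function.Injective glHom := by
  intro A B h
  apply Units.ext
  ext i j
  obtain ⟨k, hk⟩ := exists_vec7_single j
  have h1 : vec7 (glPerm A k) = vec7 (glPerm B k) := by
    rw [← glHom_apply, ← glHom_apply, h]
  rw [vec7_glPerm, vec7_glPerm, hk, mulVec_single_one, mulVec_single_one] at h1
  exact congrFun h1 i

theorem glHom_mem_fanoAut (A : GL (Fin 3) (ZMod 2)) : glHom A ∈ fanoAut := by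
  refine mem_fanoAut.mpr (fun i j hij => ?_)
  apply vec7_injective
  have hne : glHom A i ≠ glHom A j := fun h => hij ((glHom A).injective h)
  rw [vec7_third7 _ _ hne, glHom_apply, vec7_glPerm, vec7_glPerm, vec7_glPerm, vec7_third7 _ _ hij,
    mulVec_add]

theorem card_gl32 : Nat.card (GL (Fin 3) (ZMod 2)) = 168 := by
  rw [Matrix.card_GL_field]
  simp [Fin.prod_univ_three, ZMod.card]

theorem exists_gl_of_mem_fanoAut {σ : Equiv.Perm (Fin 7)} (hσ : σ ∈ fanoAut) :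
    ∃ A : GL (Fin 3) (ZMod 2), glHom A = σ := by
  let f : GL (Fin 3) (ZMod 2) → {τ : Equiv.Perm (Fin 7) // τ ∈ fanoAut} :=
    fun A => ⟨glHom A, glHom_mem_fanoAut A⟩
  have hf : Function.Injective f := by
    intro A B h
    exact glHom_injective (congrArg Subtype.val h)
  have hcard : Nat.card {τ : Equiv.Perm (Fin 7) // τ ∈ fanoAut} = 168 := by
    rw [Nat.card_eq_fintype_card, Fintype.card_coe, card_fanoAut]
  have hb := hf.bijective_of_nat_card_le (by rw [hcard, card_gl32])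
  obtain ⟨A, hA⟩ := hb.2 ⟨σ, hσ⟩
  exact ⟨A, congrArg Subtype.val hA⟩

end Cfsg.Agent.Helper26
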