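import Mathlib

/-!
# GS4 (V) `exists_complement` (helper87's server for S2608), written by helper26.
The `t`-invariant complement `V = [K, t]` of `⟨c⟩` in `K`.
-/

set_option autoImplicit false

namespace Cfsg.Agent.Helper26.GS4

section

variable {G : Type*} [Group G]

/-- `k ↦ t k t⁻¹ k⁻¹`. -/
def h26_kap (t k : G) : G := t * k * t⁻¹ * k⁻¹

theorem h26_kap_mul (K : Subgroup G) [hKN : K.Normal] (hab : ∀ a ∈ K, ∀ b ∈ K, a * b = b * a) (t : G)
    (a b : G) (ha : a ∈ K) (hb : b ∈ K) : h26_kap t (a * b) = h26_kap t a * h26_kap t b := by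
  unfold h26_kap
  have hKn : ∀ k ∈ K, t * k * t⁻¹ ∈ K := fun k hk => hKN.conj_mem k hk t
  have h1 := hab a⁻¹ (K.inv_mem ha) (t * b * t⁻¹ * b⁻¹) (K.mul_mem (hKn b hb) (K.inv_mem hb))
  calc t * (a * b) * t⁻¹ * (a * b)⁻¹ = t * a * t⁻¹ * ((t * b * t⁻¹ * b⁻¹) * a⁻¹) := by group
    _ = t * a * t⁻¹ * (a⁻¹ * (t * b * t⁻¹ * b⁻¹)) := by rw [h1]
    _ = _ := by group

theorem h26_kap_mem (K : Subgroup G) [hKN : K.Normal] (t k : G) (hk : k ∈ K) : h26_kap t k ∈ K :=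
  K.mul_mem (hKN.conj_mem k hk t) (K.inv_mem hk)

/-- `κ` as an endomorphism of the abelian normal subgroup `K`. -/
def h26_kapHom (K : Subgroup G) [K.Normal] (hab : ∀ a ∈ K, ∀ b ∈ K, a * b = b * a) (t : G) :
    K →* K where
  toFun k := ⟨h26_kap t k, h26_kap_mem K t k k.2⟩
  map_one' := Subtype.ext (by simp [h26_kap])
  map_mul' a b := Subtype.ext (h26_kap_mul K hab t a b a.2 b.2)

theorem h26_central_conj (y : G) (hy : ∀ g : G, y * g = g * y) (t g : G) :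
    t * (y * g) * t⁻¹ = y * (t * g * t⁻¹) := by
  calc t * (y * g) * t⁻¹ = (t * y) * (g * t⁻¹) := by group
    _ = (y * t) * (g * t⁻¹) := by rw [hy t]
    _ = y * (t * g * t⁻¹) := by group

end

theorem exists_complement {G : Type*} [Group G] [Finite G] (f : ℕ) (hf : 1 ≤ f) (K : Subgroup G)
    [K.Normal] (hK : Nat.card K = 4 * f) (hab : ∀ a ∈ K, ∀ b ∈ K, a * b = b * a)
    (c : G) (hcK : c ∈ K) (hcz : ∀ g : G, c * g = g * c) (hcf : c ^ f = 1)
    (hcord : ∀ j : ℕ, c ^ j = 1 → f ∣ j)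
    (hdec : ∀ k ∈ K, ∃ v ∈ K, ∃ i : ℕ, k = v * c ^ i ∧ v ^ 4 = 1)
    (t : G) (ht3 : t ^ 3 = 1)
    (hconj : ∀ g : G, ∃ k ∈ K, g * t * g⁻¹ = k * t ∨ g * t * g⁻¹ = k * t⁻¹)
    (z : G) (hzK : z ∈ K) (hz2 : z * z = 1) (htz : t * z ≠ z * t) :
    ∃ V : Subgroup G, V.Normal ∧ V ≤ K ∧ Nat.card V = 4 ∧
      (∀ v ∈ V, ∀ j : ℕ, v = c ^ j → v = 1) ∧ (∀ v ∈ V, t * v = v * t → v = 1) ∧
      (∀ k ∈ K, ∃ v ∈ V, ∃ j : ℕ, k = v * c ^ j) := by
  classical
  have hKN : K.Normal := inferInstance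
  have hKn : ∀ (g : G), ∀ k ∈ K, g * k * g⁻¹ ∈ K := fun g k hk => hKN.conj_mem k hk g
  obtain ⟨κ, hκ⟩ : ∃ κ : K →* K, κ = h26_kapHom K hab t := ⟨_, rfl⟩
  have hκv : ∀ k : K, ((κ k : K) : G) = t * k * t⁻¹ * (k : G)⁻¹ := fun k => by rw [hκ]; rfl
  have hker : ∀ k : K, k ∈ κ.ker ↔ t * (k : G) * t⁻¹ = k := by
    intro k
    rw [MonoidHom.mem_ker, Subtype.ext_iff, hκv, Subgroup.coe_one, mul_inv_eq_one]
  have hcker : (⟨c, hcK⟩ : K) ∈ κ.ker := by
    rw [hker]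
    show t * c * t⁻¹ = c
    rw [← hcz t]; group
  have hordc : orderOf c = f :=
    Nat.dvd_antisymm (orderOf_dvd_of_pow_eq_one hcf) (hcord _ (pow_orderOf_eq_one c))
  have hordc' : orderOf (⟨c, hcK⟩ : K) = f := by
    rw [← Subgroup.orderOf_coe]; exact hordc
  have hzle : Subgroup.zpowers (⟨c, hcK⟩ : K) ≤ κ.ker := (Subgroup.zpowers_le).mpr hcker
  have hfdvd : f ∣ Nat.card κ.ker := by
    have := Subgroup.card_dvd_of_le hzle
    rwa [Nat.card_zpowers, hordc'] at this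
  have hprod : Nat.card κ.ker * Nat.card κ.range = 4 * f := by
    rw [← Subgroup.index_ker, Subgroup.card_mul_index, hK]
  -- three conjugates of z
  have ht3' : t * t * t = 1 := by rw [← ht3, pow_succ, pow_succ, pow_one]
  have hzz : z⁻¹ = z := inv_eq_of_mul_eq_one_right hz2
  obtain ⟨z1, hz1⟩ : ∃ z1, z1 = t * z * t⁻¹ := ⟨_, rfl⟩
  obtain ⟨z2, hz2'⟩ : ∃ z2, z2 = t * z1 * t⁻¹ := ⟨_, rfl⟩
  have hz1K : z1 ∈ K := hz1 ▸ hKn t z hzK
  have hz2K : z2 ∈ K := hz2' ▸ hKn t z1 hz1K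
  have hz1ne : z1 ≠ z := by
    intro h
    apply htz
    rw [hz1] at h
    calc t * z = t * z * t⁻¹ * t := by group
      _ = z * t := by rw [h]
  have hz1inv : z1⁻¹ = z1 := by
    apply inv_eq_of_mul_eq_one_right
    rw [hz1]
    calc t * z * t⁻¹ * (t * z * t⁻¹) = t * (z * z) * t⁻¹ := by group
      _ = 1 := by rw [hz2]; group
  have hz3 : t * z2 * t⁻¹ = z := by
    rw [hz2', hz1]
    calc t * (t * (t * z * t⁻¹) * t⁻¹) * t⁻¹ = (t * t * t) * z * (t * t * t)⁻¹ := by group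
      _ = z := by rw [ht3']; group
  have hz21 : z2 ≠ z1 := by
    intro h
    apply hz1ne
    have : t⁻¹ * z2 * t = t⁻¹ * z1 * t := by rw [h]
    rw [hz2', hz1] at this
    rw [hz1]
    calc t * z * t⁻¹ = t⁻¹ * (t * (t * z * t⁻¹) * t⁻¹) * t := by group
      _ = t⁻¹ * (t * z * t⁻¹) * t := this
      _ = z := by group
  have hz2ne : z2 ≠ z := by
    intro h
    apply hz1ne
    rw [← hz3, h, hz1]
  -- elements of the range
  have ha : (κ ⟨z, hzK⟩ : G) = z1 * z := by rw [hκv, hz1]; simp only [hzz]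
  have hb : (κ ⟨z1, hz1K⟩ : G) = z2 * z1 := by rw [hκv, hz2']; simp only [hz1inv]
  have ha1 : κ ⟨z, hzK⟩ ≠ 1 := by
    intro h
    have h' := congrArg (fun w : K => (w : G)) h
    simp only [ha, Subgroup.coe_one] at h'
    apply hz1ne
    rw [← hzz]
    exact eq_inv_of_mul_eq_one_left h'
  have hb1 : κ ⟨z1, hz1K⟩ ≠ 1 := by
    intro h
    have h' := congrArg (fun w : K => (w : G)) h
    simp only [hb, Subgroup.coe_one] at h'
    apply hz21
    rw [← hz1inv]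
    exact eq_inv_of_mul_eq_one_left h'
  have hab' : κ ⟨z, hzK⟩ ≠ κ ⟨z1, hz1K⟩ := by
    intro h
    have h' := congrArg (fun w : K => (w : G)) h
    simp only [ha, hb] at h'
    rw [hab z2 hz2K z1 hz1K] at h'
    exact hz2ne (mul_left_cancel h').symm
  -- the range has order 4
  have hR4 : Nat.card κ.range = 4 := by
    obtain ⟨m, hm⟩ := hfdvd
    have h4 : m * Nat.card κ.range = 4 := by
      rw [hm, mul_assoc, mul_comm 4 f] at hprod
      exact Nat.eq_of_mul_eq_mul_left hf hprod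
    have hdvd : Nat.card κ.range ∣ 4 := ⟨m, by rw [mul_comm]; exact h4.symm⟩
    have hle := Nat.le_of_dvd (by norm_num) hdvd
    have hpos : 0 < Nat.card κ.range := Nat.card_pos
    interval_cases h : Nat.card κ.range
    · exfalso
      rw [Subgroup.card_eq_one] at h
      have : κ ⟨z, hzK⟩ ∈ κ.range := ⟨_, rfl⟩
      rw [h, Subgroup.mem_bot] at this
      exact ha1 this
    · exfalso
      obtain ⟨y, -, hy⟩ := (Nat.card_eq_two_iff' (1 : κ.range)).mp h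
      have e1 := hy ⟨κ ⟨z, hzK⟩, ⟨_, rfl⟩⟩ (fun hh => ha1 (congrArg Subtype.val hh))
      have e2 := hy ⟨κ ⟨z1, hz1K⟩, ⟨_, rfl⟩⟩ (fun hh => hb1 (congrArg Subtype.val hh))
      exact hab' (congrArg Subtype.val (e1.trans e2.symm))
    · exfalso; omega
    · rfl
  have hkf : Nat.card κ.ker = f := by
    rw [hR4] at hprod
    have : Nat.card κ.ker * 4 = f * 4 := by rw [hprod, mul_comm]
    exact Nat.eq_of_mul_eq_mul_right (by norm_num) this
  have hkeq : Subgroup.zpowers (⟨c, hcK⟩ : K) = κ.ker :=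
    Subgroup.eq_of_le_of_card_ge hzle (by rw [Nat.card_zpowers, hordc', hkf])
  -- the subgroup V
  obtain ⟨V, hVdef⟩ : ∃ V : Subgroup G, V = κ.range.map K.subtype := ⟨_, rfl⟩
  have hVK : V ≤ K := by rw [hVdef]; exact Subgroup.map_subtype_le _
  have hVcard : Nat.card V = 4 := by
    rw [hVdef, Subgroup.card_map_of_injective K.subtype_injective, hR4]
  have hVmem : ∀ g : G, g ∈ V ↔ ∃ k ∈ K, g = t * k * t⁻¹ * k⁻¹ := by
    intro g
    rw [hVdef, Subgroup.mem_map]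
    constructor
    · rintro ⟨y, ⟨k, rfl⟩, rfl⟩
      exact ⟨k, k.2, hκv k⟩
    · rintro ⟨k, hk, rfl⟩
      exact ⟨κ ⟨k, hk⟩, ⟨_, rfl⟩, hκv ⟨k, hk⟩⟩
  -- (4) V ∩ ⟨c⟩ = 1
  have h4 : ∀ v ∈ V, ∀ j : ℕ, v = c ^ j → v = 1 := by
    intro v hv j hvj
    obtain ⟨k, hk, hvk⟩ := (hVmem v).mp hv
    have hy : ∀ g : G, v * g = g * v := by
      intro g
      rw [hvj]
      exact ((Commute.pow_left (hcz g) j)).eq
    -- v ^ 3 = 1
    have e1 : t * k * t⁻¹ = v * k := by rw [hvk]; group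
    have e3 : v ^ 3 = 1 := by
      have e2 : t * (t * (t * k * t⁻¹) * t⁻¹) * t⁻¹ = v * (v * (v * k)) := by
        rw [e1, h26_central_conj v hy, e1, h26_central_conj v hy, h26_central_conj v hy, e1]
      have e2' : t * (t * (t * k * t⁻¹) * t⁻¹) * t⁻¹ = k := by
        calc t * (t * (t * k * t⁻¹) * t⁻¹) * t⁻¹ = (t * t * t) * k * (t * t * t)⁻¹ := by group
          _ = k := by rw [ht3']; group
      rw [e2'] at e2
      have : v ^ 3 * k = 1 * k := by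
        rw [one_mul]
        calc v ^ 3 * k = v * (v * (v * k)) := by rw [pow_succ, pow_succ, pow_one]; group
          _ = k := e2.symm
      exact mul_right_cancel this
    -- v ^ 4 = 1
    have e4 : v ^ 4 = 1 := by
      obtain ⟨w, hwK, i, hki, hw4⟩ := hdec k hk
      have hciK : c ^ i ∈ K := K.pow_mem hcK i
      have hkap : κ ⟨k, hk⟩ = κ ⟨w, hwK⟩ := by
        have : (⟨k, hk⟩ : K) = ⟨w, hwK⟩ * ⟨c ^ i, hciK⟩ := Subtype.ext hki
        rw [this, map_mul]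
        have hci : κ ⟨c ^ i, hciK⟩ = 1 := by
          have : (⟨c ^ i, hciK⟩ : K) = (⟨c, hcK⟩ : K) ^ i := Subtype.ext rfl
          rw [this, map_pow, (MonoidHom.mem_ker).mp hcker, one_pow]
        rw [hci, mul_one]
      have hv' : v = ((κ ⟨w, hwK⟩ : K) : G) := by rw [← hkap, hκv]; exact hvk
      have hw4' : (⟨w, hwK⟩ : K) ^ 4 = 1 := Subtype.ext hw4
      rw [hv', ← Subgroup.coe_pow, ← map_pow, hw4', map_one, Subgroup.coe_one]
    calc v = v ^ 4 * (v ^ 3)⁻¹ := by rw [pow_succ v 3]; group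
      _ = 1 := by rw [e3, e4]; group
  -- (5) C_V(t) = 1
  have h5 : ∀ v ∈ V, t * v = v * t → v = 1 := by
    intro v hv htv
    have hvK : v ∈ K := hVK hv
    have hvker : (⟨v, hvK⟩ : K) ∈ κ.ker := by
      rw [hker]
      show t * v * t⁻¹ = v
      rw [htv]; group
    rw [← hkeq, ← mem_powers_iff_mem_zpowers, Submonoid.mem_powers_iff] at hvker
    obtain ⟨n, hn⟩ := hvker
    have : v = c ^ n := by
      have := congrArg (fun w : K => (w : G)) hn
      simpa using this.symm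
    exact h4 v hv n this
  -- (6) K = V ⟨c⟩
  have h6 : ∀ k ∈ K, ∃ v ∈ V, ∃ j : ℕ, k = v * c ^ j := by
    have hzK' : Subgroup.zpowers c ≤ K := (Subgroup.zpowers_le).mpr hcK
    let φ : V × Subgroup.zpowers c → K := fun p => ⟨p.1 * p.2, K.mul_mem (hVK p.1.2) (hzK' p.2.2)⟩
    have hinj : Function.Injective φ := by
      rintro ⟨v1, y1⟩ ⟨v2, y2⟩ h
      have h' : (v1 : G) * y1 = v2 * y2 := congrArg (fun w : K => (w : G)) h
      have he : (v2 : G)⁻¹ * v1 = y2 * (y1 : G)⁻¹ := by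
        calc (v2 : G)⁻¹ * v1 = (v2 : G)⁻¹ * (v1 * y1) * (y1 : G)⁻¹ := by group
          _ = (v2 : G)⁻¹ * (v2 * y2) * (y1 : G)⁻¹ := by rw [h']
          _ = y2 * (y1 : G)⁻¹ := by group
      have heV : (v2 : G)⁻¹ * v1 ∈ V := V.mul_mem (V.inv_mem v2.2) v1.2
      have hez : (y2 : G) * (y1 : G)⁻¹ ∈ Subgroup.zpowers c :=
        (Subgroup.zpowers c).mul_mem y2.2 ((Subgroup.zpowers c).inv_mem y1.2)
      rw [← mem_powers_iff_mem_zpowers, Submonoid.mem_powers_iff] at hez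
      obtain ⟨n, hn⟩ := hez
      have h1 : (v2 : G)⁻¹ * v1 = 1 := h4 _ heV n (by rw [he, hn])
      have hv : (v1 : G) = v2 := by
        have := inv_mul_eq_one.mp h1
        exact this.symm
      have hy : (y1 : G) = y2 := by
        rw [hv] at h'
        exact mul_left_cancel h'
      exact Prod.ext (Subtype.ext hv) (Subtype.ext hy)
    have hcard : Nat.card K ≤ Nat.card (V × Subgroup.zpowers c) := by
      rw [Nat.card_prod, hVcard, Nat.card_zpowers, hordc, hK]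
    have hsurj := (hinj.bijective_of_nat_card_le hcard).2
    intro k hk
    obtain ⟨⟨v, y⟩, hvy⟩ := hsurj ⟨k, hk⟩
    have hy := y.2
    rw [← mem_powers_iff_mem_zpowers, Submonoid.mem_powers_iff] at hy
    obtain ⟨n, hn⟩ := hy
    refine ⟨v, v.2, n, ?_⟩
    have := congrArg (fun w : K => (w : G)) hvy
    simp only [φ] at this
    rw [hn]
    exact this.symm
  -- (7) normality
  have h7 : V.Normal := by
    constructor
    intro n hn g
    obtain ⟨k, hk, rfl⟩ := (hVmem n).mp hn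
    have hk' : g * k * g⁻¹ ∈ K := hKn g k hk
    obtain ⟨k0, hk0, hs⟩ := hconj g
    have hrew : g * (t * k * t⁻¹ * k⁻¹) * g⁻¹ =
        (g * t * g⁻¹) * (g * k * g⁻¹) * (g * t * g⁻¹)⁻¹ * (g * k * g⁻¹)⁻¹ := by group
    rw [hrew]
    rcases hs with hs | hs
    · rw [hs]
      have hw : t * (g * k * g⁻¹) * t⁻¹ ∈ K := hKn t _ hk'
      have hcomm := hab k0 hk0 _ hw
      have : k0 * t * (g * k * g⁻¹) * (k0 * t)⁻¹ = t * (g * k * g⁻¹) * t⁻¹ := by
        calc k0 * t * (g * k * g⁻¹) * (k0 * t)⁻¹ = k0 * (t * (g * k * g⁻¹) * t⁻¹) * k0⁻¹ := by group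
          _ = (t * (g * k * g⁻¹) * t⁻¹) * k0 * k0⁻¹ := by rw [hcomm]
          _ = t * (g * k * g⁻¹) * t⁻¹ := by group
      rw [this]
      exact (hVmem _).mpr ⟨g * k * g⁻¹, hk', rfl⟩
    · rw [hs]
      have hw : t⁻¹ * (g * k * g⁻¹) * t ∈ K := by
        have := hKn t⁻¹ _ hk'
        rwa [inv_inv] at this
      have hcomm := hab k0 hk0 _ hw
      have : k0 * t⁻¹ * (g * k * g⁻¹) * (k0 * t⁻¹)⁻¹ = t⁻¹ * (g * k * g⁻¹) * t := by
        calc k0 * t⁻¹ * (g * k * g⁻¹) * (k0 * t⁻¹)⁻¹ = k0 * (t⁻¹ * (g * k * g⁻¹) * t) * k0⁻¹ := by group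
          _ = (t⁻¹ * (g * k * g⁻¹) * t) * k0 * k0⁻¹ := by rw [hcomm]
          _ = t⁻¹ * (g * k * g⁻¹) * t := by group
      rw [this]
      have hmem : t * (t⁻¹ * (g * k * g⁻¹) * t) * t⁻¹ * (t⁻¹ * (g * k * g⁻¹) * t)⁻¹ ∈ V :=
        (hVmem _).mpr ⟨_, hw, rfl⟩
      have hinv := V.inv_mem hmem
      have : (t * (t⁻¹ * (g * k * g⁻¹) * t) * t⁻¹ * (t⁻¹ * (g * k * g⁻¹) * t)⁻¹)⁻¹ =
          t⁻¹ * (g * k * g⁻¹) * t * (g * k * g⁻¹)⁻¹ := by group
      rw [this] at hinv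
      exact hinv
  exact ⟨V, h7, hVK, hVcard, h4, h5, h6⟩

end Cfsg.Agent.Helper26.GS4
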