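import Mathlib
import Cfsg.Prelude.Def_Sporadic_a

/-!
Bitmask encoding of subsets of the 24 points `Cfsg.GolayPt = Option (ZMod 23)`:
residue `x` has index `x.val`, the extra point has index 23, and a finset `s` is encoded
as the natural number `mask s = ∑ p ∈ s, 2 ^ idx p < 2 ^ 24`.
-/

set_option autoImplicit false

namespace Cfsg.Agent.Helper26

open Cfsg

/-- Index of a point: residues 0..22, extra point 23. -/
def idx : GolayPt → ℕ
  | none => 23
  | some x => x.val

/-- Point of an index. -/
def pt (i : ℕ) : GolayPt := if i < 23 then some (i : ZMod 23) else none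

lemma idx_lt (p : GolayPt) : idx p < 24 := by
  cases p with
  | none => simp [idx]
  | some x =>
    have := ZMod.val_lt x
    simp only [idx]; omega

lemma idx_pt {i : ℕ} (h : i < 24) : idx (pt i) = i := by
  unfold pt
  split_ifs with h1
  · simp only [idx]
    rw [ZMod.val_natCast, Nat.mod_eq_of_lt h1]
  · simp only [idx]; omega

lemma pt_idx (p : GolayPt) : pt (idx p) = p := by
  cases p with
  | none => simp [idx, pt]
  | some x =>
    have := ZMod.val_lt x
    simp [idx, pt, this]

lemma idx_injective : Function.Injective idx := fun a b h => by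
  rw [← pt_idx a, ← pt_idx b, h]

/-- The bitmask of a finset of points. -/
def mask (s : Finset GolayPt) : ℕ := ∑ i ∈ s.image idx, 2 ^ i

/-- The finset of points of a bitmask (only bits 0..23 matter). -/
def unmask (m : ℕ) : Finset GolayPt := Finset.univ.filter (fun p => m.testBit (idx p) = true)

lemma testBit_mask_iff (s : Finset GolayPt) (j : ℕ) :
    (mask s).testBit j = true ↔ j ∈ s.image idx := by
  rw [mask, ← Nat.mem_bitIndices, ← List.mem_toFinset, Finset.toFinset_bitIndices_sum_two_pow]

lemma testBit_mask_idx (s : Finset GolayPt) (p : GolayPt) :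
    (mask s).testBit (idx p) = true ↔ p ∈ s := by
  rw [testBit_mask_iff, Finset.mem_image]
  constructor
  · rintro ⟨q, hq, h⟩
    rwa [← idx_injective h]
  · intro h; exact ⟨p, h, rfl⟩

@[simp] lemma mem_unmask {m : ℕ} {p : GolayPt} : p ∈ unmask m ↔ m.testBit (idx p) = true := by
  simp [unmask]

@[simp] lemma unmask_mask (s : Finset GolayPt) : unmask (mask s) = s := by
  ext p; rw [mem_unmask, testBit_mask_idx]

lemma mask_injective : Function.Injective mask := fun a b h => by
  rw [← unmask_mask a, ← unmask_mask b, h]

lemma testBit_mask_of_ge (s : Finset GolayPt) {j : ℕ} (h : 24 ≤ j) : (mask s).testBit j = false := by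
  by_contra hc
  rw [Bool.not_eq_false, testBit_mask_iff, Finset.mem_image] at hc
  obtain ⟨q, _, hq⟩ := hc
  have := idx_lt q
  omega

lemma mask_lt (s : Finset GolayPt) : mask s < 2 ^ 24 := by
  apply Nat.lt_pow_two_of_testBit
  intro i hi
  exact testBit_mask_of_ge s hi

lemma mask_unmask {m : ℕ} (h : m < 2 ^ 24) : mask (unmask m) = m := by
  apply Nat.eq_of_testBit_eq
  intro i
  by_cases hi : i < 24
  · rw [← idx_pt hi]
    by_cases hb : m.testBit (idx (pt i)) = true
    · rw [hb, testBit_mask_idx, mem_unmask, hb]
    · rw [Bool.not_eq_true] at hb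
      rw [hb]
      by_contra hc
      rw [Bool.not_eq_false, testBit_mask_idx, mem_unmask, hb] at hc
      exact Bool.false_ne_true hc
  · rw [testBit_mask_of_ge _ (not_lt.mp hi)]
    symm
    apply Nat.testBit_lt_two_pow
    calc m < 2 ^ 24 := h
      _ ≤ 2 ^ i := Nat.pow_le_pow_right (by norm_num) (not_lt.mp hi)

lemma unmask_xor (a b : ℕ) : unmask (a ^^^ b) = symmDiff (unmask a) (unmask b) := by
  ext p
  simp only [mem_unmask, Nat.testBit_xor, Finset.mem_symmDiff]
  cases a.testBit (idx p) <;> cases b.testBit (idx p) <;> simp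

lemma unmask_and (a b : ℕ) : unmask (a &&& b) = unmask a ∩ unmask b := by
  ext p
  simp only [mem_unmask, Nat.testBit_and, Finset.mem_inter]
  cases a.testBit (idx p) <;> cases b.testBit (idx p) <;> simp

lemma unmask_or (a b : ℕ) : unmask (a ||| b) = unmask a ∪ unmask b := by
  ext p
  simp only [mem_unmask, Nat.testBit_or, Finset.mem_union]
  cases a.testBit (idx p) <;> cases b.testBit (idx p) <;> simp

@[simp] lemma unmask_zero : unmask 0 = ∅ := by
  ext p; simp

/-- The full mask `2^24 - 1`. -/
def fullMask : ℕ := 16777215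

lemma unmask_fullMask : unmask fullMask = Finset.univ := by
  ext p
  simp only [mem_unmask, Finset.mem_univ, iff_true]
  have h := idx_lt p
  generalize idx p = i at h
  interval_cases i <;> decide

lemma xor_lt {a b : ℕ} (ha : a < 2 ^ 24) (hb : b < 2 ^ 24) : a ^^^ b < 2 ^ 24 :=
  Nat.xor_lt_two_pow ha hb

lemma mask_symmDiff (s t : Finset GolayPt) : mask (symmDiff s t) = mask s ^^^ mask t := by
  have h : unmask (mask s ^^^ mask t) = symmDiff s t := by rw [unmask_xor]; simp
  rw [← h, mask_unmask (xor_lt (mask_lt s) (mask_lt t))]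

lemma mask_inter (s t : Finset GolayPt) : mask (s ∩ t) = mask s &&& mask t := by
  have h : unmask (mask s &&& mask t) = s ∩ t := by rw [unmask_and]; simp
  rw [← h, mask_unmask (lt_of_le_of_lt Nat.and_le_left (mask_lt s))]

lemma mask_union (s t : Finset GolayPt) : mask (s ∪ t) = mask s ||| mask t := by
  have h : unmask (mask s ||| mask t) = s ∪ t := by rw [unmask_or]; simp
  rw [← h, mask_unmask (Nat.or_lt_two_pow (mask_lt s) (mask_lt t))]

lemma mask_empty : mask ∅ = 0 := by simp [mask]

lemma mask_univ : mask Finset.univ = fullMask := by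
  rw [← unmask_fullMask, mask_unmask (by decide)]

lemma mask_compl (s : Finset GolayPt) : mask sᶜ = mask s ^^^ fullMask := by
  have : sᶜ = symmDiff s Finset.univ := by
    ext p; simp [Finset.mem_symmDiff]
  rw [this, mask_symmDiff, mask_univ]

/-- Number of set bits among bits 0..23. -/
def popc (m : ℕ) : ℕ := ((List.range 24).filter (fun i => m.testBit i)).length

lemma card_unmask (m : ℕ) : (unmask m).card = popc m := by
  have h1 : (unmask m).card = ((unmask m).image idx).card :=
    (Finset.card_image_of_injective _ idx_injective).symm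
  have h2 : (unmask m).image idx = (Finset.range 24).filter (fun i => m.testBit i = true) := by
    ext i
    simp only [Finset.mem_image, mem_unmask, Finset.mem_filter, Finset.mem_range]
    constructor
    · rintro ⟨p, hp, rfl⟩; exact ⟨idx_lt p, hp⟩
    · rintro ⟨hi, hb⟩; exact ⟨pt i, by rw [idx_pt hi]; exact hb, idx_pt hi⟩
  rw [h1, h2, popc]
  rw [Finset.card_def, Finset.filter_val, Finset.range_val, Multiset.range, Multiset.filter_coe,
    Multiset.coe_card]
  congr 2
  funext b
  simp

lemma card_eq_popc_mask (s : Finset GolayPt) : s.card = popc (mask s) := by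
  rw [← card_unmask, unmask_mask]

lemma subset_iff_mask (s t : Finset GolayPt) : s ⊆ t ↔ mask s &&& mask t = mask s := by
  rw [← mask_inter]
  constructor
  · intro h; rw [Finset.inter_eq_left.mpr h]
  · intro h; exact Finset.inter_eq_left.mp (mask_injective h)

lemma mem_iff_testBit_mask (s : Finset GolayPt) (p : GolayPt) :
    p ∈ s ↔ (mask s).testBit (idx p) = true := (testBit_mask_idx s p).symm

/-- Kernel-friendly popcount loop: `fuel` low bits of `m`, added to `acc`. -/
def popcGo : ℕ → ℕ → ℕ → ℕ
  | 0, _, acc => acc
  | (k+1), m, acc => popcGo k (Nat.shiftRight m (nat_lit 1)) (Nat.add acc (Nat.land m (nat_lit 1)))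

/-- Kernel-friendly popcount of the low 24 bits. -/
def popcK (m : ℕ) : ℕ := popcGo (nat_lit 24) m (nat_lit 0)

lemma popcGo_eq (k m acc : ℕ) :
    popcGo k m acc = acc + ((List.range k).filter (fun i => m.testBit i)).length := by
  induction k generalizing m acc with
  | zero => simp [popcGo]
  | succ k ih =>
    rw [popcGo, ih, List.range_succ_eq_map, List.filter_cons, List.filter_map]
    have h1 : (fun i => (Nat.shiftRight m 1).testBit i) = ((fun i => m.testBit i) ∘ Nat.succ) := by
      funext i
      show (m >>> 1).testBit i = m.testBit (i + 1)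
      rw [Nat.testBit_succ, Nat.shiftRight_one]
    rw [h1]
    have h2 : Nat.land m 1 = if m.testBit 0 then 1 else 0 := by
      show m &&& 1 = _
      rw [Nat.and_one_is_mod, Nat.testBit_zero]
      rcases Nat.mod_two_eq_zero_or_one m with h | h <;> simp [h]
    show acc + Nat.land m 1 + _ = _
    rw [h2]
    split_ifs with hb
    · simp only [List.length_cons, List.length_map]; omega
    · simp only [List.length_map]; omega

lemma popcK_eq (m : ℕ) : popcK m = popc m := by
  show popcGo 24 m 0 = _
  rw [popcGo_eq, popc, Nat.zero_add]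

lemma natbeq_eq_beq (a b : ℕ) : Nat.beq a b = (a == b) := by
  rw [Bool.eq_iff_iff]
  simp only [beq_iff_eq]
  exact ⟨Nat.eq_of_beq_eq_true, fun h => by rw [h]; exact Nat.beq_refl b⟩

end Cfsg.Agent.Helper26
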