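import Mathlib
import Cfsg.Prelude.Def_Sporadic_a
import Cfsg.Agent.Lib.Helper26.GolayMask

/-!
The length-24 code `Cfsg.golayCode` in bitmask form: a finset `s` of points is the support of a
codeword iff `mask s` is one of the 4096 numbers in `codeMasks` (`mem_supports_iff`), iff
`isCodeB (mask s) = true`.
-/

set_option autoImplicit false

namespace Cfsg.Agent.Helper26

open Cfsg

/-- Masks of the 23 translates of the squares modulo 23. -/
def qrMaskList : List ℕ := [340831, 681662, 1363324, 2726648, 5453296, 2517985, 5035970, 1683333, 3366666, 6733332, 5078057, 1767507, 3535014, 7070028, 5751449, 3114291, 6228582, 4068557, 8137114, 7885621, 7382635, 6376663, 4364719]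

/-- Mask of `qrWord t`. -/
def qrMask (t : ZMod 23) : ℕ := qrMaskList.getD t.val 0

/-- The 24 generator masks: the 23 translates and the all-ones word. -/
def genMasks : List ℕ := qrMaskList ++ [fullMask]

/-- Reduced echelon basis of the code: pairs (pivot bit, basis vector). The pivots are bits 12..23. -/
def basisList : List (ℕ × ℕ) := [(23, 8391797), (22, 4196943), (21, 2101096), (20, 1050548), (19, 525274), (18, 262637), (17, 133817), (16, 69395), (15, 36294), (14, 18147), (13, 10558), (12, 5279)]

/-- How each basis vector is a XOR of generators (indices into `genMasks`). -/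
def comboLists : List (List ℕ) := [[1, 2, 4, 7, 9, 10, 23], [0, 2, 3, 4, 6, 7, 8, 10], [1, 6, 9], [0, 5, 8], [0, 5, 6, 7, 8, 10], [0, 7, 8, 9, 10], [2, 3, 5, 6, 8, 9], [0, 1, 3, 5, 6, 10], [0, 3, 4, 7, 9], [0, 2, 3, 4, 5, 10], [1, 4, 5, 7, 9], [0, 3, 4, 6, 8]]

/-- XOR of the basis vectors selected by the pivot bits of `m`. -/
def xorSel (m : ℕ) : List (ℕ × ℕ) → ℕ
  | [] => 0
  | pg :: l => (if m.testBit pg.1 then pg.2 else 0) ^^^ xorSel m l

/-- Projection onto the code along the non-pivot coordinates. -/
def proj (m : ℕ) : ℕ := xorSel m basisList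

/-- Membership test for the code, on masks. -/
def isCodeB (m : ℕ) : Bool := proj m == m

/-- All XORs of sublists. -/
def subsetXors : List ℕ → List ℕ
  | [] => [0]
  | g :: l => subsetXors l ++ (subsetXors l).map (fun x => g ^^^ x)

/-- The 4096 masks of the codewords. -/
def codeMasks : List ℕ := subsetXors (basisList.map Prod.snd)

/-- The masks of the 759 octads. -/
def octadMasks : List ℕ := codeMasks.filter (fun m => popc m == 8)

/-- The masks of the 2576 dodecads. -/
def dodecadMasks : List ℕ := codeMasks.filter (fun m => popc m == 12)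

/-! ### The abstract side -/

/-- The indicator word of a finset. -/
def ind (s : Finset GolayPt) : GolayPt → ZMod 2 := fun p => if p ∈ s then 1 else 0

lemma zmod2_ne_zero_iff (a : ZMod 2) : a ≠ 0 ↔ a = 1 := by
  revert a; decide

@[simp] lemma support₂_ind (s : Finset GolayPt) : support₂ (ind s) = s := by
  ext p
  by_cases h : p ∈ s <;> simp [support₂, ind, h]

lemma ind_support₂ (w : GolayPt → ZMod 2) : ind (support₂ w) = w := by
  funext p
  by_cases h : w p = 0
  · simp [support₂, ind, h]
  · have h1 := (zmod2_ne_zero_iff _).mp h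
    simp [support₂, ind, h1]

lemma support₂_injective : Function.Injective (support₂ : (GolayPt → ZMod 2) → Finset GolayPt) :=
  fun a b h => by rw [← ind_support₂ a, ← ind_support₂ b, h]

lemma support₂_add (v w : GolayPt → ZMod 2) :
    support₂ (v + w) = symmDiff (support₂ v) (support₂ w) := by
  ext p
  simp only [support₂, Finset.mem_filter, Finset.mem_univ, true_and, Pi.add_apply,
    Finset.mem_symmDiff]
  generalize v p = a
  generalize w p = b
  revert a b; decide

lemma support₂_zero : support₂ (0 : GolayPt → ZMod 2) = ∅ := by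
  ext p; simp [support₂]

lemma support₂_one : support₂ (1 : GolayPt → ZMod 2) = Finset.univ := by
  ext p; simp [support₂]

/-- The supports of the codewords. -/
abbrev codeSets : Set (Finset GolayPt) := supports (golayCode : Set (GolayPt → ZMod 2))

lemma mem_codeSets_iff (s : Finset GolayPt) : s ∈ codeSets ↔ ind s ∈ golayCode := by
  constructor
  · rintro ⟨w, hw, rfl⟩
    rw [ind_support₂]; exact hw
  · intro h; exact ⟨ind s, h, support₂_ind s⟩

lemma support₂_mem_codeSets_iff (w : GolayPt → ZMod 2) : support₂ w ∈ codeSets ↔ w ∈ golayCode := by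
  rw [mem_codeSets_iff, ind_support₂]

lemma codeSets_symmDiff {s t : Finset GolayPt} (hs : s ∈ codeSets) (ht : t ∈ codeSets) :
    symmDiff s t ∈ codeSets := by
  obtain ⟨v, hv, rfl⟩ := hs
  obtain ⟨w, hw, rfl⟩ := ht
  exact ⟨v + w, golayCode.add_mem hv hw, support₂_add v w⟩

lemma empty_mem_codeSets : (∅ : Finset GolayPt) ∈ codeSets :=
  ⟨0, golayCode.zero_mem, support₂_zero⟩

lemma qr_mem_codeSets (t : ZMod 23) : support₂ (qrWord t) ∈ codeSets :=
  ⟨qrWord t, Submodule.subset_span (Or.inl ⟨t, rfl⟩), rfl⟩

lemma univ_mem_codeSets : (Finset.univ : Finset GolayPt) ∈ codeSets :=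
  ⟨1, Submodule.subset_span (Or.inr rfl), support₂_one⟩

/-- Induction principle for the supports of codewords. -/
lemma codeSets_induction (T : Set (Finset GolayPt)) (h0 : ∅ ∈ T)
    (hqr : ∀ t : ZMod 23, support₂ (qrWord t) ∈ T) (h1 : Finset.univ ∈ T)
    (hadd : ∀ a b, a ∈ T → b ∈ T → symmDiff a b ∈ T) : codeSets ⊆ T := by
  rintro s ⟨w, hw, rfl⟩
  have hw' : w ∈ Submodule.span (ZMod 2) (Set.range qrWord ∪ {1}) := hw
  induction hw' using Submodule.span_induction with
  | mem x hx =>
    rcases hx with ⟨t, rfl⟩ | hx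
    · exact hqr t
    · rw [Set.mem_singleton_iff.mp hx, support₂_one]; exact h1
  | zero => rw [support₂_zero]; exact h0
  | add x y _ _ hx hy =>
    rw [support₂_add]
    exact hadd _ _ (hx (Submodule.span_le.mpr (by intro z hz; exact Submodule.subset_span hz) ‹_›))
      (hy (Submodule.span_le.mpr (by intro z hz; exact Submodule.subset_span hz) ‹_›))
  | smul c x _ hx =>
    have hc : ∀ c : ZMod 2, c = 0 ∨ c = 1 := by decide
    rcases hc c with rfl | rfl
    · rw [zero_smul, support₂_zero]; exact h0
    · rw [one_smul]; exact hx ‹_›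


/-! ### The mask side -/

lemma qrMask_spec : ∀ (t : ZMod 23) (p : GolayPt),
    (qrMask t).testBit (idx p) = true ↔ qrWord t p ≠ 0 := by
  decide +kernel

lemma unmask_qrMask (t : ZMod 23) : unmask (qrMask t) = support₂ (qrWord t) := by
  ext p
  simp [support₂, qrMask_spec]

lemma qrMask_lt : ∀ t : ZMod 23, qrMask t < 2 ^ 24 := by decide +kernel

lemma mask_support₂_qrWord (t : ZMod 23) : mask (support₂ (qrWord t)) = qrMask t := by
  rw [← unmask_qrMask, mask_unmask (qrMask_lt t)]

lemma xor_xor_xor_comm (a b c d : ℕ) : (a ^^^ b) ^^^ (c ^^^ d) = (a ^^^ c) ^^^ (b ^^^ d) := by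
  rw [Nat.xor_assoc, Nat.xor_assoc, ← Nat.xor_assoc b c d, Nat.xor_comm b c, Nat.xor_assoc c b d]

lemma xorSel_xor (a b : ℕ) (l : List (ℕ × ℕ)) :
    xorSel (a ^^^ b) l = xorSel a l ^^^ xorSel b l := by
  induction l with
  | nil => simp [xorSel]
  | cons pg l ih =>
    simp only [xorSel, ih, Nat.testBit_xor]
    rw [← xor_xor_xor_comm]
    congr 1
    cases a.testBit pg.1 <;> cases b.testBit pg.1 <;> simp

lemma proj_xor (a b : ℕ) : proj (a ^^^ b) = proj a ^^^ proj b := xorSel_xor a b basisList

lemma isCodeB_iff (m : ℕ) : isCodeB m = true ↔ proj m = m := by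
  simp [isCodeB]

lemma isCodeB_xor {a b : ℕ} (ha : isCodeB a = true) (hb : isCodeB b = true) :
    isCodeB (a ^^^ b) = true := by
  rw [isCodeB_iff] at *
  rw [proj_xor, ha, hb]

lemma isCodeB_qrMask : ∀ t : ZMod 23, isCodeB (qrMask t) = true := by decide +kernel

lemma isCodeB_fullMask : isCodeB fullMask = true := by decide +kernel

lemma isCodeB_zero : isCodeB 0 = true := by decide +kernel

lemma isCodeB_mask_of_mem {s : Finset GolayPt} (hs : s ∈ codeSets) : isCodeB (mask s) = true := by
  refine codeSets_induction {s | isCodeB (mask s) = true} ?_ ?_ ?_ ?_ hs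
  · simp only [Set.mem_ofPred_eq, mask_empty]; exact isCodeB_zero
  · intro t
    simp only [Set.mem_ofPred_eq, mask_support₂_qrWord]; exact isCodeB_qrMask t
  · simp only [Set.mem_ofPred_eq, mask_univ]; exact isCodeB_fullMask
  · intro a b ha hb
    simp only [Set.mem_ofPred_eq] at *
    rw [mask_symmDiff]; exact isCodeB_xor ha hb

lemma unmask_foldr_mem : ∀ l : List ℕ, (∀ x ∈ l, unmask x ∈ codeSets) →
    unmask (l.foldr (· ^^^ ·) 0) ∈ codeSets := by
  intro l
  induction l with
  | nil => intro _; simp only [List.foldr_nil, unmask_zero]; exact empty_mem_codeSets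
  | cons x l ih =>
    intro h
    simp only [List.foldr_cons, unmask_xor]
    exact codeSets_symmDiff (h x (by simp)) (ih (fun y hy => h y (by simp [hy])))

lemma qrMaskList_spec : ∀ x ∈ qrMaskList, ∃ t : ZMod 23, x = qrMask t := by decide +kernel

lemma unmask_genMasks_mem : ∀ x ∈ genMasks, unmask x ∈ codeSets := by
  intro x hx
  rw [genMasks, List.mem_append] at hx
  rcases hx with hx | hx
  · obtain ⟨t, rfl⟩ := qrMaskList_spec x hx
    rw [unmask_qrMask]; exact qr_mem_codeSets t
  · rw [List.mem_singleton.mp hx, unmask_fullMask]; exact univ_mem_codeSets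

lemma unmask_genMasks_getD (i : ℕ) : unmask (genMasks.getD i 0) ∈ codeSets := by
  by_cases h : i < genMasks.length
  · rw [List.getD_eq_getElem _ _ h]
    exact unmask_genMasks_mem _ (List.getElem_mem h)
  · rw [List.getD_eq_default _ _ (not_lt.mp h), unmask_zero]; exact empty_mem_codeSets

lemma basis_combo : basisList.map Prod.snd =
    comboLists.map (fun T => (T.map (fun i => genMasks.getD i 0)).foldr (· ^^^ ·) 0) := by
  decide +kernel

lemma unmask_basis_mem : ∀ pg ∈ basisList, unmask pg.2 ∈ codeSets := by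
  intro pg hpg
  have h : pg.2 ∈ basisList.map Prod.snd := List.mem_map.mpr ⟨pg, hpg, rfl⟩
  rw [basis_combo, List.mem_map] at h
  obtain ⟨T, _, hT⟩ := h
  rw [← hT]
  apply unmask_foldr_mem
  intro x hx
  obtain ⟨i, _, rfl⟩ := List.mem_map.mp hx
  exact unmask_genMasks_getD i

lemma unmask_xorSel_mem (m : ℕ) : ∀ l : List (ℕ × ℕ), (∀ pg ∈ l, unmask pg.2 ∈ codeSets) →
    unmask (xorSel m l) ∈ codeSets := by
  intro l
  induction l with
  | nil => intro _; simp only [xorSel, unmask_zero]; exact empty_mem_codeSets
  | cons pg l ih =>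
    intro h
    simp only [xorSel, unmask_xor]
    apply codeSets_symmDiff
    · split_ifs
      · exact h pg (by simp)
      · rw [unmask_zero]; exact empty_mem_codeSets
    · exact ih (fun y hy => h y (by simp [hy]))

lemma unmask_mem_of_isCodeB {m : ℕ} (h : isCodeB m = true) : unmask m ∈ codeSets := by
  rw [isCodeB_iff] at h
  rw [← h]
  exact unmask_xorSel_mem m basisList unmask_basis_mem

/-- Membership in the code, in mask form. -/
theorem mem_codeSets_iff_isCodeB (s : Finset GolayPt) : s ∈ codeSets ↔ isCodeB (mask s) = true :=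
  ⟨isCodeB_mask_of_mem, fun h => by simpa using unmask_mem_of_isCodeB h⟩

/-! ### The list of all 4096 codeword masks -/

lemma xorSel_mem_subsetXors (m : ℕ) : ∀ l : List (ℕ × ℕ),
    xorSel m l ∈ subsetXors (l.map Prod.snd) := by
  intro l
  induction l with
  | nil => simp [xorSel, subsetXors]
  | cons pg l ih =>
    simp only [xorSel, List.map_cons, subsetXors, List.mem_append, List.mem_map]
    split_ifs
    · right; exact ⟨_, ih, rfl⟩
    · left; simpa using ih

lemma mem_codeMasks_of_isCodeB {m : ℕ} (h : isCodeB m = true) : m ∈ codeMasks := by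
  rw [isCodeB_iff] at h
  rw [← h]
  exact xorSel_mem_subsetXors m basisList

lemma codeMasks_all : codeMasks.all (fun m => isCodeB m && decide (m < 2 ^ 24)) = true := by
  decide +kernel

lemma isCodeB_of_mem_codeMasks {m : ℕ} (h : m ∈ codeMasks) : isCodeB m = true := by
  have := List.all_eq_true.mp codeMasks_all m h
  simp only [Bool.and_eq_true] at this
  exact this.1

lemma lt_of_mem_codeMasks {m : ℕ} (h : m ∈ codeMasks) : m < 2 ^ 24 := by
  have := List.all_eq_true.mp codeMasks_all m h
  simp only [Bool.and_eq_true, decide_eq_true_eq] at this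
  exact this.2

/-- A finset of points is the support of a codeword iff its mask is in the list `codeMasks`. -/
theorem mem_codeSets_iff_mask (s : Finset GolayPt) : s ∈ codeSets ↔ mask s ∈ codeMasks := by
  rw [mem_codeSets_iff_isCodeB]
  exact ⟨mem_codeMasks_of_isCodeB, isCodeB_of_mem_codeMasks⟩

theorem unmask_mem_codeSets {m : ℕ} (h : m ∈ codeMasks) : unmask m ∈ codeSets :=
  unmask_mem_of_isCodeB (isCodeB_of_mem_codeMasks h)

/-- Every support of a codeword is `unmask m` for some `m` in the list. -/
theorem exists_mask_of_mem_codeSets {s : Finset GolayPt} (h : s ∈ codeSets) :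
    ∃ m ∈ codeMasks, unmask m = s :=
  ⟨mask s, (mem_codeSets_iff_mask s).mp h, unmask_mask s⟩

theorem forall_codeSets_iff (P : Finset GolayPt → Prop) :
    (∀ s ∈ codeSets, P s) ↔ ∀ m ∈ codeMasks, P (unmask m) := by
  constructor
  · intro h m hm; exact h _ (unmask_mem_codeSets hm)
  · intro h s hs
    obtain ⟨m, hm, rfl⟩ := exists_mask_of_mem_codeSets hs
    exact h m hm

theorem mem_golayCode_iff (w : GolayPt → ZMod 2) :
    w ∈ golayCode ↔ mask (support₂ w) ∈ codeMasks := by
  rw [← support₂_mem_codeSets_iff, mem_codeSets_iff_mask]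

/-! ### Octads and dodecads -/

theorem mem_octads_iff (s : Finset GolayPt) : s ∈ octads ↔ mask s ∈ octadMasks := by
  simp only [octads, wordsOfWeight, Set.mem_ofPred_eq, octadMasks, List.mem_filter, beq_iff_eq]
  rw [← card_eq_popc_mask]
  exact and_congr_left (fun _ => mem_codeSets_iff_mask s)

theorem mem_dodecads_iff (s : Finset GolayPt) : s ∈ dodecads ↔ mask s ∈ dodecadMasks := by
  simp only [dodecads, wordsOfWeight, Set.mem_ofPred_eq, dodecadMasks, List.mem_filter, beq_iff_eq]
  rw [← card_eq_popc_mask]
  exact and_congr_left (fun _ => mem_codeSets_iff_mask s)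

end Cfsg.Agent.Helper26
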