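import Mathlib
import Cfsg.Prelude.Def_Sporadic_a
import Cfsg.Agent.Lib.Helper26.GolayCode

/-!
Basic facts about the length-24 code, proved by kernel computation on bitmasks:
weights, the 759 octads and 2576 dodecads, minimum distance 8, the Steiner system S(5,8,24).
-/

set_option autoImplicit false

namespace Cfsg.Agent.Helper26

open Cfsg

set_option maxRecDepth 1000000 in
/-- The masks of the 759 octads, as a sorted list of raw literals. -/
def octLit : List ℕ := [nat_lit 5279, nat_lit 10558, nat_lit 15777, nat_lit 18147, nat_lit 21116, nat_lit 31554, nat_lit 36294, nat_lit 39257, nat_lit 42232, nat_lit 45159, nat_lit 52005, nat_lit 57883, nat_lit 63108, nat_lit 69395, nat_lit 72588, nat_lit 75309, nat_lit 78514, nat_lit 84464, nat_lit 90318, nat_lit 95313, nat_lit 99029, nat_lit 104010, nat_lit 115766, nat_lit 118953, nat_lit 126216, nat_lit 133817, nat_lit 138790, nat_lit 140167, nat_lit 145176, nat_lit 150618, nat_lit 153797, nat_lit 157028, nat_lit 168928, nat_lit 175681, nat_lit 180636, nat_lit 185603, nat_lit 190626, nat_lit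 198058, nat_lit 201013, nat_lit 208020, nat_lit 210955, nat_lit 213833, nat_lit 231532, nat_lit 237906, nat_lit 252432, nat_lit 262637, nat_lit 267634, nat_lit 272595, nat_lit 277580, nat_lit 280334, nat_lit 283537, nat_lit 290352, nat_lit 298027, nat_lit 301236, nat_lit 304405, nat_lit 307594, nat_lit 314056, nat_lit 334433, nat_lit 337856, nat_lit 346141, nat_lit 351362, nat_lit 352547, nat_lit 361272, nat_lit 371206, nat_lit 381252, nat_lit 396116, nat_lit 402026, nat_lit 416040, nat_lit 418953, nat_lit 421910, nat_lit 427666, nat_lit 430605, nat_lit 442481, nat_lit 459847, nat_lit 463064, nat_lit 475812, nat_lit 493953, nat_lit 504864, nat_lit 525274, nat_lit 530245, nat_lit 535268, nat_lit 542009, nat_lit 545190, nat_lit 551943, nat_lit 555160, nat_lit 560668, nat_lit 563843, nat_lit 567074, nat_lit 580704, nat_lit 582081, nat_lit 593097, nat_lit 596054, nat_lit 602472, nat_lit 608810, nat_lit 615188, nat_lit 622863, nat_lit 628112, nat_lit 632881, nat_lit 657763, nat_lit 663645, nat_lit 668866, nat_lit 675712, nat_lit 684577,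 nat_lit 689317, nat_lit 692282, nat_lit 702724, nat_lit 705094, nat_lit 722544, nat_lit 737427, nat_lit 742412, nat_lit 762504, nat_lit 786999, nat_lit 792232, nat_lit 797449, nat_lit 804052, nat_lit 806987, nat_lit 832080, nat_lit 837906, nat_lit 843820, nat_lit 855332, nat_lit 861210, nat_lit 864389, nat_lit 884962, nat_lit 902657, nat_lit 919694, nat_lit 924689, nat_lit 926128, nat_lit 951624, nat_lit 987906, nat_lit 1009728, nat_lit 1050548, nat_lit 1053483, nat_lit 1060490, nat_lit 1063445, nat_lit 1065303, nat_lit 1070536, nat_lit 1075305, nat_lit 1084018, nat_lit 1090380, nat_lit 1100945, nat_lit 1103886, nat_lit 1110320, nat_lit 1116327, nat_lit 1121336, nat_lit 1122713, nat_lit 1127686, nat_lit 1134148, nat_lit 1148257, nat_lit 1161408, nat_lit 1164162, nat_lit 1182989, nat_lit 1186194, nat_lit 1188915, nat_lit 1192108, nat_lit 1204944, nat_lit 1212619, nat_lit 1217620, nat_lit 1230376, nat_lit 1245726, nat_lit 1250945, nat_lit 1256224, nat_lit 1265762, nat_lit 1302533, nat_lit 1312345, nat_lit 1315526, nat_lit 1327290, nat_lit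 1332261, nat_lit 1337732, nat_lit 1351424, nat_lit 1352353, nat_lit 1369154, nat_lit 1378634, nat_lit 1384564, nat_lit 1405448, nat_lit 1410188, nat_lit 1413139, nat_lit 1445088, nat_lit 1454401, nat_lit 1460739, nat_lit 1474854, nat_lit 1484824, nat_lit 1525008, nat_lit 1573998, nat_lit 1577201, nat_lit 1584464, nat_lit 1589901, nat_lit 1594898, nat_lit 1608104, nat_lit 1613974, nat_lit 1618953, nat_lit 1647171, nat_lit 1661185, nat_lit 1664160, nat_lit 1675812, nat_lit 1687640, nat_lit 1710664, nat_lit 1722420, nat_lit 1728778, nat_lit 1737489, nat_lit 1769924, nat_lit 1805314, nat_lit 1836419, nat_lit 1839388, nat_lit 1849378, nat_lit 1852256, nat_lit 1869893, nat_lit 1903248, nat_lit 1975812, nat_lit 2019456, nat_lit 2031657, nat_lit 2101096, nat_lit 2106966, nat_lit 2110153, nat_lit 2115979, nat_lit 2120980, nat_lit 2121909, nat_lit 2126890, nat_lit 2130606, nat_lit 2135601, nat_lit 2141072, nat_lit 2147405, nat_lit 2150610, nat_lit 2162811, nat_lit 2168036, nat_lit 2173253, nat_lit 2180760, nat_lit 2183687, nat_lit 2201890, nat_lit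 2204803, nat_lit 2207772, nat_lit 2220640, nat_lit 2229713, nat_lit 2232654, nat_lit 2242672, nat_lit 2245426, nat_lit 2255372, nat_lit 2263063, nat_lit 2268296, nat_lit 2269481, nat_lit 2296514, nat_lit 2313249, nat_lit 2322816, nat_lit 2328324, nat_lit 2363013, nat_lit 2365978, nat_lit 2372388, nat_lit 2377830, nat_lit 2384216, nat_lit 2392899, nat_lit 2409888, nat_lit 2422785, nat_lit 2425238, nat_lit 2430217, nat_lit 2435240, nat_lit 2460752, nat_lit 2491452, nat_lit 2494627, nat_lit 2501890, nat_lit 2512448, nat_lit 2531524, nat_lit 2564625, nat_lit 2605066, nat_lit 2624690, nat_lit 2627629, nat_lit 2631052, nat_lit 2634003, nat_lit 2640465, nat_lit 2654580, nat_lit 2664522, nat_lit 2675464, nat_lit 2687905, nat_lit 2702848, nat_lit 2704706, nat_lit 2738308, nat_lit 2754059, nat_lit 2757268, nat_lit 2769128, nat_lit 2810896, nat_lit 2820376, nat_lit 2826278, nat_lit 2854977, nat_lit 2890176, nat_lit 2892897, nat_lit 2908802, nat_lit 2916505, nat_lit 2921478, nat_lit 2949708, nat_lit 2969648, nat_lit 3031301, nat_lit 3050016, nat_lit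 3147996, nat_lit 3152963, nat_lit 3154402, nat_lit 3168928, nat_lit 3172097, nat_lit 3179802, nat_lit 3182981, nat_lit 3189796, nat_lit 3216208, nat_lit 3227948, nat_lit 3237906, nat_lit 3246601, nat_lit 3277413, nat_lit 3294342, nat_lit 3297305, nat_lit 3322370, nat_lit 3328320, nat_lit 3351624, nat_lit 3375280, nat_lit 3410225, nat_lit 3416079, nat_lit 3421328, nat_lit 3444840, nat_lit 3457556, nat_lit 3474978, nat_lit 3489985, nat_lit 3539848, nat_lit 3610628, nat_lit 3672838, nat_lit 3678776, nat_lit 3698756, nat_lit 3704512, nat_lit 3719203, nat_lit 3736597, nat_lit 3739786, nat_lit 3806496, nat_lit 3811457, nat_lit 3951624, nat_lit 4038912, nat_lit 4063314, nat_lit 4196943, nat_lit 4202192, nat_lit 4203377, nat_lit 4213932, nat_lit 4216883, nat_lit 4220306, nat_lit 4223245, nat_lit 4229001, nat_lit 4231958, nat_lit 4241960, nat_lit 4243818, nat_lit 4253780, nat_lit 4261212, nat_lit 4264387, nat_lit 4271202, nat_lit 4282144, nat_lit 4287105, nat_lit 4294810, nat_lit 4299781, nat_lit 4301220, nat_lit 4325622, nat_lit 4330601, nat_lit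 4336072, nat_lit 4343317, nat_lit 4346506, nat_lit 4361520, nat_lit 4367374, nat_lit 4370577, nat_lit 4403780, nat_lit 4409606, nat_lit 4415544, nat_lit 4424227, nat_lit 4441280, nat_lit 4459426, nat_lit 4465308, nat_lit 4470275, nat_lit 4476225, nat_lit 4485344, nat_lit 4490852, nat_lit 4505735, nat_lit 4510744, nat_lit 4523185, nat_lit 4526126, nat_lit 4536592, nat_lit 4538962, nat_lit 4563017, nat_lit 4587803, nat_lit 4593028, nat_lit 4597797, nat_lit 4626498, nat_lit 4645632, nat_lit 4656648, nat_lit 4721045, nat_lit 4726026, nat_lit 4726955, nat_lit 4731956, nat_lit 4744776, nat_lit 4752467, nat_lit 4755660, nat_lit 4768432, nat_lit 4785798, nat_lit 4788761, nat_lit 4800613, nat_lit 4819776, nat_lit 4845570, nat_lit 4850476, nat_lit 4860434, nat_lit 4870480, nat_lit 4900873, nat_lit 4921504, nat_lit 4924673, nat_lit 4982904, nat_lit 4989254, nat_lit 5003780, nat_lit 5017889, nat_lit 5024896, nat_lit 5063048, nat_lit 5112513, nat_lit 5129250, nat_lit 5210132, nat_lit 5249380, nat_lit 5252293, nat_lit 5255258, nat_lit 5262104, nat_lit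 5268006, nat_lit 5275709, nat_lit 5280930, nat_lit 5286147, nat_lit 5296705, nat_lit 5309160, nat_lit 5325835, nat_lit 5329044, nat_lit 5350928, nat_lit 5375810, nat_lit 5390753, nat_lit 5405696, nat_lit 5409412, nat_lit 5441617, nat_lit 5476616, nat_lit 5508118, nat_lit 5511305, nat_lit 5514536, nat_lit 5538256, nat_lit 5571333, nat_lit 5621792, nat_lit 5640752, nat_lit 5652556, nat_lit 5709954, nat_lit 5770785, nat_lit 5780352, nat_lit 5785794, nat_lit 5817604, nat_lit 5833010, nat_lit 5842956, nat_lit 5899416, nat_lit 5902343, nat_lit 5939296, nat_lit 6053905, nat_lit 6062602, nat_lit 6100032, nat_lit 6292775, nat_lit 6295992, nat_lit 6302745, nat_lit 6305926, nat_lit 6308804, nat_lit 6326497, nat_lit 6337856, nat_lit 6344194, nat_lit 6359604, nat_lit 6365962, nat_lit 6379592, nat_lit 6406417, nat_lit 6429441, nat_lit 6432416, nat_lit 6447171, nat_lit 6455896, nat_lit 6475812, nat_lit 6488205, nat_lit 6493202, nat_lit 6554826, nat_lit 6557781, nat_lit 6570537, nat_lit 6588684, nat_lit 6594610, nat_lit 6644740, nat_lit 6656640, nat_lit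 6703248, nat_lit 6750560, nat_lit 6820450, nat_lit 6832158, nat_lit 6837377, nat_lit 6842656, nat_lit 6857221, nat_lit 6889680, nat_lit 6915112, nat_lit 6949956, nat_lit 6979970, nat_lit 7079696, nat_lit 7145475, nat_lit 7221256, nat_lit 7340691, nat_lit 7345676, nat_lit 7357552, nat_lit 7397512, nat_lit 7409024, nat_lit 7417889, nat_lit 7438406, nat_lit 7473194, nat_lit 7479572, nat_lit 7612992, nat_lit 7622914, nat_lit 7767041, nat_lit 7864649, nat_lit 7903248, nat_lit 8077824, nat_lit 8126628, nat_lit 8391797, nat_lit 8394986, nat_lit 8398155, nat_lit 8401364, nat_lit 8407702, nat_lit 8412681, nat_lit 8414120, nat_lit 8421811, nat_lit 8426796, nat_lit 8431757, nat_lit 8436754, nat_lit 8439632, nat_lit 8455014, nat_lit 8464984, nat_lit 8471941, nat_lit 8474906, nat_lit 8484900, nat_lit 8490656, nat_lit 8499969, nat_lit 8505411, nat_lit 8521420, nat_lit 8524371, nat_lit 8536111, nat_lit 8541360, nat_lit 8546577, nat_lit 8555274, nat_lit 8561204, nat_lit 8581192, nat_lit 8592704, nat_lit 8593633, nat_lit 8611330, nat_lit 8619033, nat_lit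 8622214, nat_lit 8654232, nat_lit 8657159, nat_lit 8660134, nat_lit 8663097, nat_lit 8675909, nat_lit 8683614, nat_lit 8688833, nat_lit 8694112, nat_lit 8704546, nat_lit 8716939, nat_lit 8721940, nat_lit 8733800, nat_lit 8773776, nat_lit 8783649, nat_lit 8796800, nat_lit 8798658, nat_lit 8834052, nat_lit 8849458, nat_lit 8855820, nat_lit 8919856, nat_lit 8922769, nat_lit 8925710, nat_lit 8931660, nat_lit 8937586, nat_lit 8946281, nat_lit 8963210, nat_lit 8966165, nat_lit 8978620, nat_lit 8983587, nat_lit 8989058, nat_lit 8999616, nat_lit 9020484, nat_lit 9045270, nat_lit 9048457, nat_lit 9055272, nat_lit 9078992, nat_lit 9112069, nat_lit 9158944, nat_lit 9178690, nat_lit 9193633, nat_lit 9204992, nat_lit 9208708, nat_lit 9240913, nat_lit 9279496, nat_lit 9310308, nat_lit 9323032, nat_lit 9347075, nat_lit 9440193, nat_lit 9451104, nat_lit 9456930, nat_lit 9462812, nat_lit 9465987, nat_lit 9471495, nat_lit 9474712, nat_lit 9486564, nat_lit 9503954, nat_lit 9506893, nat_lit 9519665, nat_lit 9537812, nat_lit 9543722, nat_lit 9568632, nat_lit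 9578566, nat_lit 9589508, nat_lit 9607201, nat_lit 9610624, nat_lit 9652360, nat_lit 9701932, nat_lit 9708306, nat_lit 9721936, nat_lit 9748745, nat_lit 9769376, nat_lit 9776129, nat_lit 9830549, nat_lit 9835530, nat_lit 9929280, nat_lit 9963547, nat_lit 9968772, nat_lit 9969957, nat_lit 9998658, nat_lit 10021376, nat_lit 10028808, nat_lit 10093218, nat_lit 10110017, nat_lit 10170384, nat_lit 10232008, nat_lit 10257456, nat_lit 10305542, nat_lit 10486557, nat_lit 10491778, nat_lit 10496547, nat_lit 10506593, nat_lit 10513600, nat_lit 10525252, nat_lit 10537016, nat_lit 10543366, nat_lit 10554382, nat_lit 10557585, nat_lit 10560816, nat_lit 10584520, nat_lit 10619300, nat_lit 10625178, nat_lit 10630149, nat_lit 10650722, nat_lit 10666625, nat_lit 10687016, nat_lit 10698836, nat_lit 10748656, nat_lit 10765331, nat_lit 10768524, nat_lit 10790408, nat_lit 10825794, nat_lit 10832640, nat_lit 10846245, nat_lit 10881097, nat_lit 10916112, nat_lit 11010247, nat_lit 11015256, nat_lit 11028004, nat_lit 11046145, nat_lit 11055264, nat_lit 11100169,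 nat_lit 11108882, nat_lit 11150144, nat_lit 11163650, nat_lit 11272490, nat_lit 11282452, nat_lit 11469952, nat_lit 11535529, nat_lit 11538486, nat_lit 11548936, nat_lit 11551306, nat_lit 11575377, nat_lit 11608708, nat_lit 11654144, nat_lit 11669008, nat_lit 11731203, nat_lit 11797828, nat_lit 11831426, nat_lit 11952160, nat_lit 12075408, nat_lit 12126304, nat_lit 12222476, nat_lit 12325377, nat_lit 12584506, nat_lit 12587685, nat_lit 12594948, nat_lit 12599513, nat_lit 12604486, nat_lit 12624578, nat_lit 12638592, nat_lit 12641313, nat_lit 12650793, nat_lit 12656663, nat_lit 12661896, nat_lit 12685424, nat_lit 12698124, nat_lit 12717187, nat_lit 12720156, nat_lit 12726562, nat_lit 12733024, nat_lit 12747077, nat_lit 12780432, nat_lit 12849992, nat_lit 12861748, nat_lit 12871690, nat_lit 12880401, nat_lit 12912836, nat_lit 12944642, nat_lit 12985424, nat_lit 13009064, nat_lit 13062145, nat_lit 13108704, nat_lit 13121601, nat_lit 13124355, nat_lit 13142054, nat_lit 13148440, nat_lit 13192208, nat_lit 13262980, nat_lit 13276672, nat_lit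 13303882, nat_lit 13370381, nat_lit 13373586, nat_lit 13443616, nat_lit 13631886, nat_lit 13636881, nat_lit 13641904, nat_lit 13667400, nat_lit 13703682, nat_lit 13721920, nat_lit 13771273, nat_lit 13811730, nat_lit 13829156, nat_lit 13893731, nat_lit 13911680, nat_lit 13938692, nat_lit 14156372, nat_lit 14176296, nat_lit 14254209, nat_lit 14551296, nat_lit 14682450, nat_lit 14688364, nat_lit 14709264, nat_lit 14714004, nat_lit 14716939, nat_lit 14747201, nat_lit 14762146, nat_lit 14828808, nat_lit 14919680, nat_lit 14949408, nat_lit 14950785, nat_lit 15073798, nat_lit 15207048, nat_lit 15274244, nat_lit 15335473, nat_lit 15515712, nat_lit 15747077, nat_lit 15762208, nat_lit 15864000, nat_lit 16056344, nat_lit 16262146]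

set_option maxRecDepth 1000000 in
/-- The masks of the 2576 dodecads, as a sorted list of raw literals. -/
def dodLit : List ℕ := [nat_lit 28637, nat_lit 57274, nat_lit 89455, nat_lit 109547, nat_lit 114548, nat_lit 129431, nat_lit 160251, nat_lit 165759, nat_lit 178910, nat_lit 195645, nat_lit 219094, nat_lit 223863, nat_lit 229096, nat_lit 236787, nat_lit 243149, nat_lit 249487, nat_lit 255921, nat_lit 258862, nat_lit 293551, nat_lit 319063, nat_lit 320502, nat_lit 325481, nat_lit 331518, nat_lit 340831, nat_lit 357820, nat_lit 366503, nat_lit 376473, nat_lit 378331, nat_lit 388325, nat_lit 391290, nat_lit 401355, nat_lit 407285, nat_lit 413111, nat_lit 438188, nat_lit 441139, nat_lit 447726, nat_lit 452943, nat_lit 458192, nat_lit 470393, nat_lit 473574, nat_lit 480827, nat_lit 486298, nat_lit 491269, nat_lit 498974, nat_lit 499903, nat_lit 511842, nat_lit 517724, nat_lit 520899, nat_lit 540283, nat_lit 570301, nat_lit 575743, nat_lit 587102, nat_lit 599543, nat_lit 614069, nat_lit 620427, nat_lit 638126, nat_lit 641004, nat_lit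 643955, nat_lit 650962, nat_lit 653901, nat_lit 663036, nat_lit 678687, nat_lit 681662, nat_lit 699803, nat_lit 710361, nat_lit 715640, nat_lit 725743, nat_lit 733006, nat_lit 736209, nat_lit 747949, nat_lit 752946, nat_lit 756662, nat_lit 761641, nat_lit 767511, nat_lit 773461, nat_lit 776650, nat_lit 779371, nat_lit 782580, nat_lit 802710, nat_lit 814570, nat_lit 817525, nat_lit 823281, nat_lit 826222, nat_lit 829135, nat_lit 843149, nat_lit 849075, nat_lit 858555, nat_lit 871367, nat_lit 876376, nat_lit 877305, nat_lit 882278, nat_lit 889981, nat_lit 895452, nat_lit 900419, nat_lit 905886, nat_lit 916384, nat_lit 931119, nat_lit 937581, nat_lit 940786, nat_lit 943955, nat_lit 947148, nat_lit 954839, nat_lit 961654, nat_lit 964841, nat_lit 967595, nat_lit 972596, nat_lit 977557, nat_lit 982538, nat_lit 984989, nat_lit 994979, nat_lit 997948, nat_lit 999806, nat_lit 1005025, nat_lit 1018459, nat_lit 1023684, nat_lit 1024869, nat_lit 1035448, nat_lit 1038375, nat_lit 1041798, nat_lit 1044761, nat_lit 1080566, nat_lit 1089261, nat_lit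 1095635, nat_lit 1107375, nat_lit 1137371, nat_lit 1140602, nat_lit 1143781, nat_lit 1151486, nat_lit 1158239, nat_lit 1169181, nat_lit 1174204, nat_lit 1179171, nat_lit 1199086, nat_lit 1204081, nat_lit 1209935, nat_lit 1223157, nat_lit 1228138, nat_lit 1233591, nat_lit 1240854, nat_lit 1244041, nat_lit 1262845, nat_lit 1273283, nat_lit 1276252, nat_lit 1282008, nat_lit 1284935, nat_lit 1287910, nat_lit 1290873, nat_lit 1296699, nat_lit 1301924, nat_lit 1307802, nat_lit 1322855, nat_lit 1326072, nat_lit 1342747, nat_lit 1346463, nat_lit 1357374, nat_lit 1363324, nat_lit 1366499, nat_lit 1372381, nat_lit 1383893, nat_lit 1389803, nat_lit 1396649, nat_lit 1399606, nat_lit 1402519, nat_lit 1420722, nat_lit 1423661, nat_lit 1426031, nat_lit 1431280, nat_lit 1436497, nat_lit 1448063, nat_lit 1451486, nat_lit 1466012, nat_lit 1467197, nat_lit 1472418, nat_lit 1480121, nat_lit 1490055, nat_lit 1492933, nat_lit 1495898, nat_lit 1505892, nat_lit 1508339, nat_lit 1513324, nat_lit 1518285, nat_lit 1523282, nat_lit 1528207, nat_lit 1535022, nat_lit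 1538225, nat_lit 1543733, nat_lit 1546922, nat_lit 1550091, nat_lit 1553300, nat_lit 1558742, nat_lit 1563721, nat_lit 1565160, nat_lit 1587663, nat_lit 1600435, nat_lit 1605420, nat_lit 1613111, nat_lit 1625931, nat_lit 1629140, nat_lit 1631861, nat_lit 1635050, nat_lit 1641341, nat_lit 1646562, nat_lit 1652444, nat_lit 1658270, nat_lit 1667135, nat_lit 1672891, nat_lit 1683333, nat_lit 1686298, nat_lit 1692871, nat_lit 1698150, nat_lit 1707735, nat_lit 1714153, nat_lit 1717110, nat_lit 1727659, nat_lit 1734037, nat_lit 1742734, nat_lit 1747503, nat_lit 1752752, nat_lit 1754610, nat_lit 1757549, nat_lit 1764556, nat_lit 1767507, nat_lit 1774939, nat_lit 1779962, nat_lit 1784933, nat_lit 1787687, nat_lit 1790904, nat_lit 1797657, nat_lit 1800838, nat_lit 1808541, nat_lit 1811772, nat_lit 1814947, nat_lit 1821409, nat_lit 1832768, nat_lit 1846461, nat_lit 1862238, nat_lit 1867457, nat_lit 1875162, nat_lit 1876347, nat_lit 1881572, nat_lit 1887910, nat_lit 1890873, nat_lit 1894296, nat_lit 1897223, nat_lit 1908239, nat_lit 1909678, nat_lit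 1914673, nat_lit 1920115, nat_lit 1923308, nat_lit 1926477, nat_lit 1929682, nat_lit 1935190, nat_lit 1938377, nat_lit 1945192, nat_lit 1950133, nat_lit 1955114, nat_lit 1960075, nat_lit 1965076, nat_lit 1969978, nat_lit 1973157, nat_lit 1979035, nat_lit 1984985, nat_lit 1989958, nat_lit 1990887, nat_lit 1995896, nat_lit 1999612, nat_lit 2004579, nat_lit 2010050, nat_lit 2016287, nat_lit 2026785, nat_lit 2036918, nat_lit 2042135, nat_lit 2047368, nat_lit 2049738, nat_lit 2052693, nat_lit 2070896, nat_lit 2073809, nat_lit 2076750, nat_lit 2083596, nat_lit 2089522, nat_lit 2104311, nat_lit 2146063, nat_lit 2157939, nat_lit 2161132, nat_lit 2178522, nat_lit 2191270, nat_lit 2194233, nat_lit 2198973, nat_lit 2214750, nat_lit 2219969, nat_lit 2239727, nat_lit 2250669, nat_lit 2260627, nat_lit 2274742, nat_lit 2281204, nat_lit 2284139, nat_lit 2287562, nat_lit 2290517, nat_lit 2301533, nat_lit 2302972, nat_lit 2307939, nat_lit 2316478, nat_lit 2319647, nat_lit 2331547, nat_lit 2338362, nat_lit 2341541, nat_lit 2343399, nat_lit 2348408, nat_lit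 2353369, nat_lit 2358342, nat_lit 2369467, nat_lit 2383097, nat_lit 2389447, nat_lit 2398172, nat_lit 2402941, nat_lit 2408162, nat_lit 2412863, nat_lit 2419870, nat_lit 2440247, nat_lit 2443125, nat_lit 2446314, nat_lit 2453067, nat_lit 2456276, nat_lit 2463951, nat_lit 2467182, nat_lit 2470385, nat_lit 2476723, nat_lit 2481708, nat_lit 2483085, nat_lit 2488082, nat_lit 2505117, nat_lit 2507487, nat_lit 2517985, nat_lit 2525690, nat_lit 2530661, nat_lit 2536539, nat_lit 2543385, nat_lit 2546566, nat_lit 2549287, nat_lit 2552504, nat_lit 2558767, nat_lit 2564016, nat_lit 2569870, nat_lit 2575820, nat_lit 2578771, nat_lit 2581746, nat_lit 2584685, nat_lit 2590441, nat_lit 2593398, nat_lit 2603848, nat_lit 2610325, nat_lit 2615604, nat_lit 2645710, nat_lit 2646895, nat_lit 2652144, nat_lit 2659819, nat_lit 2669781, nat_lit 2672535, nat_lit 2682537, nat_lit 2685494, nat_lit 2692926, nat_lit 2697887, nat_lit 2707933, nat_lit 2714748, nat_lit 2717923, nat_lit 2723431, nat_lit 2726648, nat_lit 2729817, nat_lit 2732998, nat_lit 2743323, nat_lit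 2744762, nat_lit 2749733, nat_lit 2764597, nat_lit 2767786, nat_lit 2774135, nat_lit 2779606, nat_lit 2784585, nat_lit 2788301, nat_lit 2793298, nat_lit 2794227, nat_lit 2799212, nat_lit 2805038, nat_lit 2808241, nat_lit 2814095, nat_lit 2825607, nat_lit 2831545, nat_lit 2841444, nat_lit 2844357, nat_lit 2847322, nat_lit 2852062, nat_lit 2862560, nat_lit 2867773, nat_lit 2872994, nat_lit 2878211, nat_lit 2887007, nat_lit 2896126, nat_lit 2902972, nat_lit 2907939, nat_lit 2913821, nat_lit 2927015, nat_lit 2932024, nat_lit 2934394, nat_lit 2937573, nat_lit 2944836, nat_lit 2954963, nat_lit 2960242, nat_lit 2966703, nat_lit 2977169, nat_lit 2980110, nat_lit 2985866, nat_lit 2988821, nat_lit 2991796, nat_lit 2994731, nat_lit 3000681, nat_lit 3006551, nat_lit 3011784, nat_lit 3016678, nat_lit 3019641, nat_lit 3026648, nat_lit 3029575, nat_lit 3036570, nat_lit 3041339, nat_lit 3046564, nat_lit 3056414, nat_lit 3061633, nat_lit 3067075, nat_lit 3070044, nat_lit 3076450, nat_lit 3082485, nat_lit 3087466, nat_lit 3088843, nat_lit 3093844, nat_lit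 3100182, nat_lit 3103369, nat_lit 3106600, nat_lit 3114291, nat_lit 3117484, nat_lit 3124237, nat_lit 3127442, nat_lit 3130320, nat_lit 3159421, nat_lit 3165759, nat_lit 3175326, nat_lit 3193019, nat_lit 3195897, nat_lit 3200870, nat_lit 3205831, nat_lit 3210840, nat_lit 3213263, nat_lit 3223281, nat_lit 3226222, nat_lit 3233203, nat_lit 3243149, nat_lit 3251862, nat_lit 3253047, nat_lit 3258280, nat_lit 3263722, nat_lit 3266677, nat_lit 3270100, nat_lit 3273035, nat_lit 3282682, nat_lit 3287899, nat_lit 3293124, nat_lit 3304888, nat_lit 3307815, nat_lit 3313571, nat_lit 3316540, nat_lit 3319453, nat_lit 3334270, nat_lit 3339489, nat_lit 3345782, nat_lit 3348969, nat_lit 3354839, nat_lit 3361685, nat_lit 3366666, nat_lit 3367595, nat_lit 3372596, nat_lit 3380271, nat_lit 3385742, nat_lit 3390737, nat_lit 3393107, nat_lit 3396300, nat_lit 3415470, nat_lit 3428306, nat_lit 3431245, nat_lit 3434220, nat_lit 3437171, nat_lit 3441911, nat_lit 3452361, nat_lit 3455318, nat_lit 3462795, nat_lit 3468074, nat_lit 3478205, nat_lit 3485468, nat_lit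 3488643, nat_lit 3495006, nat_lit 3505504, nat_lit 3509220, nat_lit 3515098, nat_lit 3520069, nat_lit 3525895, nat_lit 3529112, nat_lit 3531833, nat_lit 3535014, nat_lit 3544855, nat_lit 3549878, nat_lit 3554857, nat_lit 3556715, nat_lit 3559924, nat_lit 3566677, nat_lit 3569866, nat_lit 3575374, nat_lit 3578577, nat_lit 3581808, nat_lit 3590317, nat_lit 3595314, nat_lit 3596691, nat_lit 3601676, nat_lit 3607707, nat_lit 3614117, nat_lit 3617082, nat_lit 3623544, nat_lit 3629894, nat_lit 3637597, nat_lit 3642818, nat_lit 3647587, nat_lit 3658529, nat_lit 3665536, nat_lit 3678105, nat_lit 3684007, nat_lit 3689957, nat_lit 3692922, nat_lit 3695835, nat_lit 3707487, nat_lit 3717985, nat_lit 3724476, nat_lit 3729693, nat_lit 3734914, nat_lit 3747115, nat_lit 3750324, nat_lit 3752694, nat_lit 3757673, nat_lit 3763144, nat_lit 3770835, nat_lit 3775820, nat_lit 3776749, nat_lit 3781746, nat_lit 3788592, nat_lit 3794446, nat_lit 3797649, nat_lit 3801535, nat_lit 3816478, nat_lit 3819356, nat_lit 3822531, nat_lit 3829346, nat_lit 3837049, nat_lit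 3840230, nat_lit 3843399, nat_lit 3846616, nat_lit 3852954, nat_lit 3857925, nat_lit 3859364, nat_lit 3870380, nat_lit 3873331, nat_lit 3876754, nat_lit 3879693, nat_lit 3885135, nat_lit 3890384, nat_lit 3891569, nat_lit 3900266, nat_lit 3910228, nat_lit 3917193, nat_lit 3920150, nat_lit 3930152, nat_lit 3934955, nat_lit 3939956, nat_lit 3941333, nat_lit 3946314, nat_lit 3954839, nat_lit 3958070, nat_lit 3961257, nat_lit 3966765, nat_lit 3969970, nat_lit 3976723, nat_lit 3979916, nat_lit 3981774, nat_lit 3986769, nat_lit 3991792, nat_lit 3999224, nat_lit 4002151, nat_lit 4009158, nat_lit 4012121, nat_lit 4014875, nat_lit 4020100, nat_lit 4024869, nat_lit 4032574, nat_lit 4037793, nat_lit 4053570, nat_lit 4068557, nat_lit 4073836, nat_lit 4081329, nat_lit 4084270, nat_lit 4094736, nat_lit 4099476, nat_lit 4102411, nat_lit 4105386, nat_lit 4108341, nat_lit 4121161, nat_lit 4132673, nat_lit 4141792, nat_lit 4147618, nat_lit 4153500, nat_lit 4158467, nat_lit 4162183, nat_lit 4167192, nat_lit 4179044, nat_lit 4208622, nat_lit 4239031, nat_lit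 4249077, nat_lit 4259019, nat_lit 4274429, nat_lit 4277183, nat_lit 4292126, nat_lit 4306235, nat_lit 4312697, nat_lit 4315878, nat_lit 4319047, nat_lit 4322264, nat_lit 4341079, nat_lit 4353835, nat_lit 4357044, nat_lit 4364719, nat_lit 4377555, nat_lit 4382540, nat_lit 4383469, nat_lit 4388466, nat_lit 4394981, nat_lit 4397946, nat_lit 4400859, nat_lit 4414873, nat_lit 4420775, nat_lit 4429500, nat_lit 4434717, nat_lit 4439938, nat_lit 4444255, nat_lit 4454753, nat_lit 4464445, nat_lit 4479454, nat_lit 4482175, nat_lit 4494075, nat_lit 4501338, nat_lit 4504517, nat_lit 4516281, nat_lit 4521254, nat_lit 4533647, nat_lit 4544205, nat_lit 4549484, nat_lit 4557175, nat_lit 4562408, nat_lit 4568278, nat_lit 4575124, nat_lit 4578059, nat_lit 4581034, nat_lit 4583989, nat_lit 4603066, nat_lit 4605944, nat_lit 4608871, nat_lit 4615878, nat_lit 4618841, nat_lit 4623581, nat_lit 4629987, nat_lit 4632956, nat_lit 4639294, nat_lit 4644513, nat_lit 4659863, nat_lit 4663094, nat_lit 4666281, nat_lit 4671723, nat_lit 4676724, nat_lit 4678101, nat_lit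 4683082, nat_lit 4686798, nat_lit 4691793, nat_lit 4696816, nat_lit 4703533, nat_lit 4706738, nat_lit 4713491, nat_lit 4716684, nat_lit 4738934, nat_lit 4742121, nat_lit 4747991, nat_lit 4762989, nat_lit 4766194, nat_lit 4773423, nat_lit 4778894, nat_lit 4783889, nat_lit 4796344, nat_lit 4799271, nat_lit 4805882, nat_lit 4811099, nat_lit 4816324, nat_lit 4825726, nat_lit 4830945, nat_lit 4836771, nat_lit 4839740, nat_lit 4842653, nat_lit 4855731, nat_lit 4865677, nat_lit 4867535, nat_lit 4877553, nat_lit 4880494, nat_lit 4886250, nat_lit 4889205, nat_lit 4892628, nat_lit 4895563, nat_lit 4906134, nat_lit 4907319, nat_lit 4912552, nat_lit 4918335, nat_lit 4927902, nat_lit 4934364, nat_lit 4939331, nat_lit 4940770, nat_lit 4948473, nat_lit 4953446, nat_lit 4958407, nat_lit 4963416, nat_lit 4966170, nat_lit 4969349, nat_lit 4976164, nat_lit 4988135, nat_lit 4994521, nat_lit 5000859, nat_lit 5007269, nat_lit 5010234, nat_lit 5014974, nat_lit 5027871, nat_lit 5030749, nat_lit 5035970, nat_lit 5040739, nat_lit 5048171, nat_lit 5051380, nat_lit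 5058133, nat_lit 5061322, nat_lit 5068055, nat_lit 5073078, nat_lit 5078057, nat_lit 5081773, nat_lit 5086770, nat_lit 5088147, nat_lit 5093132, nat_lit 5098574, nat_lit 5101777, nat_lit 5105008, nat_lit 5117534, nat_lit 5128032, nat_lit 5132477, nat_lit 5139740, nat_lit 5142915, nat_lit 5148423, nat_lit 5151640, nat_lit 5154361, nat_lit 5157542, nat_lit 5163492, nat_lit 5169370, nat_lit 5174341, nat_lit 5180882, nat_lit 5183821, nat_lit 5186796, nat_lit 5189747, nat_lit 5196593, nat_lit 5202447, nat_lit 5207696, nat_lit 5215371, nat_lit 5220650, nat_lit 5231208, nat_lit 5246459, nat_lit 5267335, nat_lit 5273273, nat_lit 5291420, nat_lit 5293790, nat_lit 5304288, nat_lit 5314167, nat_lit 5319638, nat_lit 5324617, nat_lit 5336373, nat_lit 5339562, nat_lit 5345070, nat_lit 5348273, nat_lit 5354127, nat_lit 5360077, nat_lit 5365074, nat_lit 5366003, nat_lit 5370988, nat_lit 5379037, nat_lit 5385852, nat_lit 5389027, nat_lit 5395774, nat_lit 5400735, nat_lit 5414427, nat_lit 5415866, nat_lit 5420837, nat_lit 5426279, nat_lit 5429496, nat_lit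 5432665, nat_lit 5435846, nat_lit 5446862, nat_lit 5448047, nat_lit 5453296, nat_lit 5459634, nat_lit 5462573, nat_lit 5465996, nat_lit 5468947, nat_lit 5473687, nat_lit 5483689, nat_lit 5486646, nat_lit 5489524, nat_lit 5499466, nat_lit 5517751, nat_lit 5524213, nat_lit 5529194, nat_lit 5530571, nat_lit 5535572, nat_lit 5543247, nat_lit 5548270, nat_lit 5553265, nat_lit 5556019, nat_lit 5559212, nat_lit 5565965, nat_lit 5569170, nat_lit 5576602, nat_lit 5581371, nat_lit 5586596, nat_lit 5588454, nat_lit 5591417, nat_lit 5598424, nat_lit 5601351, nat_lit 5607107, nat_lit 5610076, nat_lit 5616482, nat_lit 5628190, nat_lit 5633409, nat_lit 5637807, nat_lit 5648273, nat_lit 5651214, nat_lit 5657811, nat_lit 5663090, nat_lit 5671785, nat_lit 5677655, nat_lit 5682888, nat_lit 5688714, nat_lit 5691669, nat_lit 5694644, nat_lit 5697579, nat_lit 5704124, nat_lit 5709091, nat_lit 5714973, nat_lit 5725120, nat_lit 5727841, nat_lit 5735546, nat_lit 5738725, nat_lit 5745988, nat_lit 5751449, nat_lit 5756422, nat_lit 5774014, nat_lit 5777183, nat_lit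 5790813, nat_lit 5792252, nat_lit 5797219, nat_lit 5800935, nat_lit 5805944, nat_lit 5810905, nat_lit 5815878, nat_lit 5820827, nat_lit 5827642, nat_lit 5830821, nat_lit 5838253, nat_lit 5848211, nat_lit 5851089, nat_lit 5854030, nat_lit 5864048, nat_lit 5868788, nat_lit 5871723, nat_lit 5875146, nat_lit 5878101, nat_lit 5884439, nat_lit 5889672, nat_lit 5890857, nat_lit 5909926, nat_lit 5912889, nat_lit 5915259, nat_lit 5920484, nat_lit 5925701, nat_lit 5933406, nat_lit 5938625, nat_lit 5954338, nat_lit 5957251, nat_lit 5960220, nat_lit 5966731, nat_lit 5971732, nat_lit 5972661, nat_lit 5977642, nat_lit 5983592, nat_lit 5989462, nat_lit 5992649, nat_lit 5998157, nat_lit 6001362, nat_lit 6013102, nat_lit 6018097, nat_lit 6023568, nat_lit 6033356, nat_lit 6036307, nat_lit 6039282, nat_lit 6042221, nat_lit 6048047, nat_lit 6053296, nat_lit 6059150, nat_lit 6067861, nat_lit 6073140, nat_lit 6079721, nat_lit 6082678, nat_lit 6093128, nat_lit 6095071, nat_lit 6105569, nat_lit 6112828, nat_lit 6116003, nat_lit 6123266, nat_lit 6130969, nat_lit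 6134150, nat_lit 6136871, nat_lit 6140088, nat_lit 6152900, nat_lit 6161781, nat_lit 6164970, nat_lit 6171723, nat_lit 6174932, nat_lit 6177686, nat_lit 6182665, nat_lit 6187688, nat_lit 6195379, nat_lit 6200364, nat_lit 6201741, nat_lit 6206738, nat_lit 6213200, nat_lit 6228582, nat_lit 6234968, nat_lit 6245509, nat_lit 6248474, nat_lit 6254884, nat_lit 6260640, nat_lit 6273537, nat_lit 6275395, nat_lit 6313819, nat_lit 6318842, nat_lit 6323813, nat_lit 6331518, nat_lit 6332895, nat_lit 6347421, nat_lit 6350652, nat_lit 6353827, nat_lit 6364843, nat_lit 6371221, nat_lit 6376663, nat_lit 6383081, nat_lit 6386038, nat_lit 6391794, nat_lit 6394733, nat_lit 6401740, nat_lit 6404691, nat_lit 6411662, nat_lit 6416431, nat_lit 6421680, nat_lit 6426526, nat_lit 6435391, nat_lit 6441341, nat_lit 6446562, nat_lit 6452444, nat_lit 6461127, nat_lit 6466406, nat_lit 6472891, nat_lit 6483333, nat_lit 6486298, nat_lit 6498739, nat_lit 6503724, nat_lit 6506094, nat_lit 6509297, nat_lit 6516560, nat_lit 6524235, nat_lit 6527444, nat_lit 6530165, nat_lit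 6533354, nat_lit 6540200, nat_lit 6546070, nat_lit 6551049, nat_lit 6565364, nat_lit 6568299, nat_lit 6575798, nat_lit 6581015, nat_lit 6586248, nat_lit 6593939, nat_lit 6599853, nat_lit 6609776, nat_lit 6612689, nat_lit 6615630, nat_lit 6622169, nat_lit 6627142, nat_lit 6628071, nat_lit 6633080, nat_lit 6638906, nat_lit 6642085, nat_lit 6647963, nat_lit 6653471, nat_lit 6663969, nat_lit 6668540, nat_lit 6673507, nat_lit 6678978, nat_lit 6688371, nat_lit 6691564, nat_lit 6694733, nat_lit 6697938, nat_lit 6708239, nat_lit 6709678, nat_lit 6714673, nat_lit 6718389, nat_lit 6723370, nat_lit 6728331, nat_lit 6733332, nat_lit 6735190, nat_lit 6738377, nat_lit 6745192, nat_lit 6760542, nat_lit 6765761, nat_lit 6768515, nat_lit 6771484, nat_lit 6781474, nat_lit 6786214, nat_lit 6789177, nat_lit 6792600, nat_lit 6795527, nat_lit 6801989, nat_lit 6817533, nat_lit 6827971, nat_lit 6830940, nat_lit 6851387, nat_lit 6856612, nat_lit 6862490, nat_lit 6868440, nat_lit 6871367, nat_lit 6874342, nat_lit 6877305, nat_lit 6883822, nat_lit 6888817, nat_lit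 6894671, nat_lit 6901517, nat_lit 6904722, nat_lit 6907443, nat_lit 6910636, nat_lit 6918327, nat_lit 6925590, nat_lit 6928777, nat_lit 6931147, nat_lit 6936148, nat_lit 6953179, nat_lit 6956410, nat_lit 6959589, nat_lit 6965927, nat_lit 6970936, nat_lit 6972313, nat_lit 6977286, nat_lit 6984989, nat_lit 6990012, nat_lit 6994979, nat_lit 6997857, nat_lit 7011008, nat_lit 7013207, nat_lit 7018440, nat_lit 7023209, nat_lit 7030196, nat_lit 7033131, nat_lit 7040138, nat_lit 7043093, nat_lit 7048849, nat_lit 7051790, nat_lit 7058224, nat_lit 7063666, nat_lit 7070028, nat_lit 7082895, nat_lit 7089710, nat_lit 7092913, nat_lit 7094771, nat_lit 7099756, nat_lit 7104717, nat_lit 7109714, nat_lit 7113430, nat_lit 7118409, nat_lit 7119848, nat_lit 7130165, nat_lit 7133354, nat_lit 7136523, nat_lit 7139732, nat_lit 7150748, nat_lit 7151933, nat_lit 7157154, nat_lit 7163616, nat_lit 7172929, nat_lit 7177669, nat_lit 7180634, nat_lit 7190628, nat_lit 7193382, nat_lit 7203352, nat_lit 7212457, nat_lit 7215414, nat_lit 7218327, nat_lit 7228234, nat_lit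 7234164, nat_lit 7241839, nat_lit 7247088, nat_lit 7252305, nat_lit 7259788, nat_lit 7262739, nat_lit 7275194, nat_lit 7280165, nat_lit 7285636, nat_lit 7291993, nat_lit 7295174, nat_lit 7317058, nat_lit 7331072, nat_lit 7332001, nat_lit 7351213, nat_lit 7356210, nat_lit 7360751, nat_lit 7368014, nat_lit 7371217, nat_lit 7376725, nat_lit 7379914, nat_lit 7382635, nat_lit 7385844, nat_lit 7391670, nat_lit 7396649, nat_lit 7402519, nat_lit 7411999, nat_lit 7414974, nat_lit 7424867, nat_lit 7430749, nat_lit 7435970, nat_lit 7443673, nat_lit 7448952, nat_lit 7456421, nat_lit 7459386, nat_lit 7469828, nat_lit 7478453, nat_lit 7484811, nat_lit 7491273, nat_lit 7494230, nat_lit 7500648, nat_lit 7505388, nat_lit 7508339, nat_lit 7515346, nat_lit 7518285, nat_lit 7521039, nat_lit 7526288, nat_lit 7531057, nat_lit 7538489, nat_lit 7541670, nat_lit 7548423, nat_lit 7551640, nat_lit 7553498, nat_lit 7558469, nat_lit 7563492, nat_lit 7577184, nat_lit 7578561, nat_lit 7588892, nat_lit 7592067, nat_lit 7595298, nat_lit 7603070, nat_lit 7608289, nat_lit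 7619997, nat_lit 7629987, nat_lit 7632956, nat_lit 7638712, nat_lit 7641639, nat_lit 7645062, nat_lit 7648025, nat_lit 7653467, nat_lit 7658692, nat_lit 7659877, nat_lit 7670893, nat_lit 7674098, nat_lit 7677267, nat_lit 7680460, nat_lit 7686798, nat_lit 7691793, nat_lit 7693232, nat_lit 7700907, nat_lit 7705908, nat_lit 7710869, nat_lit 7715850, nat_lit 7718728, nat_lit 7735751, nat_lit 7740760, nat_lit 7741689, nat_lit 7746662, nat_lit 7753508, nat_lit 7759386, nat_lit 7762565, nat_lit 7770270, nat_lit 7780768, nat_lit 7783138, nat_lit 7800532, nat_lit 7803467, nat_lit 7815223, nat_lit 7820456, nat_lit 7825673, nat_lit 7834386, nat_lit 7840300, nat_lit 7860304, nat_lit 7869910, nat_lit 7874679, nat_lit 7879912, nat_lit 7882666, nat_lit 7885621, nat_lit 7892628, nat_lit 7895563, nat_lit 7900303, nat_lit 7906737, nat_lit 7909678, nat_lit 7916140, nat_lit 7922514, nat_lit 7933530, nat_lit 7936709, nat_lit 7939940, nat_lit 7948473, nat_lit 7953446, nat_lit 7954823, nat_lit 7959832, nat_lit 7963548, nat_lit 7968515, nat_lit 7973538, nat_lit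 7983584, nat_lit 7990337, nat_lit 7998448, nat_lit 8004302, nat_lit 8009297, nat_lit 8015123, nat_lit 8018316, nat_lit 8021037, nat_lit 8024242, nat_lit 8029750, nat_lit 8032937, nat_lit 8040200, nat_lit 8044757, nat_lit 8049738, nat_lit 8062179, nat_lit 8065148, nat_lit 8075586, nat_lit 8096037, nat_lit 8101915, nat_lit 8107140, nat_lit 8131643, nat_lit 8137114, nat_lit 8142085, nat_lit 8144455, nat_lit 8147672, nat_lit 8162658, nat_lit 8168540, nat_lit 8171715, nat_lit 8178561, nat_lit 8189472, nat_lit 8198952, nat_lit 8201865, nat_lit 8204822, nat_lit 8210772, nat_lit 8216682, nat_lit 8225393, nat_lit 8242322, nat_lit 8245261, nat_lit 8260125, nat_lit 8265346, nat_lit 8266531, nat_lit 8280161, nat_lit 8283584, nat_lit 8295236, nat_lit 8307000, nat_lit 8316934, nat_lit 8324366, nat_lit 8327569, nat_lit 8334384, nat_lit 8358088, nat_lit 8419127, nat_lit 8442831, nat_lit 8449646, nat_lit 8452849, nat_lit 8460281, nat_lit 8470215, nat_lit 8481979, nat_lit 8493631, nat_lit 8497054, nat_lit 8510684, nat_lit 8511869, nat_lit 8517090, nat_lit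 8531954, nat_lit 8534893, nat_lit 8551822, nat_lit 8560533, nat_lit 8566443, nat_lit 8572393, nat_lit 8575350, nat_lit 8578263, nat_lit 8587743, nat_lit 8598654, nat_lit 8605500, nat_lit 8608675, nat_lit 8614557, nat_lit 8629543, nat_lit 8632760, nat_lit 8635130, nat_lit 8640101, nat_lit 8645572, nat_lit 8670075, nat_lit 8675300, nat_lit 8681178, nat_lit 8701629, nat_lit 8712067, nat_lit 8715036, nat_lit 8727477, nat_lit 8732458, nat_lit 8737015, nat_lit 8744278, nat_lit 8747465, nat_lit 8752973, nat_lit 8756178, nat_lit 8758899, nat_lit 8762092, nat_lit 8767918, nat_lit 8772913, nat_lit 8778767, nat_lit 8786878, nat_lit 8793631, nat_lit 8803677, nat_lit 8808700, nat_lit 8813667, nat_lit 8817383, nat_lit 8822392, nat_lit 8823769, nat_lit 8828742, nat_lit 8837275, nat_lit 8840506, nat_lit 8843685, nat_lit 8854701, nat_lit 8861075, nat_lit 8867537, nat_lit 8870478, nat_lit 8876912, nat_lit 8881652, nat_lit 8884587, nat_lit 8891594, nat_lit 8894549, nat_lit 8897303, nat_lit 8902536, nat_lit 8907305, nat_lit 8916911, nat_lit 8936915, nat_lit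 8942829, nat_lit 8951542, nat_lit 8956759, nat_lit 8961992, nat_lit 8973748, nat_lit 8976683, nat_lit 8994077, nat_lit 8996447, nat_lit 9006945, nat_lit 9014650, nat_lit 9017829, nat_lit 9023707, nat_lit 9030553, nat_lit 9035526, nat_lit 9036455, nat_lit 9041464, nat_lit 9058487, nat_lit 9061365, nat_lit 9066346, nat_lit 9071307, nat_lit 9076308, nat_lit 9083983, nat_lit 9085422, nat_lit 9090417, nat_lit 9096755, nat_lit 9099948, nat_lit 9103117, nat_lit 9106322, nat_lit 9117338, nat_lit 9118523, nat_lit 9123748, nat_lit 9129190, nat_lit 9132153, nat_lit 9135576, nat_lit 9138503, nat_lit 9144259, nat_lit 9147228, nat_lit 9157218, nat_lit 9168926, nat_lit 9174145, nat_lit 9181917, nat_lit 9185148, nat_lit 9188323, nat_lit 9198654, nat_lit 9200031, nat_lit 9213723, nat_lit 9218746, nat_lit 9223717, nat_lit 9225575, nat_lit 9228792, nat_lit 9235545, nat_lit 9238726, nat_lit 9246158, nat_lit 9250927, nat_lit 9256176, nat_lit 9258930, nat_lit 9261869, nat_lit 9268876, nat_lit 9271827, nat_lit 9276567, nat_lit 9282985, nat_lit 9285942, nat_lit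 9292404, nat_lit 9298762, nat_lit 9307387, nat_lit 9317829, nat_lit 9320794, nat_lit 9328263, nat_lit 9333542, nat_lit 9341245, nat_lit 9346466, nat_lit 9352348, nat_lit 9362241, nat_lit 9365216, nat_lit 9374696, nat_lit 9380566, nat_lit 9385545, nat_lit 9391371, nat_lit 9394580, nat_lit 9397301, nat_lit 9400490, nat_lit 9405998, nat_lit 9409201, nat_lit 9416464, nat_lit 9421005, nat_lit 9426002, nat_lit 9445214, nat_lit 9446143, nat_lit 9460157, nat_lit 9482041, nat_lit 9485222, nat_lit 9491579, nat_lit 9497050, nat_lit 9502021, nat_lit 9514476, nat_lit 9517427, nat_lit 9524910, nat_lit 9530127, nat_lit 9535376, nat_lit 9543051, nat_lit 9548981, nat_lit 9558888, nat_lit 9561801, nat_lit 9564758, nat_lit 9573863, nat_lit 9583833, nat_lit 9586587, nat_lit 9596581, nat_lit 9599546, nat_lit 9604286, nat_lit 9613599, nat_lit 9620061, nat_lit 9625282, nat_lit 9626467, nat_lit 9637483, nat_lit 9640692, nat_lit 9643861, nat_lit 9647050, nat_lit 9657367, nat_lit 9658806, nat_lit 9663785, nat_lit 9667501, nat_lit 9672498, nat_lit 9677459, nat_lit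 9682444, nat_lit 9684302, nat_lit 9687505, nat_lit 9694320, nat_lit 9707187, nat_lit 9713549, nat_lit 9718991, nat_lit 9725425, nat_lit 9728366, nat_lit 9734122, nat_lit 9737077, nat_lit 9744084, nat_lit 9747019, nat_lit 9754006, nat_lit 9758775, nat_lit 9764008, nat_lit 9766207, nat_lit 9779358, nat_lit 9782236, nat_lit 9787203, nat_lit 9792226, nat_lit 9799929, nat_lit 9804902, nat_lit 9806279, nat_lit 9811288, nat_lit 9817626, nat_lit 9820805, nat_lit 9824036, nat_lit 9841067, nat_lit 9846068, nat_lit 9848438, nat_lit 9851625, nat_lit 9858888, nat_lit 9866579, nat_lit 9869772, nat_lit 9872493, nat_lit 9875698, nat_lit 9882544, nat_lit 9888398, nat_lit 9893393, nat_lit 9899910, nat_lit 9902873, nat_lit 9905848, nat_lit 9908775, nat_lit 9914725, nat_lit 9920603, nat_lit 9925828, nat_lit 9946275, nat_lit 9949244, nat_lit 9959682, nat_lit 9975226, nat_lit 9981688, nat_lit 9984615, nat_lit 9988038, nat_lit 9991001, nat_lit 9995741, nat_lit 10005731, nat_lit 10008700, nat_lit 10011454, nat_lit 10016673, nat_lit 10032023, nat_lit 10038838,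 nat_lit 10042025, nat_lit 10043883, nat_lit 10048884, nat_lit 10053845, nat_lit 10058826, nat_lit 10062542, nat_lit 10067537, nat_lit 10068976, nat_lit 10079277, nat_lit 10082482, nat_lit 10085651, nat_lit 10088844, nat_lit 10098237, nat_lit 10103708, nat_lit 10108675, nat_lit 10113246, nat_lit 10123744, nat_lit 10129252, nat_lit 10135130, nat_lit 10138309, nat_lit 10144135, nat_lit 10149144, nat_lit 10150073, nat_lit 10155046, nat_lit 10161585, nat_lit 10164526, nat_lit 10167439, nat_lit 10177362, nat_lit 10183276, nat_lit 10190967, nat_lit 10196200, nat_lit 10201417, nat_lit 10208916, nat_lit 10211851, nat_lit 10226166, nat_lit 10231145, nat_lit 10237015, nat_lit 10243861, nat_lit 10247050, nat_lit 10249771, nat_lit 10252980, nat_lit 10260655, nat_lit 10267918, nat_lit 10271121, nat_lit 10273491, nat_lit 10278476, nat_lit 10290917, nat_lit 10293882, nat_lit 10304324, nat_lit 10310809, nat_lit 10316088, nat_lit 10324771, nat_lit 10330653, nat_lit 10335874, nat_lit 10341824, nat_lit 10350689, nat_lit 10355535, nat_lit 10360784, nat_lit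 10365553, nat_lit 10372524, nat_lit 10375475, nat_lit 10382482, nat_lit 10385421, nat_lit 10391177, nat_lit 10394134, nat_lit 10400552, nat_lit 10405994, nat_lit 10412372, nat_lit 10423388, nat_lit 10426563, nat_lit 10429794, nat_lit 10444320, nat_lit 10445697, nat_lit 10453402, nat_lit 10458373, nat_lit 10463396, nat_lit 10501820, nat_lit 10503678, nat_lit 10516575, nat_lit 10522331, nat_lit 10528741, nat_lit 10531706, nat_lit 10542247, nat_lit 10548633, nat_lit 10564015, nat_lit 10570477, nat_lit 10575474, nat_lit 10576851, nat_lit 10581836, nat_lit 10589527, nat_lit 10594550, nat_lit 10599529, nat_lit 10602283, nat_lit 10605492, nat_lit 10612245, nat_lit 10615434, nat_lit 10624315, nat_lit 10637127, nat_lit 10640344, nat_lit 10643065, nat_lit 10646246, nat_lit 10653949, nat_lit 10661212, nat_lit 10664387, nat_lit 10671646, nat_lit 10682144, nat_lit 10684087, nat_lit 10694537, nat_lit 10697494, nat_lit 10704075, nat_lit 10709354, nat_lit 10718065, nat_lit 10723919, nat_lit 10729168, nat_lit 10734994, nat_lit 10737933, nat_lit 10740908,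 nat_lit 10743859, nat_lit 10753647, nat_lit 10759118, nat_lit 10764113, nat_lit 10775853, nat_lit 10779058, nat_lit 10784566, nat_lit 10787753, nat_lit 10793623, nat_lit 10799573, nat_lit 10804554, nat_lit 10805483, nat_lit 10810484, nat_lit 10816995, nat_lit 10819964, nat_lit 10822877, nat_lit 10838590, nat_lit 10843809, nat_lit 10851514, nat_lit 10856731, nat_lit 10861956, nat_lit 10864326, nat_lit 10867289, nat_lit 10886358, nat_lit 10887543, nat_lit 10892776, nat_lit 10899114, nat_lit 10902069, nat_lit 10905492, nat_lit 10908427, nat_lit 10913167, nat_lit 10923185, nat_lit 10926126, nat_lit 10929004, nat_lit 10938962, nat_lit 10946394, nat_lit 10949573, nat_lit 10956388, nat_lit 10961337, nat_lit 10966310, nat_lit 10971271, nat_lit 10976280, nat_lit 10979996, nat_lit 10984963, nat_lit 10986402, nat_lit 11000032, nat_lit 11003201, nat_lit 11020793, nat_lit 11025766, nat_lit 11031227, nat_lit 11038490, nat_lit 11041669, nat_lit 11049374, nat_lit 11052095, nat_lit 11062242, nat_lit 11068124, nat_lit 11073091, nat_lit 11079636, nat_lit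 11082571, nat_lit 11085546, nat_lit 11088501, nat_lit 11094327, nat_lit 11099560, nat_lit 11105430, nat_lit 11114125, nat_lit 11119404, nat_lit 11126001, nat_lit 11128942, nat_lit 11139408, nat_lit 11143806, nat_lit 11149025, nat_lit 11160733, nat_lit 11167139, nat_lit 11170108, nat_lit 11175864, nat_lit 11178791, nat_lit 11185798, nat_lit 11188761, nat_lit 11190619, nat_lit 11195844, nat_lit 11200613, nat_lit 11208045, nat_lit 11211250, nat_lit 11218003, nat_lit 11221196, nat_lit 11223950, nat_lit 11228945, nat_lit 11233968, nat_lit 11241643, nat_lit 11246644, nat_lit 11248021, nat_lit 11253002, nat_lit 11259464, nat_lit 11277749, nat_lit 11287691, nat_lit 11290569, nat_lit 11293526, nat_lit 11303528, nat_lit 11308268, nat_lit 11311219, nat_lit 11314642, nat_lit 11317581, nat_lit 11323919, nat_lit 11329168, nat_lit 11330353, nat_lit 11341369, nat_lit 11344550, nat_lit 11347719, nat_lit 11350936, nat_lit 11356378, nat_lit 11361349, nat_lit 11362788, nat_lit 11376480, nat_lit 11381441, nat_lit 11388188, nat_lit 11391363, nat_lit 11398178,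 nat_lit 11406227, nat_lit 11411212, nat_lit 11412141, nat_lit 11417138, nat_lit 11423088, nat_lit 11428942, nat_lit 11432145, nat_lit 11437653, nat_lit 11440842, nat_lit 11452598, nat_lit 11457577, nat_lit 11463048, nat_lit 11472927, nat_lit 11483425, nat_lit 11485795, nat_lit 11503942, nat_lit 11509880, nat_lit 11530756, nat_lit 11546007, nat_lit 11556565, nat_lit 11561844, nat_lit 11569519, nat_lit 11574768, nat_lit 11580622, nat_lit 11587468, nat_lit 11590419, nat_lit 11593394, nat_lit 11596333, nat_lit 11602874, nat_lit 11607845, nat_lit 11613723, nat_lit 11619673, nat_lit 11622854, nat_lit 11625575, nat_lit 11628792, nat_lit 11634300, nat_lit 11637475, nat_lit 11644738, nat_lit 11649183, nat_lit 11659681, nat_lit 11672207, nat_lit 11675438, nat_lit 11678641, nat_lit 11684083, nat_lit 11689068, nat_lit 11690445, nat_lit 11695442, nat_lit 11699158, nat_lit 11704137, nat_lit 11709160, nat_lit 11715893, nat_lit 11719082, nat_lit 11725835, nat_lit 11729044, nat_lit 11736476, nat_lit 11741245, nat_lit 11746466, nat_lit 11749344, nat_lit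 11762241, nat_lit 11766981, nat_lit 11769946, nat_lit 11776356, nat_lit 11782694, nat_lit 11789080, nat_lit 11801051, nat_lit 11807866, nat_lit 11811045, nat_lit 11813799, nat_lit 11818808, nat_lit 11823769, nat_lit 11828742, nat_lit 11836445, nat_lit 11837884, nat_lit 11842851, nat_lit 11849313, nat_lit 11858880, nat_lit 11864663, nat_lit 11869896, nat_lit 11871081, nat_lit 11881652, nat_lit 11884587, nat_lit 11888010, nat_lit 11890965, nat_lit 11896721, nat_lit 11899662, nat_lit 11909680, nat_lit 11911538, nat_lit 11921484, nat_lit 11934562, nat_lit 11937475, nat_lit 11940444, nat_lit 11946270, nat_lit 11951489, nat_lit 11960891, nat_lit 11966116, nat_lit 11971333, nat_lit 11977944, nat_lit 11980871, nat_lit 11993326, nat_lit 11998321, nat_lit 12003792, nat_lit 12011021, nat_lit 12014226, nat_lit 12029224, nat_lit 12035094, nat_lit 12038281, nat_lit 12060531, nat_lit 12063724, nat_lit 12070477, nat_lit 12073682, nat_lit 12080399, nat_lit 12085422, nat_lit 12090417, nat_lit 12094133, nat_lit 12099114, nat_lit 12100491, nat_lit 12105492,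 nat_lit 12110934, nat_lit 12114121, nat_lit 12117352, nat_lit 12132702, nat_lit 12137921, nat_lit 12144259, nat_lit 12147228, nat_lit 12153634, nat_lit 12158374, nat_lit 12161337, nat_lit 12168344, nat_lit 12171271, nat_lit 12174149, nat_lit 12193226, nat_lit 12196181, nat_lit 12199156, nat_lit 12202091, nat_lit 12208937, nat_lit 12214807, nat_lit 12220040, nat_lit 12227731, nat_lit 12233010, nat_lit 12243568, nat_lit 12255961, nat_lit 12260934, nat_lit 12272698, nat_lit 12275877, nat_lit 12283140, nat_lit 12295040, nat_lit 12297761, nat_lit 12312770, nat_lit 12322462, nat_lit 12332960, nat_lit 12337277, nat_lit 12342498, nat_lit 12347715, nat_lit 12356440, nat_lit 12362342, nat_lit 12376356, nat_lit 12379269, nat_lit 12382234, nat_lit 12388749, nat_lit 12393746, nat_lit 12394675, nat_lit 12399660, nat_lit 12412496, nat_lit 12420171, nat_lit 12423380, nat_lit 12436136, nat_lit 12454951, nat_lit 12458168, nat_lit 12461337, nat_lit 12464518, nat_lit 12470980, nat_lit 12485089, nat_lit 12500032, nat_lit 12502786, nat_lit 12518196, nat_lit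 12528138, nat_lit 12538184, nat_lit 12568593, nat_lit 12598171, nat_lit 12610023, nat_lit 12615032, nat_lit 12618748, nat_lit 12623715, nat_lit 12629597, nat_lit 12635423, nat_lit 12644542, nat_lit 12656054, nat_lit 12668874, nat_lit 12671829, nat_lit 12674804, nat_lit 12677739, nat_lit 12682479, nat_lit 12692945, nat_lit 12695886, nat_lit 12703379, nat_lit 12708658, nat_lit 12723645, nat_lit 12739422, nat_lit 12744641, nat_lit 12752346, nat_lit 12757115, nat_lit 12762340, nat_lit 12765094, nat_lit 12768057, nat_lit 12775064, nat_lit 12777991, nat_lit 12785423, nat_lit 12790446, nat_lit 12795441, nat_lit 12797299, nat_lit 12800492, nat_lit 12807245, nat_lit 12810450, nat_lit 12815958, nat_lit 12819145, nat_lit 12822376, nat_lit 12830901, nat_lit 12835882, nat_lit 12837259, nat_lit 12842260, nat_lit 12847063, nat_lit 12857065, nat_lit 12860022, nat_lit 12866987, nat_lit 12876949, nat_lit 12885646, nat_lit 12886831, nat_lit 12892080, nat_lit 12897522, nat_lit 12900461, nat_lit 12903884, nat_lit 12906835, nat_lit 12917851, nat_lit 12919290,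 nat_lit 12924261, nat_lit 12930599, nat_lit 12933816, nat_lit 12936985, nat_lit 12940166, nat_lit 12947869, nat_lit 12954684, nat_lit 12957859, nat_lit 12960737, nat_lit 12975680, nat_lit 12979566, nat_lit 12982769, nat_lit 12988623, nat_lit 12995469, nat_lit 13000466, nat_lit 13001395, nat_lit 13006380, nat_lit 13014071, nat_lit 13019542, nat_lit 13024521, nat_lit 13026891, nat_lit 13030100, nat_lit 13042301, nat_lit 13047522, nat_lit 13052739, nat_lit 13059230, nat_lit 13069728, nat_lit 13081380, nat_lit 13084293, nat_lit 13087258, nat_lit 13093208, nat_lit 13099110, nat_lit 13111679, nat_lit 13118686, nat_lit 13129628, nat_lit 13134397, nat_lit 13139618, nat_lit 13147321, nat_lit 13153671, nat_lit 13160133, nat_lit 13163098, nat_lit 13169508, nat_lit 13175539, nat_lit 13180524, nat_lit 13181901, nat_lit 13186898, nat_lit 13195407, nat_lit 13198638, nat_lit 13201841, nat_lit 13207349, nat_lit 13210538, nat_lit 13217291, nat_lit 13220500, nat_lit 13222358, nat_lit 13227337, nat_lit 13232360, nat_lit 13242201, nat_lit 13245382, nat_lit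 13248103, nat_lit 13251320, nat_lit 13257146, nat_lit 13262117, nat_lit 13267995, nat_lit 13271711, nat_lit 13282209, nat_lit 13288572, nat_lit 13291747, nat_lit 13299010, nat_lit 13309141, nat_lit 13314420, nat_lit 13321897, nat_lit 13324854, nat_lit 13335304, nat_lit 13340044, nat_lit 13342995, nat_lit 13345970, nat_lit 13348909, nat_lit 13361745, nat_lit 13380915, nat_lit 13384108, nat_lit 13386478, nat_lit 13391473, nat_lit 13396944, nat_lit 13404619, nat_lit 13409620, nat_lit 13410549, nat_lit 13415530, nat_lit 13422376, nat_lit 13428246, nat_lit 13431433, nat_lit 13437726, nat_lit 13442945, nat_lit 13457762, nat_lit 13460675, nat_lit 13463644, nat_lit 13469400, nat_lit 13472327, nat_lit 13484091, nat_lit 13489316, nat_lit 13494533, nat_lit 13504180, nat_lit 13507115, nat_lit 13510538, nat_lit 13513493, nat_lit 13518935, nat_lit 13524168, nat_lit 13525353, nat_lit 13534066, nat_lit 13544012, nat_lit 13550993, nat_lit 13553934, nat_lit 13563952, nat_lit 13566375, nat_lit 13571384, nat_lit 13576345, nat_lit 13581318, nat_lit 13584196,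 nat_lit 13601889, nat_lit 13611456, nat_lit 13617794, nat_lit 13646895, nat_lit 13649773, nat_lit 13652978, nat_lit 13659731, nat_lit 13662924, nat_lit 13670615, nat_lit 13673846, nat_lit 13677033, nat_lit 13683371, nat_lit 13688372, nat_lit 13689749, nat_lit 13694730, nat_lit 13700765, nat_lit 13707171, nat_lit 13710140, nat_lit 13715582, nat_lit 13720801, nat_lit 13730651, nat_lit 13735876, nat_lit 13740645, nat_lit 13747640, nat_lit 13750567, nat_lit 13757574, nat_lit 13760537, nat_lit 13765431, nat_lit 13770664, nat_lit 13776534, nat_lit 13782484, nat_lit 13785419, nat_lit 13788394, nat_lit 13791349, nat_lit 13797105, nat_lit 13800046, nat_lit 13810512, nat_lit 13816973, nat_lit 13822252, nat_lit 13832379, nat_lit 13839642, nat_lit 13842821, nat_lit 13845191, nat_lit 13850200, nat_lit 13863394, nat_lit 13869276, nat_lit 13874243, nat_lit 13881089, nat_lit 13890208, nat_lit 13899004, nat_lit 13904221, nat_lit 13909442, nat_lit 13914655, nat_lit 13925153, nat_lit 13929893, nat_lit 13932858, nat_lit 13935771, nat_lit 13945670, nat_lit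 13951608, nat_lit 13963120, nat_lit 13968974, nat_lit 13972177, nat_lit 13978003, nat_lit 13982988, nat_lit 13983917, nat_lit 13988914, nat_lit 13992630, nat_lit 13997609, nat_lit 14003080, nat_lit 14009429, nat_lit 14012618, nat_lit 14027482, nat_lit 14032453, nat_lit 14033892, nat_lit 14044217, nat_lit 14047398, nat_lit 14050567, nat_lit 14053784, nat_lit 14059292, nat_lit 14062467, nat_lit 14069282, nat_lit 14079328, nat_lit 14084289, nat_lit 14091721, nat_lit 14094678, nat_lit 14104680, nat_lit 14107434, nat_lit 14117396, nat_lit 14125071, nat_lit 14130320, nat_lit 14131505, nat_lit 14161611, nat_lit 14166890, nat_lit 14173367, nat_lit 14183817, nat_lit 14186774, nat_lit 14192530, nat_lit 14195469, nat_lit 14198444, nat_lit 14201395, nat_lit 14207345, nat_lit 14213199, nat_lit 14218448, nat_lit 14224711, nat_lit 14227928, nat_lit 14230649, nat_lit 14233830, nat_lit 14240676, nat_lit 14246554, nat_lit 14251525, nat_lit 14259230, nat_lit 14269728, nat_lit 14272098, nat_lit 14289133, nat_lit 14294130, nat_lit 14295507, nat_lit 14300492,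 nat_lit 14306830, nat_lit 14310033, nat_lit 14313264, nat_lit 14320939, nat_lit 14324148, nat_lit 14330901, nat_lit 14334090, nat_lit 14336968, nat_lit 14357345, nat_lit 14364352, nat_lit 14369053, nat_lit 14374274, nat_lit 14379043, nat_lit 14387768, nat_lit 14394118, nat_lit 14407748, nat_lit 14418873, nat_lit 14423846, nat_lit 14428807, nat_lit 14433816, nat_lit 14435674, nat_lit 14438853, nat_lit 14445668, nat_lit 14457568, nat_lit 14460737, nat_lit 14469276, nat_lit 14474243, nat_lit 14475682, nat_lit 14486698, nat_lit 14489653, nat_lit 14493076, nat_lit 14496011, nat_lit 14502473, nat_lit 14516588, nat_lit 14526546, nat_lit 14537488, nat_lit 14557246, nat_lit 14562465, nat_lit 14578242, nat_lit 14582982, nat_lit 14585945, nat_lit 14598693, nat_lit 14616083, nat_lit 14619276, nat_lit 14631152, nat_lit 14672904, nat_lit 14687693, nat_lit 14693619, nat_lit 14700465, nat_lit 14703406, nat_lit 14706319, nat_lit 14724522, nat_lit 14727477, nat_lit 14729847, nat_lit 14735080, nat_lit 14740297, nat_lit 14750430, nat_lit 14760928, nat_lit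 14767165, nat_lit 14772636, nat_lit 14777603, nat_lit 14781319, nat_lit 14786328, nat_lit 14787257, nat_lit 14792230, nat_lit 14798180, nat_lit 14804058, nat_lit 14807237, nat_lit 14812139, nat_lit 14817140, nat_lit 14822101, nat_lit 14827082, nat_lit 14832023, nat_lit 14838838, nat_lit 14842025, nat_lit 14847533, nat_lit 14850738, nat_lit 14853907, nat_lit 14857100, nat_lit 14862542, nat_lit 14867537, nat_lit 14868976, nat_lit 14879992, nat_lit 14882919, nat_lit 14886342, nat_lit 14889305, nat_lit 14895643, nat_lit 14900868, nat_lit 14902053, nat_lit 14909758, nat_lit 14914977, nat_lit 14930754, nat_lit 14944447, nat_lit 14955806, nat_lit 14962268, nat_lit 14965443, nat_lit 14968674, nat_lit 14976377, nat_lit 14979558, nat_lit 14986311, nat_lit 14989528, nat_lit 14992282, nat_lit 14997253, nat_lit 15002276, nat_lit 15009708, nat_lit 15012659, nat_lit 15019666, nat_lit 15022605, nat_lit 15024463, nat_lit 15029712, nat_lit 15034481, nat_lit 15043178, nat_lit 15049556, nat_lit 15060105, nat_lit 15063062, nat_lit 15069480, nat_lit 15079065,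 nat_lit 15084344, nat_lit 15090917, nat_lit 15093882, nat_lit 15104324, nat_lit 15110080, nat_lit 15118945, nat_lit 15124771, nat_lit 15130653, nat_lit 15135874, nat_lit 15142165, nat_lit 15145354, nat_lit 15148075, nat_lit 15151284, nat_lit 15164104, nat_lit 15171795, nat_lit 15176780, nat_lit 15189552, nat_lit 15212055, nat_lit 15213494, nat_lit 15218473, nat_lit 15223915, nat_lit 15227124, nat_lit 15230293, nat_lit 15233482, nat_lit 15238990, nat_lit 15242193, nat_lit 15249008, nat_lit 15253933, nat_lit 15258930, nat_lit 15263891, nat_lit 15268876, nat_lit 15271323, nat_lit 15281317, nat_lit 15284282, nat_lit 15287160, nat_lit 15297094, nat_lit 15304797, nat_lit 15310018, nat_lit 15311203, nat_lit 15325729, nat_lit 15329152, nat_lit 15340718, nat_lit 15345935, nat_lit 15351184, nat_lit 15353554, nat_lit 15356493, nat_lit 15374696, nat_lit 15377609, nat_lit 15380566, nat_lit 15387412, nat_lit 15393322, nat_lit 15404834, nat_lit 15410716, nat_lit 15413891, nat_lit 15419841, nat_lit 15430752, nat_lit 15434468, nat_lit 15451143, nat_lit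 15454360, nat_lit 15469413, nat_lit 15475291, nat_lit 15480516, nat_lit 15486342, nat_lit 15489305, nat_lit 15492280, nat_lit 15495207, nat_lit 15500963, nat_lit 15503932, nat_lit 15514370, nat_lit 15533174, nat_lit 15536361, nat_lit 15543624, nat_lit 15549077, nat_lit 15554058, nat_lit 15567280, nat_lit 15573134, nat_lit 15578129, nat_lit 15598044, nat_lit 15603011, nat_lit 15608034, nat_lit 15618976, nat_lit 15625729, nat_lit 15633434, nat_lit 15636613, nat_lit 15639844, nat_lit 15669840, nat_lit 15681580, nat_lit 15687954, nat_lit 15696649, nat_lit 15732454, nat_lit 15735417, nat_lit 15738840, nat_lit 15741767, nat_lit 15752346, nat_lit 15753531, nat_lit 15758756, nat_lit 15772190, nat_lit 15777409, nat_lit 15779267, nat_lit 15782236, nat_lit 15792226, nat_lit 15794677, nat_lit 15799658, nat_lit 15804619, nat_lit 15809620, nat_lit 15812374, nat_lit 15815561, nat_lit 15822376, nat_lit 15830067, nat_lit 15833260, nat_lit 15836429, nat_lit 15839634, nat_lit 15846096, nat_lit 15860831, nat_lit 15871329, nat_lit 15876796, nat_lit 15881763,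 nat_lit 15887234, nat_lit 15894937, nat_lit 15899910, nat_lit 15900839, nat_lit 15905848, nat_lit 15918660, nat_lit 15928140, nat_lit 15934066, nat_lit 15948080, nat_lit 15950993, nat_lit 15953934, nat_lit 15959690, nat_lit 15962645, nat_lit 15974505, nat_lit 15994635, nat_lit 15997844, nat_lit 16000565, nat_lit 16003754, nat_lit 16009704, nat_lit 16015574, nat_lit 16020553, nat_lit 16024269, nat_lit 16029266, nat_lit 16041006, nat_lit 16044209, nat_lit 16051472, nat_lit 16061575, nat_lit 16066854, nat_lit 16077412, nat_lit 16095553, nat_lit 16098528, nat_lit 16114179, nat_lit 16123314, nat_lit 16126253, nat_lit 16133260, nat_lit 16136211, nat_lit 16139089, nat_lit 16156788, nat_lit 16163146, nat_lit 16177672, nat_lit 16190113, nat_lit 16201472, nat_lit 16206914, nat_lit 16236932, nat_lit 16256316, nat_lit 16259491, nat_lit 16265373, nat_lit 16277312, nat_lit 16278241, nat_lit 16285946, nat_lit 16290917, nat_lit 16296388, nat_lit 16303641, nat_lit 16306822, nat_lit 16319023, nat_lit 16324272, nat_lit 16329489, nat_lit 16336076, nat_lit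 16339027, nat_lit 16364104, nat_lit 16369930, nat_lit 16375860, nat_lit 16385925, nat_lit 16388890, nat_lit 16398884, nat_lit 16400742, nat_lit 16410712, nat_lit 16419395, nat_lit 16436384, nat_lit 16445697, nat_lit 16451734, nat_lit 16456713, nat_lit 16458152, nat_lit 16483664, nat_lit 16518353, nat_lit 16521294, nat_lit 16527728, nat_lit 16534066, nat_lit 16540428, nat_lit 16548119, nat_lit 16553352, nat_lit 16558121, nat_lit 16581570, nat_lit 16598305, nat_lit 16611456, nat_lit 16616964, nat_lit 16647784, nat_lit 16662667, nat_lit 16667668, nat_lit 16687760, nat_lit 16719941, nat_lit 16748578]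

/-- Kernel-friendly version of `octadMasks`. -/
def octadMasksK : List ℕ := codeMasks.filter (fun m => Nat.beq (popcK m) (nat_lit 8))

/-- Kernel-friendly version of `dodecadMasks`. -/
def dodecadMasksK : List ℕ := codeMasks.filter (fun m => Nat.beq (popcK m) (nat_lit 12))

lemma octadMasks_eq_K : octadMasks = octadMasksK := by
  unfold octadMasks octadMasksK
  congr 1; funext m; rw [popcK_eq, natbeq_eq_beq]

lemma dodecadMasks_eq_K : dodecadMasks = dodecadMasksK := by
  unfold dodecadMasks dodecadMasksK
  congr 1; funext m; rw [popcK_eq, natbeq_eq_beq]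

set_option maxRecDepth 1000000 in
theorem octadMasksK_eq : octadMasksK = octLit := by decide +kernel

set_option maxRecDepth 1000000 in
theorem dodecadMasksK_eq : dodecadMasksK = dodLit := by decide +kernel

theorem octadMasks_eq : octadMasks = octLit := octadMasks_eq_K.trans octadMasksK_eq

theorem dodecadMasks_eq : dodecadMasks = dodLit := dodecadMasks_eq_K.trans dodecadMasksK_eq

theorem octLit_length : octLit.length = 759 := by decide +kernel

theorem dodLit_length : dodLit.length = 2576 := by decide +kernel

/-- Linear-time check that a list of naturals is strictly increasing. -/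
def isStrictSorted : List ℕ → Bool
  | [] => true
  | [_] => true
  | a :: b :: l => Nat.blt a b && isStrictSorted (b :: l)

lemma pairwise_of_isStrictSorted : ∀ l : List ℕ, isStrictSorted l = true → l.Pairwise (· < ·)
  | [], _ => List.Pairwise.nil
  | [_], _ => List.pairwise_singleton _ _
  | a :: b :: l, h => by
    simp only [isStrictSorted, Bool.and_eq_true] at h
    have hab : a < b := by
      have := h.1
      simpa [Nat.blt] using this
    have ih := pairwise_of_isStrictSorted (b :: l) h.2
    refine List.pairwise_cons.mpr ⟨?_, ih⟩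
    intro x hx
    rcases List.mem_cons.mp hx with rfl | hx
    · exact hab
    · exact lt_trans hab ((List.pairwise_cons.mp ih).1 x hx)

lemma nodup_of_isStrictSorted {l : List ℕ} (h : isStrictSorted l = true) : l.Nodup :=
  (pairwise_of_isStrictSorted l h).imp (fun h => ne_of_lt h)

theorem octLit_nodup : octLit.Nodup :=
  nodup_of_isStrictSorted (by decide +kernel)

theorem dodLit_nodup : dodLit.Nodup :=
  nodup_of_isStrictSorted (by decide +kernel)

theorem codeMasks_nodup : codeMasks.Nodup :=
  nodup_of_isStrictSorted (by decide +kernel)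

theorem codeMasks_length : codeMasks.length = 4096 := by decide +kernel

lemma lt_of_mem_octLit {m : ℕ} (h : m ∈ octLit) : m < 2 ^ 24 := by
  rw [← octadMasks_eq, octadMasks, List.mem_filter] at h
  exact lt_of_mem_codeMasks h.1

lemma lt_of_mem_dodLit {m : ℕ} (h : m ∈ dodLit) : m < 2 ^ 24 := by
  rw [← dodecadMasks_eq, dodecadMasks, List.mem_filter] at h
  exact lt_of_mem_codeMasks h.1

theorem mem_octads_iff_lit (s : Finset GolayPt) : s ∈ octads ↔ mask s ∈ octLit := by
  rw [mem_octads_iff, octadMasks_eq]

theorem mem_dodecads_iff_lit (s : Finset GolayPt) : s ∈ dodecads ↔ mask s ∈ dodLit := by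
  rw [mem_dodecads_iff, dodecadMasks_eq]

/-- Counting a set of finsets described by a duplicate-free list of masks. -/
lemma ncard_setOf_mask_mem (P : Finset GolayPt → Prop) (l : List ℕ) (hnd : l.Nodup)
    (hlt : ∀ m ∈ l, m < 2 ^ 24) (h : ∀ s, P s ↔ mask s ∈ l) : {s | P s}.ncard = l.length := by
  have hS : {s | P s} = ↑((l.map unmask).toFinset) := by
    ext s
    simp only [Set.mem_ofPred_eq, h, Finset.mem_coe, List.mem_toFinset, List.mem_map]
    constructor
    · intro hs; exact ⟨mask s, hs, unmask_mask s⟩
    · rintro ⟨m, hm, rfl⟩; rwa [mask_unmask (hlt m hm)]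
  rw [hS, Set.ncard_coe_finset, List.toFinset_card_of_nodup, List.length_map]
  refine (List.nodup_map_iff_inj_on hnd).mpr ?_
  intro a ha b hb hab
  rw [← mask_unmask (hlt a ha), ← mask_unmask (hlt b hb), hab]

lemma exists_octadFinset : ∃ F : Finset (Finset GolayPt), ∀ s, s ∈ F ↔ s ∈ octads := by
  refine ⟨(octLit.map unmask).toFinset, fun s => ?_⟩
  rw [mem_octads_iff_lit, List.mem_toFinset, List.mem_map]
  constructor
  · rintro ⟨m, hm, rfl⟩; rwa [mask_unmask (lt_of_mem_octLit hm)]
  · intro hs; exact ⟨mask s, hs, unmask_mask s⟩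

lemma exists_dodecadFinset : ∃ F : Finset (Finset GolayPt), ∀ s, s ∈ F ↔ s ∈ dodecads := by
  refine ⟨(dodLit.map unmask).toFinset, fun s => ?_⟩
  rw [mem_dodecads_iff_lit, List.mem_toFinset, List.mem_map]
  constructor
  · rintro ⟨m, hm, rfl⟩; rwa [mask_unmask (lt_of_mem_dodLit hm)]
  · intro hs; exact ⟨mask s, hs, unmask_mask s⟩

/-- The finset of octads (sealed: it does not unfold to a computation). -/
noncomputable def octadFinset : Finset (Finset GolayPt) := Classical.choose exists_octadFinset

/-- The finset of dodecads (sealed: it does not unfold to a computation). -/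
noncomputable def dodecadFinset : Finset (Finset GolayPt) := Classical.choose exists_dodecadFinset

lemma mem_octadFinset (s : Finset GolayPt) : s ∈ octadFinset ↔ s ∈ octads :=
  Classical.choose_spec exists_octadFinset s

lemma mem_dodecadFinset (s : Finset GolayPt) : s ∈ dodecadFinset ↔ s ∈ dodecads :=
  Classical.choose_spec exists_dodecadFinset s

lemma octadFinset_eq : octadFinset = (octLit.map unmask).toFinset := by
  ext s
  rw [mem_octadFinset, mem_octads_iff_lit, List.mem_toFinset, List.mem_map]
  constructor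
  · intro hs; exact ⟨mask s, hs, unmask_mask s⟩
  · rintro ⟨m, hm, rfl⟩; rwa [mask_unmask (lt_of_mem_octLit hm)]

lemma dodecadFinset_eq : dodecadFinset = (dodLit.map unmask).toFinset := by
  ext s
  rw [mem_dodecadFinset, mem_dodecads_iff_lit, List.mem_toFinset, List.mem_map]
  constructor
  · intro hs; exact ⟨mask s, hs, unmask_mask s⟩
  · rintro ⟨m, hm, rfl⟩; rwa [mask_unmask (lt_of_mem_dodLit hm)]

theorem coe_octadFinset : (octadFinset : Set (Finset GolayPt)) = octads := by
  ext s; exact mem_octadFinset s

theorem coe_dodecadFinset : (dodecadFinset : Set (Finset GolayPt)) = dodecads := by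
  ext s; exact mem_dodecadFinset s

lemma unmask_injOn {l : List ℕ} (hlt : ∀ m ∈ l, m < 2 ^ 24) :
    ∀ a ∈ l, ∀ b ∈ l, unmask a = unmask b → a = b := by
  intro a ha b hb hab
  rw [← mask_unmask (hlt a ha), ← mask_unmask (hlt b hb), hab]

theorem card_octadFinset : octadFinset.card = 759 := by
  rw [octadFinset_eq, List.toFinset_card_of_nodup, List.length_map, octLit_length]
  exact (List.nodup_map_iff_inj_on octLit_nodup).mpr
    (fun a ha b hb => unmask_injOn (fun m => lt_of_mem_octLit) a ha b hb)

theorem card_dodecadFinset : dodecadFinset.card = 2576 := by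
  rw [dodecadFinset_eq, List.toFinset_card_of_nodup, List.length_map, dodLit_length]
  exact (List.nodup_map_iff_inj_on dodLit_nodup).mpr
    (fun a ha b hb => unmask_injOn (fun m => lt_of_mem_dodLit) a ha b hb)

/-- There are exactly 759 octads. -/
theorem octads_ncard : octads.ncard = 759 := by
  rw [← coe_octadFinset, Set.ncard_coe_finset, card_octadFinset]

/-- There are exactly 2576 dodecads. -/
theorem dodecads_ncard : dodecads.ncard = 2576 := by
  rw [← coe_dodecadFinset, Set.ncard_coe_finset, card_dodecadFinset]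

/-- The code has exactly 4096 words (as supports). -/
theorem codeSets_ncard : codeSets.ncard = 4096 := by
  have h := ncard_setOf_mask_mem (fun s => s ∈ codeSets) codeMasks codeMasks_nodup
    (fun m hm => lt_of_mem_codeMasks hm) mem_codeSets_iff_mask
  rw [codeMasks_length] at h
  exact h

/-- The code has exactly 4096 words. -/
theorem golayCode_ncard : (golayCode : Set (GolayPt → ZMod 2)).ncard = 4096 := by
  rw [← codeSets_ncard]
  exact (Set.ncard_image_of_injective _ support₂_injective).symm

/-! ### Weights -/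

/-- Allowed weights. -/
def wtOk (n : ℕ) : Bool :=
  Nat.beq n 0 || Nat.beq n 8 || Nat.beq n 12 || Nat.beq n 16 || Nat.beq n 24

theorem codeMasks_weightsK : codeMasks.all (fun m => wtOk (popcK m)) = true := by decide +kernel

theorem codeMasks_weights : codeMasks.all (fun m => wtOk (popc m)) = true := by
  have h := codeMasks_weightsK
  simp only [popcK_eq] at h
  exact h

/-- The weight of a codeword is 0, 8, 12, 16 or 24. -/
theorem card_of_mem_codeSets {s : Finset GolayPt} (hs : s ∈ codeSets) :
    s.card = 0 ∨ s.card = 8 ∨ s.card = 12 ∨ s.card = 16 ∨ s.card = 24 := by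
  have h := List.all_eq_true.mp codeMasks_weights _ ((mem_codeSets_iff_mask s).mp hs)
  rw [← card_eq_popc_mask] at h
  simp only [wtOk, Bool.or_eq_true] at h
  rcases h with (((h | h) | h) | h) | h
  · exact Or.inl (Nat.eq_of_beq_eq_true h)
  · exact Or.inr (Or.inl (Nat.eq_of_beq_eq_true h))
  · exact Or.inr (Or.inr (Or.inl (Nat.eq_of_beq_eq_true h)))
  · exact Or.inr (Or.inr (Or.inr (Or.inl (Nat.eq_of_beq_eq_true h))))
  · exact Or.inr (Or.inr (Or.inr (Or.inr (Nat.eq_of_beq_eq_true h))))

/-- Minimum distance 8. -/
theorem eight_le_card_of_mem_codeSets {s : Finset GolayPt} (hs : s ∈ codeSets) (hne : s ≠ ∅) :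
    8 ≤ s.card := by
  have h0 : s.card ≠ 0 := fun h => hne (Finset.card_eq_zero.mp h)
  rcases card_of_mem_codeSets hs with h | h | h | h | h <;> omega

lemma card_symmDiff_add (s t : Finset GolayPt) :
    (symmDiff s t).card + 2 * (s ∩ t).card = s.card + t.card := by
  have h1 : symmDiff s t = (s \ t) ∪ (t \ s) := rfl
  have hd : Disjoint (s \ t) (t \ s) := by
    rw [Finset.disjoint_left]
    intro x hx hx'
    exact (Finset.mem_sdiff.mp hx).2 (Finset.mem_sdiff.mp hx').1
  rw [h1, Finset.card_union_of_disjoint hd]
  have h2 := Finset.card_sdiff_add_card_inter s t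
  have h3 := Finset.card_sdiff_add_card_inter t s
  rw [Finset.inter_comm t s] at h3
  omega

/-- Supports of two codewords meet in an even number of points. -/
theorem even_card_inter {s t : Finset GolayPt} (hs : s ∈ codeSets) (ht : t ∈ codeSets) :
    Even (s ∩ t).card := by
  have h := card_symmDiff_add s t
  have h1 := card_of_mem_codeSets hs
  have h2 := card_of_mem_codeSets ht
  have h3 := card_of_mem_codeSets (codeSets_symmDiff hs ht)
  rw [Nat.even_iff]
  omega

lemma octads_subset_codeSets {o : Finset GolayPt} (ho : o ∈ octads) : o ∈ codeSets := ho.1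

lemma card_of_mem_octads {o : Finset GolayPt} (ho : o ∈ octads) : o.card = 8 := ho.2

lemma dodecads_subset_codeSets {d : Finset GolayPt} (hd : d ∈ dodecads) : d ∈ codeSets := hd.1

lemma card_of_mem_dodecads {d : Finset GolayPt} (hd : d ∈ dodecads) : d.card = 12 := hd.2

/-- Two distinct octads meet in at most 4 points. -/
theorem card_inter_le_four {o o' : Finset GolayPt} (ho : o ∈ octads) (ho' : o' ∈ octads)
    (hne : o ≠ o') : (o ∩ o').card ≤ 4 := by
  have h := card_symmDiff_add o o'
  have hne' : symmDiff o o' ≠ ∅ := by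
    intro h0
    apply hne
    have : symmDiff o o' = ⊥ := h0
    exact symmDiff_eq_bot.mp this
  have h8 := eight_le_card_of_mem_codeSets (codeSets_symmDiff ho.1 ho'.1) hne'
  rw [ho.2, ho'.2] at h
  omega

/-- Two octads meet in 0, 2, 4 or 8 points. -/
theorem card_inter_octads {o o' : Finset GolayPt} (ho : o ∈ octads) (ho' : o' ∈ octads) :
    (o ∩ o').card = 0 ∨ (o ∩ o').card = 2 ∨ (o ∩ o').card = 4 ∨ (o ∩ o').card = 8 := by
  have h := card_symmDiff_add o o'
  have h3 := card_of_mem_codeSets (codeSets_symmDiff ho.1 ho'.1)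
  rw [ho.2, ho'.2] at h
  omega

/-! ### The Steiner system S(5, 8, 24) -/

lemma card_golayPt : Fintype.card GolayPt = 24 := by
  simp [GolayPt, ZMod.card]

set_option linter.constructorNameAsVariable false in
/-- Every 5-set lies in some octad. -/
theorem exists_octad_of_card_five (s : Finset GolayPt) (hs : s.card = 5) :
    ∃ b ∈ octads, s ⊆ b := by
  classical
  let T : Finset (Finset GolayPt) := octadFinset.biUnion (fun b => b.powersetCard 5)
  have hdisj : ∀ b ∈ octadFinset, ∀ b' ∈ octadFinset, b ≠ b' →
      Disjoint (b.powersetCard 5) (b'.powersetCard 5) := by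
    intro b hb b' hb' hne
    rw [Finset.disjoint_left]
    intro x hx hx'
    rw [Finset.mem_powersetCard] at hx hx'
    have hsub : x ⊆ b ∩ b' := Finset.subset_inter hx.1 hx'.1
    have h1 := Finset.card_le_card hsub
    have h2 := card_inter_le_four ((mem_octadFinset b).mp hb) ((mem_octadFinset b').mp hb') hne
    omega
  have hcard : T.card = 42504 := by
    rw [Finset.card_biUnion hdisj]
    have : ∀ b ∈ octadFinset, (b.powersetCard 5).card = 56 := by
      intro b hb
      rw [Finset.card_powersetCard, card_of_mem_octads ((mem_octadFinset b).mp hb)]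
      decide
    rw [Finset.sum_congr rfl this, Finset.sum_const, card_octadFinset]
    rfl
  have hsub : T ⊆ (Finset.univ : Finset GolayPt).powersetCard 5 := by
    intro x hx
    rw [Finset.mem_biUnion] at hx
    obtain ⟨b, _, hxb⟩ := hx
    rw [Finset.mem_powersetCard] at hxb ⊢
    exact ⟨Finset.subset_univ _, hxb.2⟩
  have hall : ((Finset.univ : Finset GolayPt).powersetCard 5).card = 42504 := by
    rw [Finset.card_powersetCard, Finset.card_univ, card_golayPt]
    decide
  have heq : T = (Finset.univ : Finset GolayPt).powersetCard 5 :=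
    Finset.eq_of_subset_of_card_le hsub (by rw [hall, hcard])
  have hsT : s ∈ T := by
    rw [heq, Finset.mem_powersetCard]
    exact ⟨Finset.subset_univ _, hs⟩
  rw [Finset.mem_biUnion] at hsT
  obtain ⟨b, hb, hsb⟩ := hsT
  exact ⟨b, (mem_octadFinset b).mp hb, (Finset.mem_powersetCard.mp hsb).1⟩

/-- The octads form a Steiner system S(5, 8, 24). -/
theorem octads_isSteinerSystem : IsSteinerSystem 5 8 octads := by
  refine ⟨fun b hb => card_of_mem_octads hb, fun s hs => ?_⟩
  obtain ⟨b, hb, hsb⟩ := exists_octad_of_card_five s hs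
  refine ⟨b, ⟨hb, hsb⟩, ?_⟩
  rintro b' ⟨hb', hsb'⟩
  by_contra hne
  have h1 := card_inter_le_four hb' hb hne
  have h2 := Finset.card_le_card (Finset.subset_inter hsb' hsb)
  omega

end Cfsg.Agent.Helper26
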