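import Mathlib
import Cfsg.Prelude.Def_Sporadic_a
import Cfsg.Agent.Lib.Helper26.GolayFacts

/-!
Counting tools: cardinalities of filtered finsets of octads/dodecads via kernel-evaluated
list computations on masks.
-/

set_option autoImplicit false

namespace Cfsg.Agent.Helper26

open Cfsg

lemma disjoint_iff_mask (s t : Finset GolayPt) : Disjoint s t ↔ mask s &&& mask t = 0 := by
  rw [← mask_inter, Finset.disjoint_iff_inter_eq_empty]
  constructor
  · intro h; rw [h, mask_empty]
  · intro h
    have := congrArg unmask h
    simpa using this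

/-- Cardinality of a filtered image of a duplicate-free mask list. -/
lemma card_filter_toFinset_map_unmask (l : List ℕ) (hnd : l.Nodup) (hlt : ∀ m ∈ l, m < 2 ^ 24)
    (P : Finset GolayPt → Prop) [DecidablePred P] (pb : ℕ → Bool)
    (h : ∀ m ∈ l, (P (unmask m) ↔ pb m = true)) :
    (((l.map unmask).toFinset).filter P).card = (l.filter pb).length := by
  have hS : ((l.map unmask).toFinset).filter P = ((l.filter pb).map unmask).toFinset := by
    ext s
    simp only [Finset.mem_filter, List.mem_toFinset, List.mem_map, List.mem_filter]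
    constructor
    · rintro ⟨⟨m, hm, rfl⟩, hP⟩; exact ⟨m, ⟨hm, (h m hm).mp hP⟩, rfl⟩
    · rintro ⟨m, ⟨hm, hpb⟩, rfl⟩; exact ⟨⟨m, hm, rfl⟩, (h m hm).mpr hpb⟩
  rw [hS, List.toFinset_card_of_nodup, List.length_map]
  refine (List.nodup_map_iff_inj_on (hnd.filter _)).mpr ?_
  intro a ha b hb hab
  have ha' := (List.mem_filter.mp ha).1
  have hb' := (List.mem_filter.mp hb).1
  rw [← mask_unmask (hlt a ha'), ← mask_unmask (hlt b hb'), hab]

lemma card_filter_octadFinset (P : Finset GolayPt → Prop) [DecidablePred P] (pb : ℕ → Bool)
    (h : ∀ m ∈ octLit, (P (unmask m) ↔ pb m = true)) :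
    (octadFinset.filter P).card = (octLit.filter pb).length := by
  rw [octadFinset_eq]
  exact card_filter_toFinset_map_unmask octLit octLit_nodup (fun _ hm => lt_of_mem_octLit hm) P pb h

lemma card_filter_dodecadFinset (P : Finset GolayPt → Prop) [DecidablePred P] (pb : ℕ → Bool)
    (h : ∀ m ∈ dodLit, (P (unmask m) ↔ pb m = true)) :
    (dodecadFinset.filter P).card = (dodLit.filter pb).length := by
  rw [dodecadFinset_eq]
  exact card_filter_toFinset_map_unmask dodLit dodLit_nodup (fun _ hm => lt_of_mem_dodLit hm) P pb h

/-- Every octad is disjoint from exactly 30 octads (kernel computation). -/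
theorem octLit_disjoint_count : octLit.all (fun a =>
    Nat.beq (octLit.filter (fun b => Nat.beq (Nat.land a b) (nat_lit 0))).length (nat_lit 30)) = true := by
  decide +kernel

/-- Every octad is disjoint from exactly 30 octads. -/
theorem card_disjoint_octads {o : Finset GolayPt} (ho : o ∈ octads)
    [DecidablePred (fun o' : Finset GolayPt => Disjoint o o')] :
    (octadFinset.filter (fun o' => Disjoint o o')).card = 30 := by
  rw [card_filter_octadFinset _ (fun b => Nat.beq (Nat.land (mask o) b) 0)]
  · have h := List.all_eq_true.mp octLit_disjoint_count (mask o) ((mem_octads_iff_lit o).mp ho)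
    exact Nat.eq_of_beq_eq_true h
  · intro m hm
    rw [disjoint_iff_mask, mask_unmask (lt_of_mem_octLit hm)]
    constructor
    · intro h; show Nat.beq (mask o &&& m) 0 = true; rw [h]; rfl
    · intro h; exact Nat.eq_of_beq_eq_true h

end Cfsg.Agent.Helper26
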