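import Cfsg.Agent.Lib.Helper53.IPDefs
import Cfsg.Agent.Lib.Helper81.CharCorr
import Cfsg.Agent.Lib.Helper81.CharRam
import Cfsg.Agent.Lib.Helper78.CharCount

/-!
# IP (G1) `degLe_subgroup` (helper53's server for S4463), written by helper26.
-/

set_option autoImplicit false

namespace Cfsg.Agent.Helper26.IP

open Cfsg Cfsg.Agent.Helper53.IP Cfsg.Agent.Helper81
open scoped ComplexConjugate

universe u

theorem degLe_subgroup {G : Type u} [Group G] [Finite G] (b : ℕ) (h : DegLe G b) (H : Subgroup G) :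
    DegLe H b := by
  classical
  haveI : Fintype G := Fintype.ofFinite G
  haveI : Fintype H := Fintype.ofFinite H
  haveI : Fintype (IrrCharacter H) := @Fintype.ofFinite _ irr_finite
  intro ψ
  have hψ : IsIrrCharacter H (ψ : H → ℂ) := ψ.2
  obtain ⟨hd, hdpos⟩ := Cfsg.Agent.Helper78.irr_charDegree hψ
  have hind : IsCharacter G (indFun H (ψ : H → ℂ)) := isCharacter_indFun H (IsIrrCharacter.isCharacter hψ)
  have hind0 : indFun H (ψ : H → ℂ) ≠ 0 := by
    intro h0
    have h1 := congrFun h0 1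
    rw [indFun_one, Pi.zero_apply, hd] at h1
    have hidx : H.index ≠ 0 := Subgroup.index_ne_zero_of_finite
    have : (H.index : ℂ) * (charDegree (ψ : H → ℂ) : ℂ) ≠ 0 := by
      apply mul_ne_zero
      · exact_mod_cast hidx
      · exact_mod_cast hdpos.ne'
    exact this h1
  obtain ⟨χ, hχ, hne⟩ := exists_irr_constituent hind hind0
  -- Frobenius reciprocity
  have hfr := frobenius_reciprocity H (ψ : H → ℂ)
    (isClassFunction_of_isCharacter (IsIrrCharacter.isCharacter hχ))
  rw [hfr] at hne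
  -- decompose the restriction of χ
  have hresc : IsCharacter H (fun x : H => χ x) := isCharacter_restrict H (IsIrrCharacter.isCharacter hχ)
  obtain ⟨m, hm⟩ := exists_nat_decomp hresc
  have hmψ : classInner (fun x : H => χ x) (ψ : H → ℂ) = (m ψ : ℂ) := by
    rw [hm]
    exact classInner_nat_decomp (fun χ' => (m χ' : ℂ)) ψ
  have hmne : m ψ ≠ 0 := by
    intro h0
    apply hne
    rw [classInner_conj_symm, hmψ, h0]
    simp
  -- evaluate at 1
  have h1 := congrFun hm 1
  simp only [Finset.sum_apply, Pi.smul_apply, smul_eq_mul] at h1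
  have hχd := (Cfsg.Agent.Helper78.irr_charDegree hχ).1
  have hdeg : ∀ θ : IrrCharacter H, (θ : H → ℂ) 1 = (charDegree (θ : H → ℂ) : ℂ) :=
    fun θ => (Cfsg.Agent.Helper78.irr_charDegree θ.2).1
  have h2 : (charDegree χ : ℂ) = ((∑ θ : IrrCharacter H, m θ * charDegree (θ : H → ℂ) : ℕ) : ℂ) := by
    rw [← hχd]
    have : χ ((1 : H) : G) = χ 1 := rfl
    rw [← this, h1]
    push_cast
    exact Finset.sum_congr rfl (fun θ _ => by rw [hdeg θ])
  have h3 : charDegree χ = ∑ θ : IrrCharacter H, m θ * charDegree (θ : H → ℂ) := by exact_mod_cast h2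
  have h4 : m ψ * charDegree (ψ : H → ℂ) ≤ charDegree χ := by
    rw [h3]
    exact Finset.single_le_sum (f := fun θ : IrrCharacter H => m θ * charDegree (θ : H → ℂ))
      (fun θ _ => Nat.zero_le _) (Finset.mem_univ ψ)
  have h5 : charDegree χ ≤ b := h ⟨χ, hχ⟩
  have h6 : 1 ≤ m ψ := Nat.one_le_iff_ne_zero.mpr hmne
  calc charDegree (ψ : H → ℂ) = 1 * charDegree (ψ : H → ℂ) := (one_mul _).symm
    _ ≤ m ψ * charDegree (ψ : H → ℂ) := Nat.mul_le_mul_right _ h6
    _ ≤ charDegree χ := h4
    _ ≤ b := h5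

end Cfsg.Agent.Helper26.IP
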