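import Cfsg.Agent.Lib.Helper53.IPDefs

/-!
# IP (G3) `hasAb_of_subgroup` (helper53's server for S4463), written by helper26.
-/

set_option autoImplicit false

namespace Cfsg.Agent.Helper26.IP

open Cfsg Cfsg.Agent.Helper53.IP

universe u

theorem hasAb_of_subgroup {G : Type u} [Group G] [Finite G] (H : Subgroup G) (n : ℕ)
    (h : HasAb H n) : HasAb G (H.index * n) := by
  obtain ⟨A, hA, hn⟩ := h
  refine ⟨A.map H.subtype, ?_, ?_⟩
  · rintro x ⟨a, ha, rfl⟩ y ⟨b, hb, rfl⟩
    have := hA a ha b hb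
    rw [← map_mul, ← map_mul, this]
  · rw [Subgroup.index_map_subtype, mul_comm]
    exact Nat.mul_le_mul_left _ hn

end Cfsg.Agent.Helper26.IP
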