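import Cfsg.Agent.Lib.Helper53.IPDefs
import Cfsg.Agent.Lib.Helper81.CharCorr
import Cfsg.Agent.Lib.Helper81.CharClifford
import Cfsg.Agent.Lib.Helper78.CharCount

/-!
# IP (G6) `index_eq_of_vanish` (helper53's server for S4463), written by helper26.
An irreducible character vanishing off a normal subgroup `N`: `|H:N| = e² t` with `e t ∣ ψ(1)`.
-/

set_option autoImplicit false

namespace Cfsg.Agent.Helper26.IP

open Cfsg Cfsg.Agent.Helper53.IP Cfsg.Agent.Helper81
open scoped ComplexConjugate

universe u

theorem index_eq_of_vanish {H : Type u} [Group H] [Finite H] (N : Subgroup H) [N.Normal]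
    (ψ : IrrCharacter H) (hvan : ∀ x : H, x ∉ N → (ψ : H → ℂ) x = 0) :
    ∃ e t : ℕ, N.index = e ^ 2 * t ∧ e * t ∣ charDegree (ψ : H → ℂ) := by
  classical
  haveI : Fintype H := Fintype.ofFinite H
  haveI : Fintype N := Fintype.ofFinite N
  have hN : N.Normal := inferInstance
  have hψ : IsIrrCharacter H (ψ : H → ℂ) := ψ.2
  have hψc : IsCharacter H (ψ : H → ℂ) := IsIrrCharacter.isCharacter hψ
  have hcf : IsClassFunction H (ψ : H → ℂ) := isClassFunction_of_isCharacter hψc
  obtain ⟨hd, hdpos⟩ := Cfsg.Agent.Helper78.irr_charDegree hψ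
  -- the restriction
  obtain ⟨res, hres⟩ : ∃ res : N → ℂ, res = fun n : N => (ψ : H → ℂ) n := ⟨_, rfl⟩
  have hresc : IsCharacter N res := by rw [hres]; exact isCharacter_restrict N hψc
  have hres1 : res 1 = (charDegree (ψ : H → ℂ) : ℂ) := by rw [hres]; exact hd
  have hres0 : res ≠ 0 := by
    intro h
    have := congrFun h 1
    rw [hres1, Pi.zero_apply] at this
    have h0 : charDegree (ψ : H → ℂ) = 0 := by exact_mod_cast this
    omega
  obtain ⟨θ, hθ, hne⟩ := exists_irr_constituent hresc hres0
  obtain ⟨e, he⟩ := exists_nat_classInner hresc hθ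
  obtain ⟨hθd, -⟩ := Cfsg.Agent.Helper78.irr_charDegree hθ
  have hcl := clifford N hN hψ hθ (by rw [← hres]; exact hne)
  rw [← hres, he] at hcl
  have hS := conjSet_finite N hN θ
  rw [finsum_mem_eq_finite_toFinset_sum _ hS] at hcl
  refine ⟨e, hS.toFinset.card, ?_, ?_⟩
  · -- index
    have hmemS : ∀ φ ∈ hS.toFinset, classInner φ res = (e : ℂ) := by
      intro φ hφ
      rw [Set.Finite.mem_toFinset] at hφ
      obtain ⟨g, rfl⟩ := hφ
      rw [classInner_conj_symm, hres, classInner_restrict_conjFun N hN hcf θ g, ← hres, he]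
      simp
    have h1 : classInner res res = (e : ℂ) * ((hS.toFinset.card : ℂ) * (e : ℂ)) := by
      conv_lhs => arg 1; rw [hcl]
      rw [classInner_smul_left, classInner_sum_left, Finset.sum_congr rfl hmemS, Finset.sum_const,
        nsmul_eq_mul]
    -- the other computation
    have h2 : classInner res res = (N.index : ℂ) := by
      have horth := irr_orthonormal hψ hψ
      rw [if_pos rfl] at horth
      unfold classInner at horth ⊢
      have hsumH : ∑ g : H, (ψ : H → ℂ) g * conj ((ψ : H → ℂ) g) = (Nat.card H : ℂ) := by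
        have hne0 : (Nat.card H : ℂ) ≠ 0 := by
          have : 0 < Nat.card H := Nat.card_pos
          exact_mod_cast this.ne'
        field_simp at horth
        exact horth
      have hsumN : ∑ n : N, res n * conj (res n) =
          ∑ g : H, (ψ : H → ℂ) g * conj ((ψ : H → ℂ) g) := by
        rw [hres]
        rw [← Finset.sum_subtype (Finset.univ.filter (fun g : H => g ∈ N))
          (fun g => by simp) (fun g : H => (ψ : H → ℂ) g * conj ((ψ : H → ℂ) g))]
        apply Finset.sum_subset (Finset.filter_subset _ _)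
        intro g _ hg
        have : g ∉ N := by simpa using hg
        rw [hvan g this, zero_mul]
      rw [hsumN, hsumH, ← Subgroup.card_mul_index N]
      have hne0 : (Nat.card N : ℂ) ≠ 0 := by
        have : 0 < Nat.card N := Nat.card_pos
        exact_mod_cast this.ne'
      push_cast
      field_simp
    have h3 : (N.index : ℂ) = ((e ^ 2 * hS.toFinset.card : ℕ) : ℂ) := by
      rw [← h2, h1]; push_cast; ring
    exact_mod_cast h3
  · -- degree
    have hφ1 : ∀ φ ∈ hS.toFinset, φ 1 = (charDegree θ : ℂ) := by
      intro φ hφ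
      rw [Set.Finite.mem_toFinset] at hφ
      obtain ⟨g, rfl⟩ := hφ
      rw [conjFun_apply, ← hθd]
      congr 1
      apply Subtype.ext
      simp
    have h1 := congrFun hcl 1
    rw [hres1] at h1
    simp only [Pi.smul_apply, Finset.sum_apply, smul_eq_mul] at h1
    rw [Finset.sum_congr rfl hφ1, Finset.sum_const, nsmul_eq_mul] at h1
    have h2 : charDegree (ψ : H → ℂ) = e * hS.toFinset.card * charDegree θ := by
      have : ((charDegree (ψ : H → ℂ) : ℕ) : ℂ) = ((e * hS.toFinset.card * charDegree θ : ℕ) : ℂ) := by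
        rw [h1]; push_cast; ring
      exact_mod_cast this
    exact ⟨charDegree θ, h2⟩

end Cfsg.Agent.Helper26.IP
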