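import Mathlib
import Cfsg.Agent.Lib.Helper7.Co0Pairs

/-!
# Orbit certificates for subgroups of the automorphism group of the Leech lattice

Explicit lattice vectors are packed into natural numbers (24 hexadecimal digits, coordinate `+ 8`).
A stack machine walks a spanning tree of an orbit, applying generators given by kernel-computable
implementations; the emitted keys are sorted and counted.
-/

set_option autoImplicit false

namespace Cfsg.Agent.Helper26
open Cfsg Cfsg.Agent.Helper7

/-! ### Packed vectors -/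

/-- coordinate `i` of the packed vector `k` -/
def coordK (k i : ℕ) : ℤ := ((k / 16 ^ i % 16 : ℕ) : ℤ) - 8

/-- the integer vector packed in `k` -/
def vecK (k : ℕ) : GolayPt → ℤ := fun p => coordK k (Helper7.idx p)

/-- the list of coordinates packed in `k` -/
def unpackL (k : ℕ) : List ℤ := (List.range 24).map (coordK k)

/-- packing a list of coordinates -/
def packL : List ℤ → ℕ
  | [] => 0
  | z :: l => (z + 8).toNat + 16 * packL l

theorem vecOf_unpackL (k : ℕ) : vecOf (unpackL k) = vecK k := by
  funext p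
  unfold vecOf unpackL vecK
  have h : Helper7.idx p < (List.range 24).length := by simpa using Helper7.idx_lt p
  rw [List.getD_eq_getElem _ _ (by simpa using h)]
  simp

theorem mod_pow_eq_of_digits (n : ℕ) (a b : ℕ)
    (h : ∀ i < n, a / 16 ^ i % 16 = b / 16 ^ i % 16) : a % 16 ^ n = b % 16 ^ n := by
  induction n with
  | zero => simp [Nat.mod_one]
  | succ n ih =>
    rw [Nat.mod_pow_succ, Nat.mod_pow_succ, ih (fun i hi => h i (Nat.lt_succ_of_lt hi)),
      h n (Nat.lt_succ_self n)]

theorem vecK_injOn {a b : ℕ} (ha : a < 16 ^ 24) (hb : b < 16 ^ 24) (h : vecK a = vecK b) :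
    a = b := by
  have h1 : ∀ i < 24, a / 16 ^ i % 16 = b / 16 ^ i % 16 := by
    intro i hi
    have := congrFun h (Helper7.pt i)
    unfold vecK coordK at this
    rw [Helper7.idx_pt i hi] at this
    have h2 : ((a / 16 ^ i % 16 : ℕ) : ℤ) = ((b / 16 ^ i % 16 : ℕ) : ℤ) := by linarith
    exact_mod_cast h2
  have := mod_pow_eq_of_digits 24 a b h1
  rwa [Nat.mod_eq_of_lt ha, Nat.mod_eq_of_lt hb] at this

/-! ### Implementations of lattice automorphisms -/

/-- `F` computes the action of `g` on packed vectors -/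
def ImplK (g : Equiv.Perm leechLattice) (F : ℕ → List ℤ) : Prop :=
  ∀ (k : ℕ) (x : leechLattice), x.1 = vecK k → (g x).1 = vecOf (F k)

/-- `f` computes the action of `g` on lists of coordinates -/
def ImplL (g : Equiv.Perm leechLattice) (f : List ℤ → List ℤ) : Prop :=
  ∀ (l : List ℤ) (x : leechLattice), x.1 = vecOf l → (g x).1 = vecOf (f l)

theorem ImplL.toK {g : Equiv.Perm leechLattice} {f : List ℤ → List ℤ} (h : ImplL g f) :
    ImplK g (fun k => f (unpackL k)) := by
  intro k x hx
  exact h (unpackL k) x (by rw [hx, vecOf_unpackL])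

theorem ImplL.comp {g g' : Equiv.Perm leechLattice} {f f' : List ℤ → List ℤ} (h : ImplL g f)
    (h' : ImplL g' f') : ImplL (g' * g) (fun l => f' (f l)) := by
  intro l x hx
  exact h' (f l) (g x) (h l x hx)

theorem implL_one : ImplL 1 (fun l => l) := fun _ _ hx => hx

/-- monomial maps on lists: entry `e = 2 * (preimage index) + (sign bit)` -/
def monoL (tab : List ℕ) (l : List ℤ) : List ℤ :=
  tab.map fun e => if e % 2 = 1 then -l.getD (e / 2) 0 else l.getD (e / 2) 0

/-- monomial maps on packed vectors -/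
def monoK (tab : List ℕ) (k : ℕ) : List ℤ :=
  tab.map fun e => if e % 2 = 1 then -coordK k (e / 2) else coordK k (e / 2)

theorem getD_map_of_lt {α β : Type*} (f : α → β) (l : List α) (i : ℕ) (hi : i < l.length) (d : β)
    (d' : α) : (l.map f).getD i d = f (l.getD i d') := by
  rw [List.getD_eq_getElem _ _ (by simpa using hi), List.getD_eq_getElem _ _ hi]
  simp

theorem implL_mono {σ : Equiv.Perm GolayPt} {c : Finset GolayPt} (hσ : σ ∈ M24) (hc : c ∈ Helper92.Code)
    (tab : List ℕ) (hlen : tab.length = 24)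
    (ht : ∀ p : GolayPt, tab.getD (Helper7.idx p) 0 = 2 * Helper7.idx (σ.symm p) + (if p ∈ c then 1 else 0)) :
    ImplL (monoPerm σ c hσ hc) (monoL tab) := by
  intro l x hx
  rw [monoPerm_val]
  funext p
  rw [Helper92.signedPerm_apply, hx]
  unfold vecOf monoL
  rw [getD_map_of_lt _ tab (Helper7.idx p) (by rw [hlen]; exact Helper7.idx_lt p) 0 0, ht p]
  by_cases hp : p ∈ c
  · rw [if_pos hp, if_pos hp, if_pos (by omega)]
    congr 2
    omega
  · rw [if_neg hp, if_neg hp, if_neg (by omega)]
    congr 1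
    omega

theorem implK_mono {σ : Equiv.Perm GolayPt} {c : Finset GolayPt} (hσ : σ ∈ M24) (hc : c ∈ Helper92.Code)
    (tab : List ℕ) (hlen : tab.length = 24)
    (ht : ∀ p : GolayPt, tab.getD (Helper7.idx p) 0 = 2 * Helper7.idx (σ.symm p) + (if p ∈ c then 1 else 0)) :
    ImplK (monoPerm σ c hσ hc) (monoK tab) := by
  intro k x hx
  rw [monoPerm_val]
  funext p
  rw [Helper92.signedPerm_apply, hx]
  unfold vecOf monoK vecK
  rw [getD_map_of_lt _ tab (Helper7.idx p) (by rw [hlen]; exact Helper7.idx_lt p) 0 0, ht p]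
  by_cases hp : p ∈ c
  · rw [if_pos hp, if_pos hp, if_pos (by omega)]
    congr 2
    omega
  · rw [if_neg hp, if_neg hp, if_neg (by omega)]
    congr 1
    omega

/-! ### The extra automorphism on lists -/

/-- tetrad sums of a list of coordinates -/
def tsL (l : List ℤ) (t : ℕ) : ℤ :=
  ((List.range 24).map fun j => if tetTab.getD j 0 = t then l.getD j 0 else 0).sum

/-- the extra automorphism on lists of coordinates -/
def xiL (l : List ℤ) : List ℤ :=
  (List.range 24).map fun j =>
    if tetTab.getD j 0 = 0 then -(l.getD j 0 - tsL l (tetTab.getD j 0) / 2)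
    else l.getD j 0 - tsL l (tetTab.getD j 0) / 2

theorem tsum_vecOf (l : List ℤ) (t : ℕ) : Helper7.tsum (vecOf l) t = tsL l t := by
  unfold Helper7.tsum tsL
  rw [sum_allPts]
  unfold allPts
  rw [List.map_map]
  refine congrArg List.sum (List.map_congr_left ?_)
  intro j hj
  have hj' : j < 24 := List.mem_range.mp hj
  simp only [Function.comp_apply]
  unfold tet vecOf
  rw [Helper7.idx_pt j hj']

theorem implL_xi : ImplL xiPerm xiL := by
  intro l x hx
  rw [xiPerm_val, hx]
  funext p
  unfold xiFun
  rw [tsum_vecOf]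
  show _ = (xiL l).getD (Helper7.idx p) 0
  unfold xiL
  rw [getD_map_of_lt _ (List.range 24) (Helper7.idx p) (by simpa using Helper7.idx_lt p) 0 0]
  have : (List.range 24).getD (Helper7.idx p) 0 = Helper7.idx p := by
    rw [List.getD_eq_getElem _ _ (by simpa using Helper7.idx_lt p)]
    simp
  rw [this]
  rfl

/-! ### Digits -/

/-- packing a list of hexadecimal digits -/
def packN : List ℕ → ℕ
  | [] => 0
  | d :: t => Nat.add d (Nat.mul 16 (packN t))

theorem packN_cons (d : ℕ) (t : List ℕ) : packN (d :: t) = d + 16 * packN t := rfl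

theorem packN_digit : ∀ (ds : List ℕ), (∀ d ∈ ds, d < 16) → ∀ (i : ℕ) (hi : i < ds.length),
    packN ds / 16 ^ i % 16 = ds[i]
  | [], _, i, hi => absurd hi (by simp)
  | d :: t, h, 0, _ => by
    have hd : d < 16 := h d List.mem_cons_self
    rw [packN_cons, pow_zero, Nat.div_one, Nat.add_mul_mod_self_left, Nat.mod_eq_of_lt hd]
    rfl
  | d :: t, h, i + 1, hi => by
    have hd : d < 16 := h d List.mem_cons_self
    have e : (d + 16 * packN t) / 16 ^ (i + 1) = packN t / 16 ^ i := by
      rw [pow_succ', ← Nat.div_div_eq_div_mul, Nat.add_mul_div_left _ _ (by norm_num : 0 < 16),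
        Nat.div_eq_of_lt hd, zero_add]
    rw [packN_cons, e, List.getElem_cons_succ]
    exact packN_digit t (fun d' hd' => h d' (List.mem_cons_of_mem _ hd')) i
      (by simpa using hi)

theorem packN_lt : ∀ (ds : List ℕ), (∀ d ∈ ds, d < 16) → packN ds < 16 ^ ds.length
  | [], _ => by simp [packN]
  | d :: t, h => by
    have hd : d < 16 := h d List.mem_cons_self
    have ih := packN_lt t (fun d' hd' => h d' (List.mem_cons_of_mem _ hd'))
    rw [packN_cons, List.length_cons, pow_succ']
    omega

/-- keys all of whose 24 digits are between 1 and 15 -/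
def goodKey (k : ℕ) : Prop := k < 16 ^ 24 ∧ ∀ i < 24, 1 ≤ k / 16 ^ i % 16

/-- the boolean check of `goodKey` -/
def goodKeyB (k : ℕ) : Bool :=
  Nat.blt k (16 ^ 24) && (List.range 24).all fun i => Nat.ble 1 (k / 16 ^ i % 16)

theorem goodKeyB_spec {k : ℕ} (h : goodKeyB k = true) : goodKey k := by
  unfold goodKeyB at h
  simp only [Bool.and_eq_true, Nat.blt_eq, List.all_eq_true, List.mem_range, Nat.ble_eq] at h
  exact h

theorem goodKey_of_digits (ds : List ℕ) (hlen : ds.length = 24) (h : ∀ d ∈ ds, 1 ≤ d ∧ d < 16) :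
    goodKey (packN ds) := by
  refine ⟨?_, ?_⟩
  · have := packN_lt ds (fun d hd => (h d hd).2)
    rwa [hlen] at this
  · intro i hi
    rw [packN_digit ds (fun d hd => (h d hd).2) i (by rw [hlen]; exact hi)]
    exact (h _ (List.getElem_mem _)).1

theorem coordK_packN (ds : List ℕ) (h : ∀ d ∈ ds, d < 16) (i : ℕ) (hi : i < ds.length) :
    coordK (packN ds) i = (ds[i] : ℤ) - 8 := by
  unfold coordK
  rw [packN_digit ds h i hi]

/-! ### Monomial maps on keys -/

/-- the digit of the image: `e = 2 * (preimage index) + (sign bit)` -/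
def digM (e k : ℕ) : ℕ :=
  cond (Nat.beq (Nat.mod e 2) 1)
    (Nat.sub 16 (Nat.mod (Nat.div k (Nat.pow 16 (Nat.div e 2))) 16))
    (Nat.mod (Nat.div k (Nat.pow 16 (Nat.div e 2))) 16)

theorem digM_eq (e k : ℕ) :
    digM e k = if e % 2 = 1 then 16 - k / 16 ^ (e / 2) % 16 else k / 16 ^ (e / 2) % 16 := by
  unfold digM
  by_cases h : e % 2 = 1
  · have : Nat.beq (Nat.mod e 2) 1 = true := by rw [Nat.beq_eq]; exact h
    rw [this, if_pos h]
    rfl
  · have : Nat.beq (Nat.mod e 2) 1 = false := by
      rw [← Bool.not_eq_true, Nat.beq_eq]; exact h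
    rw [this, if_neg h]
    rfl

/-- monomial maps on keys -/
def monoKey : List ℕ → ℕ → ℕ
  | [], _ => 0
  | e :: t, k => Nat.add (digM e k) (Nat.mul 16 (monoKey t k))

theorem monoKey_eq : ∀ (tab : List ℕ) (k : ℕ), monoKey tab k = packN (tab.map fun e => digM e k)
  | [], _ => rfl
  | e :: t, k => by
    show digM e k + 16 * monoKey t k = _
    rw [monoKey_eq t k]
    rfl

theorem monoKey_spec (tab : List ℕ) (hlen : tab.length = 24) (hlt : ∀ e ∈ tab, e < 48) (k : ℕ)
    (hk : goodKey k) : vecK (monoKey tab k) = vecOf (monoK tab k) ∧ goodKey (monoKey tab k) := by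
  have hdig : ∀ e ∈ tab, 1 ≤ k / 16 ^ (e / 2) % 16 ∧ k / 16 ^ (e / 2) % 16 < 16 := by
    intro e he
    have := hlt e he
    exact ⟨hk.2 (e / 2) (by omega), Nat.mod_lt _ (by norm_num)⟩
  have hds : ∀ d ∈ tab.map (fun e => digM e k), 1 ≤ d ∧ d < 16 := by
    intro d hd
    obtain ⟨e, he, rfl⟩ := List.mem_map.mp hd
    obtain ⟨h1, h2⟩ := hdig e he
    rw [digM_eq]
    split_ifs <;> omega
  have hl : (tab.map fun e => digM e k).length = 24 := by rw [List.length_map, hlen]
  rw [monoKey_eq]
  refine ⟨?_, goodKey_of_digits _ hl hds⟩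
  funext p
  have hi : Helper7.idx p < 24 := Helper7.idx_lt p
  unfold vecK
  rw [coordK_packN _ (fun d hd => (hds d hd).2) _ (by rw [hl]; exact hi)]
  unfold vecOf monoK
  rw [getD_map_of_lt _ tab (Helper7.idx p) (by rw [hlen]; exact hi) 0 0,
    List.getD_eq_getElem _ _ (by rw [hlen]; exact hi), List.getElem_map]
  have he : tab[Helper7.idx p]'(by rw [hlen]; exact hi) ∈ tab := List.getElem_mem _
  obtain ⟨h1, h2⟩ := hdig _ he
  rw [digM_eq]
  unfold coordK
  split_ifs
  · push_cast [Nat.cast_sub (le_of_lt h2)]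
    ring
  · rfl

/-! ### Implementations on keys -/

/-- `F` computes the action of `g` on good keys -/
def ImplKey (g : Equiv.Perm leechLattice) (F : ℕ → Option ℕ) : Prop :=
  ∀ (k k' : ℕ) (x : leechLattice), goodKey k → x.1 = vecK k → F k = some k' →
    (g x).1 = vecK k' ∧ goodKey k'

/-- packing a list of coordinates, checking length and bounds -/
def packChk (y : List ℤ) : Option ℕ :=
  if y.length = 24 ∧ (y.all fun z => decide (-7 ≤ z) && decide (z ≤ 7)) = true then
    some (packN (y.map fun z => (z + 8).toNat))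
  else none

theorem packChk_spec {y : List ℤ} {k' : ℕ} (h : packChk y = some k') :
    vecK k' = vecOf y ∧ goodKey k' := by
  unfold packChk at h
  split_ifs at h with hc
  obtain ⟨hlen, hall⟩ := hc
  rw [List.all_eq_true] at hall
  have hb : ∀ z ∈ y, -7 ≤ z ∧ z ≤ 7 := by
    intro z hz
    have := hall z hz
    simpa using this
  have hds : ∀ d ∈ y.map (fun z => (z + 8).toNat), 1 ≤ d ∧ d < 16 := by
    intro d hd
    obtain ⟨z, hz, rfl⟩ := List.mem_map.mp hd
    obtain ⟨h1, h2⟩ := hb z hz
    omega
  have hl : (y.map fun z => (z + 8).toNat).length = 24 := by rw [List.length_map, hlen]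
  rw [← Option.some.inj h]
  refine ⟨?_, goodKey_of_digits _ hl hds⟩
  funext p
  have hi : Helper7.idx p < 24 := Helper7.idx_lt p
  unfold vecK
  rw [coordK_packN _ (fun d hd => (hds d hd).2) _ (by rw [hl]; exact hi), List.getElem_map]
  unfold vecOf
  rw [List.getD_eq_getElem _ _ (by rw [hlen]; exact hi)]
  have := hb _ (List.getElem_mem (l := y) (by rw [hlen]; exact hi))
  omega

theorem ImplK.toKey {g : Equiv.Perm leechLattice} {F : ℕ → List ℤ} (h : ImplK g F) :
    ImplKey g (fun k => packChk (F k)) := by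
  intro k k' x _ hx hF
  obtain ⟨h1, h2⟩ := packChk_spec hF
  exact ⟨by rw [h k x hx, h1], h2⟩

/-! ### The stack machine -/

/-- The stack machine: code `c` below the number of generators applies generator `c` to the top of
the stack, pushes and emits the result; any other code pops the stack. -/
def runK (gens : List (ℕ → Option ℕ)) : List ℕ → List ℕ → List ℕ → Option (List ℕ)
  | [], _, out => some out
  | c :: prog, stack, out =>
    match gens[c]? with
    | some F =>
      match stack with
      | [] => none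
      | top :: rest =>
        match F top with
        | some (k' + 1) => runK gens prog ((k' + 1) :: top :: rest) ((k' + 1) :: out)
        | _ => none
    | none =>
      match stack with
      | [] => none
      | _ :: rest => runK gens prog rest out

/-- the key `k` is reached from `x0` by an element of `H` -/
def RK (H : Subgroup (Equiv.Perm leechLattice)) (x0 : leechLattice) (k : ℕ) : Prop :=
  goodKey k ∧ ∃ g ∈ H, (g x0).1 = vecK k

theorem step_sound {H : Subgroup (Equiv.Perm leechLattice)} {x0 : leechLattice}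
    {F : ℕ → Option ℕ} (hF : ∃ g ∈ H, ImplKey g F) {k k' : ℕ} (hk : RK H x0 k)
    (h : F k = some k') : RK H x0 k' := by
  obtain ⟨g, hg, himp⟩ := hF
  obtain ⟨hgood, g0, hg0, hx⟩ := hk
  obtain ⟨h1, h2⟩ := himp k k' (g0 x0) hgood hx h
  exact ⟨h2, g * g0, H.mul_mem hg hg0, by rw [Equiv.Perm.mul_apply, h1]⟩

theorem runK_sound {H : Subgroup (Equiv.Perm leechLattice)} {x0 : leechLattice}
    (gens : List (ℕ → Option ℕ)) (hg : ∀ F ∈ gens, ∃ g ∈ H, ImplKey g F) :
    ∀ (prog stack out res : List ℕ), (∀ k ∈ stack, RK H x0 k) → (∀ k ∈ out, RK H x0 k) →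
      runK gens prog stack out = some res → ∀ k ∈ res, RK H x0 k := by
  intro prog
  induction prog with
  | nil =>
    intro stack out res _ ho h
    unfold runK at h
    rw [← Option.some.inj h]
    exact ho
  | cons c prog ih =>
    intro stack out res hs ho h
    unfold runK at h
    cases hF : gens[c]? with
    | some F =>
      rw [hF] at h
      cases stack with
      | nil => simp at h
      | cons top rest =>
        simp only at h
        cases hk : F top with
        | none => rw [hk] at h; simp at h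
        | some k1 =>
          rw [hk] at h
          cases k1 with
          | zero => simp at h
          | succ k' =>
            simp only at h
            have hFm : F ∈ gens := List.mem_of_getElem? hF
            have hk' : RK H x0 (k' + 1) :=
              step_sound (hg F hFm) (hs top (List.mem_cons_self)) hk
            refine ih _ _ _ ?_ ?_ h
            · intro k hkm
              rcases List.mem_cons.mp hkm with rfl | hkm
              · exact hk'
              · exact hs k hkm
            · intro k hkm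
              rcases List.mem_cons.mp hkm with rfl | hkm
              · exact hk'
              · exact ho k hkm
    | none =>
      rw [hF] at h
      cases stack with
      | nil => simp at h
      | cons top rest =>
        simp only at h
        exact ih _ _ _ (fun k hk => hs k (List.mem_cons_of_mem _ hk)) ho h

/-! ### Sorting -/

/-- merging with fuel -/
def mergeF : ℕ → List ℕ → List ℕ → List ℕ
  | 0, a, b => a ++ b
  | _ + 1, [], b => b
  | _ + 1, a, [] => a
  | n + 1, x :: a, y :: b =>
    if Nat.ble x y then x :: mergeF n a (y :: b) else y :: mergeF n (x :: a) b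

theorem mem_mergeF (n : ℕ) : ∀ (a b : List ℕ) (x : ℕ), x ∈ mergeF n a b → x ∈ a ∨ x ∈ b := by
  induction n with
  | zero =>
    intro a b x h
    unfold mergeF at h
    exact List.mem_append.mp h
  | succ n ih =>
    intro a b x h
    cases a with
    | nil =>
      unfold mergeF at h
      exact Or.inr h
    | cons x' a =>
      cases b with
      | nil =>
        unfold mergeF at h
        exact Or.inl h
      | cons y b =>
        unfold mergeF at h
        split_ifs at h
        · rcases List.mem_cons.mp h with rfl | h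
          · exact Or.inl List.mem_cons_self
          · rcases ih _ _ _ h with h | h
            · exact Or.inl (List.mem_cons_of_mem _ h)
            · exact Or.inr h
        · rcases List.mem_cons.mp h with rfl | h
          · exact Or.inr List.mem_cons_self
          · rcases ih _ _ _ h with h | h
            · exact Or.inl h
            · exact Or.inr (List.mem_cons_of_mem _ h)

/-- merge adjacent pairs of lists -/
def mergePairs (fuel : ℕ) : List (List ℕ) → List (List ℕ)
  | a :: b :: rest => mergeF fuel a b :: mergePairs fuel rest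
  | l => l

theorem mem_mergePairs (fuel : ℕ) : ∀ (ls : List (List ℕ)) (x : ℕ),
    (∃ l ∈ mergePairs fuel ls, x ∈ l) → ∃ l ∈ ls, x ∈ l
  | [], _, h => by simp [mergePairs] at h
  | [_], _, h => by simpa [mergePairs] using h
  | a :: b :: rest, x, h => by
    unfold mergePairs at h
    obtain ⟨l, hl, hx⟩ := h
    rcases List.mem_cons.mp hl with rfl | hl
    · rcases mem_mergeF _ _ _ _ hx with h | h
      · exact ⟨a, List.mem_cons_self, h⟩
      · exact ⟨b, List.mem_cons_of_mem _ List.mem_cons_self, h⟩
    · obtain ⟨l', hl', hx'⟩ := mem_mergePairs fuel rest x ⟨l, hl, hx⟩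
      exact ⟨l', List.mem_cons_of_mem _ (List.mem_cons_of_mem _ hl'), hx'⟩

/-- iterate pairwise merging -/
def msortAux (fuel : ℕ) : ℕ → List (List ℕ) → List ℕ
  | 0, ls => ls.flatten
  | n + 1, ls => msortAux fuel n (mergePairs fuel ls)

theorem mem_msortAux (fuel : ℕ) (n : ℕ) : ∀ (ls : List (List ℕ)) (x : ℕ),
    x ∈ msortAux fuel n ls → ∃ l ∈ ls, x ∈ l := by
  induction n with
  | zero =>
    intro ls x h
    unfold msortAux at h
    exact List.mem_flatten.mp h
  | succ n ih =>
    intro ls x h
    unfold msortAux at h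
    exact mem_mergePairs fuel ls x (ih _ x h)

/-- a merge sort (only `mem_msort` is needed about it) -/
def msort (fuel rounds : ℕ) (l : List ℕ) : List ℕ := msortAux fuel rounds (l.map fun a => [a])

theorem mem_msort (fuel rounds : ℕ) (l : List ℕ) (x : ℕ) (h : x ∈ msort fuel rounds l) : x ∈ l := by
  obtain ⟨l', hl', hx⟩ := mem_msortAux fuel rounds _ x h
  obtain ⟨a, ha, rfl⟩ := List.mem_map.mp hl'
  rwa [List.mem_singleton.mp hx]

/-- strictly increasing, with an upper bound on the entries -/
def strictInc (B : ℕ) : List ℕ → Bool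
  | [] => true
  | [a] => Nat.blt a B
  | a :: b :: l => Nat.blt a b && strictInc B (b :: l)

theorem strictInc_spec (B : ℕ) : ∀ l : List ℕ, strictInc B l = true →
    l.Pairwise (· < ·) ∧ ∀ a ∈ l, a < B
  | [], _ => ⟨List.Pairwise.nil, by simp⟩
  | [a], h => by
    unfold strictInc at h
    have : a < B := by simpa [Nat.blt_eq] using h
    exact ⟨List.pairwise_singleton _ _, by simpa using this⟩
  | a :: b :: l, h => by
    unfold strictInc at h
    rw [Bool.and_eq_true] at h
    have hab : a < b := by simpa [Nat.blt_eq] using h.1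
    obtain ⟨hp, hB⟩ := strictInc_spec B (b :: l) h.2
    refine ⟨?_, ?_⟩
    · rw [List.pairwise_cons]
      refine ⟨?_, hp⟩
      intro c hc
      rcases List.mem_cons.mp hc with rfl | hc
      · exact hab
      · exact lt_trans hab ((List.pairwise_cons.mp hp).1 c hc)
    · intro c hc
      rcases List.mem_cons.mp hc with rfl | hc
      · exact lt_trans hab (hB b List.mem_cons_self)
      · exact hB c hc

/-! ### Counting -/

theorem trans_of_key {H : Subgroup (Equiv.Perm leechLattice)} {x0 : leechLattice}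
    {V : Set (GolayPt → ℤ)} (key : ∀ y ∈ V, ∃ g ∈ H, (g x0).1 = y) {a b : leechLattice}
    (ha : a.1 ∈ V) (hb : b.1 ∈ V) : ∃ g ∈ H, g a = b := by
  obtain ⟨g1, hg1, e1⟩ := key a.1 ha
  obtain ⟨g2, hg2, e2⟩ := key b.1 hb
  refine ⟨g2 * g1⁻¹, H.mul_mem hg2 (H.inv_mem hg1), ?_⟩
  have e1' : g1 x0 = a := Subtype.ext e1
  have e2' : g2 x0 = b := Subtype.ext e2
  rw [← e1', ← e2']
  simp

theorem orbit_full (H : Subgroup (Equiv.Perm leechLattice)) (x0 : leechLattice)
    (V : Set (GolayPt → ℤ)) (N : ℕ) (hN : V.ncard = N) (hNpos : 0 < N)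
    (hV : ∀ g ∈ H, (g x0).1 ∈ V)
    (S : List ℕ) (hS : ∀ k ∈ S, RK H x0 k) (hinc : strictInc (16 ^ 24) S = true)
    (hlen : S.length = N) : ∀ y ∈ V, ∃ g ∈ H, (g x0).1 = y := by
  obtain ⟨hp, hB⟩ := strictInc_spec _ S hinc
  have hfin : V.Finite := Set.finite_of_ncard_pos (by omega)
  have hnd : (S.map vecK).Nodup := by
    rw [List.nodup_map_iff_inj_on (hp.imp (fun h => ne_of_lt h))]
    intro a ha b hb hab
    exact vecK_injOn (hB a ha) (hB b hb) hab
  set T : Set (GolayPt → ℤ) := {y | y ∈ S.map vecK} with hT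
  have hTV : T ⊆ V := by
    intro y hy
    obtain ⟨k, hk, rfl⟩ := List.mem_map.mp hy
    obtain ⟨_, g, hg, hgk⟩ := hS k hk
    rw [← hgk]
    exact hV g hg
  have hTcard : T.ncard = N := by
    have : T = (↑(S.map vecK).toFinset : Set (GolayPt → ℤ)) := by
      ext y; simp [hT]
    rw [this, Set.ncard_coe_finset, List.toFinset_card_of_nodup hnd, List.length_map, hlen]
  have hEq : T = V := Set.eq_of_subset_of_ncard_le hTV (by rw [hN, hTcard]) hfin
  intro y hy
  rw [← hEq] at hy
  obtain ⟨k, hk, rfl⟩ := List.mem_map.mp hy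
  exact (hS k hk).2


/-! ### Checked monomial generators -/

/-- the map of points given by a table of indices -/
def tabFun (l : List ℕ) (p : GolayPt) : GolayPt := Helper7.pt (l.getD (Helper7.idx p) 0)

/-- all conditions on a monomial generator: `l`, `linv` mutually inverse tables of a permutation in
the group of the code, `cm` the mask of a code word, `tab` the combined table -/
def monoOK (l linv : List ℕ) (cm : ℕ) (tab : List ℕ) : Bool :=
  (List.range 24).all (fun i => Nat.blt (l.getD i 0) 24 && Nat.blt (linv.getD i 0) 24 &&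
    Nat.beq (linv.getD (l.getD i 0) 0) i && Nat.beq (l.getD (linv.getD i 0) 0) i &&
    Nat.beq (tab.getD i 0) (2 * linv.getD i 0 + (if cm.testBit i then 1 else 0))) &&
  (List.range 23).all (fun j => Nat.beq (encMask (permMask l (genMask j))) (permMask l (genMask j))) &&
  Nat.beq (encMask cm) cm && Nat.blt cm (2 ^ 24) && Nat.beq tab.length 24

theorem monoOK_spec {l linv : List ℕ} {cm : ℕ} {tab : List ℕ} (h : monoOK l linv cm tab = true) :
    ∃ g ∈ Co0, ImplK g (monoK tab) ∧ ImplL g (monoL tab) := by
  unfold monoOK at h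
  simp only [Bool.and_eq_true, List.all_eq_true, List.mem_range, Nat.beq_eq, Nat.blt_eq] at h
  obtain ⟨⟨⟨⟨h1, h2⟩, h3⟩, h4⟩, h5⟩ := h
  have e1 : ∀ p, tabFun linv (tabFun l p) = p := by
    intro p
    obtain ⟨⟨⟨⟨a, _⟩, b⟩, _⟩, _⟩ := h1 (Helper7.idx p) (Helper7.idx_lt p)
    unfold tabFun
    rw [Helper7.idx_pt _ a, b, Helper7.pt_idx]
  have e2 : ∀ p, tabFun l (tabFun linv p) = p := by
    intro p
    obtain ⟨⟨⟨⟨_, a⟩, _⟩, b⟩, _⟩ := h1 (Helper7.idx p) (Helper7.idx_lt p)
    unfold tabFun
    rw [Helper7.idx_pt _ a, b, Helper7.pt_idx]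
  set σ : Equiv.Perm GolayPt := ⟨tabFun l, tabFun linv, e1, e2⟩ with hσdef
  have htab : Tab σ l := by
    intro p
    obtain ⟨⟨⟨⟨a, _⟩, _⟩, _⟩, _⟩ := h1 (Helper7.idx p) (Helper7.idx_lt p)
    show Helper7.idx (Helper7.pt (l.getD (Helper7.idx p) 0)) = _
    exact Helper7.idx_pt _ a
  have hσ : σ ∈ M24 := mem_M24_of_tab htab h2
  have hc : ofMask cm ∈ Helper92.Code := (ofMask_mem_iff cm h4).mpr h3
  have ht : ∀ p : GolayPt, tab.getD (Helper7.idx p) 0 =
      2 * Helper7.idx (σ.symm p) + (if p ∈ ofMask cm then 1 else 0) := by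
    intro p
    obtain ⟨⟨⟨⟨_, a⟩, _⟩, _⟩, b⟩ := h1 (Helper7.idx p) (Helper7.idx_lt p)
    rw [b]
    have : Helper7.idx (σ.symm p) = linv.getD (Helper7.idx p) 0 := by
      show Helper7.idx (Helper7.pt (linv.getD (Helper7.idx p) 0)) = _
      exact Helper7.idx_pt _ a
    rw [this]
    congr 1
    by_cases hb : cm.testBit (Helper7.idx p) = true
    · rw [if_pos hb, if_pos ((mem_ofMask cm p).mpr hb)]
    · rw [if_neg hb, if_neg (fun hh => hb ((mem_ofMask cm p).mp hh))]
  exact ⟨monoPerm σ (ofMask cm) hσ hc, monoPerm_mem σ (ofMask cm) hσ hc,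
    implK_mono hσ hc tab h5 ht, implL_mono hσ hc tab h5 ht⟩

/-- an implemented automorphism fixes a packed vector if the computation says so -/
theorem fix_of_implKey {g : Equiv.Perm leechLattice} {F : ℕ → Option ℕ} (h : ImplKey g F)
    (x : leechLattice) (k : ℕ) (hk : goodKey k) (hx : x.1 = vecK k) (hF : F k = some k) : g x = x := by
  apply Subtype.ext
  rw [(h k k x hk hx hF).1, hx]

/-! ### The certificate -/

/-- the full check: run the machine, sort the emitted keys, check that they are strictly increasing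
below `16 ^ 24` and that there are `N` of them -/
def certOK (gens : List (ℕ → Option ℕ)) (prog : List ℕ) (k0 N fuel rounds : ℕ) : Bool :=
  goodKeyB k0 &&
  match runK gens prog [k0] [k0] with
  | some E => strictInc (16 ^ 24) (msort fuel rounds E) && Nat.beq (msort fuel rounds E).length N
  | none => false

theorem cert_trans (H : Subgroup (Equiv.Perm leechLattice)) (x0 : leechLattice) (k0 : ℕ)
    (hx0 : x0.1 = vecK k0) (gens : List (ℕ → Option ℕ)) (hg : ∀ F ∈ gens, ∃ g ∈ H, ImplKey g F)
    (prog : List ℕ) (N fuel rounds : ℕ) (V : Set (GolayPt → ℤ)) (hN : V.ncard = N) (hNpos : 0 < N)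
    (hV : ∀ g ∈ H, (g x0).1 ∈ V) (hc : certOK gens prog k0 N fuel rounds = true) :
    ∀ y ∈ V, ∃ g ∈ H, (g x0).1 = y := by
  unfold certOK at hc
  rw [Bool.and_eq_true] at hc
  obtain ⟨hgood, hc⟩ := hc
  cases hE : runK gens prog [k0] [k0] with
  | none => rw [hE] at hc; simp at hc
  | some E =>
    rw [hE] at hc
    simp only [Bool.and_eq_true, Nat.beq_eq] at hc
    have h0 : ∀ k ∈ [k0], RK H x0 k := by
      intro k hk
      rw [List.mem_singleton.mp hk]
      exact ⟨goodKeyB_spec hgood, 1, H.one_mem, hx0⟩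
    have hE' := runK_sound gens hg prog [k0] [k0] E h0 h0 hE
    exact orbit_full H x0 V N hN hNpos hV (msort fuel rounds E)
      (fun k hk => hE' k (mem_msort _ _ _ _ hk)) hc.1 hc.2

/-! ### Norms and inner products of explicit vectors -/

theorem sqNorm_vecOf (l : List ℤ) :
    sqNorm (vecOf l) = ((List.range 24).map fun j => (l.getD j 0) ^ 2).sum := by
  unfold sqNorm
  rw [sum_allPts]
  unfold allPts
  rw [List.map_map]
  refine congrArg List.sum (List.map_congr_left ?_)
  intro j hj
  simp only [Function.comp_apply]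
  unfold vecOf
  rw [Helper7.idx_pt j (List.mem_range.mp hj)]

theorem dotInt_vecOf (l l' : List ℤ) :
    dotInt (vecOf l) (vecOf l') = ((List.range 24).map fun j => l.getD j 0 * l'.getD j 0).sum := by
  unfold dotInt
  rw [sum_allPts]
  unfold allPts
  rw [List.map_map]
  refine congrArg List.sum (List.map_congr_left ?_)
  intro j hj
  simp only [Function.comp_apply]
  unfold vecOf
  rw [Helper7.idx_pt j (List.mem_range.mp hj)]

/-- norm of a packed vector, computably -/
def normK (k : ℕ) : ℤ := ((List.range 24).map fun j => (coordK k j) ^ 2).sum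

/-- inner product of packed vectors, computably -/
def dotK (k k' : ℕ) : ℤ := ((List.range 24).map fun j => coordK k j * coordK k' j).sum

theorem getD_unpackL (k j : ℕ) (hj : j < 24) : (unpackL k).getD j 0 = coordK k j := by
  unfold unpackL
  rw [getD_map_of_lt _ (List.range 24) j (by simpa using hj) 0 0]
  congr 1
  rw [List.getD_eq_getElem _ _ (by simpa using hj)]
  simp

theorem sqNorm_vecK (k : ℕ) : sqNorm (vecK k) = normK k := by
  rw [← vecOf_unpackL, sqNorm_vecOf]
  unfold normK
  refine congrArg List.sum (List.map_congr_left ?_)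
  intro j hj
  rw [getD_unpackL k j (List.mem_range.mp hj)]

theorem dotInt_vecK (k k' : ℕ) : dotInt (vecK k) (vecK k') = dotK k k' := by
  rw [← vecOf_unpackL, ← vecOf_unpackL, dotInt_vecOf]
  unfold dotK
  refine congrArg List.sum (List.map_congr_left ?_)
  intro j hj
  rw [getD_unpackL k j (List.mem_range.mp hj), getD_unpackL k' j (List.mem_range.mp hj)]

/-- lattice membership of a packed vector via the certificate check of `vecOf_mem` -/
theorem vecK_mem (k e s : ℕ) (h : latOK (unpackL k) e s = true) : vecK k ∈ leechLattice := by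
  rw [← vecOf_unpackL]
  exact vecOf_mem _ e s h


/-! ### Stabilisers of lists of vectors, and composite generators -/

/-- the automorphisms fixing each vector of the list `B` -/
def fixH (B : List leechLattice) : Subgroup (Equiv.Perm leechLattice) where
  carrier := {g | g ∈ Co0 ∧ ∀ b ∈ B, g b = b}
  one_mem' := ⟨Co0.one_mem, fun _ _ => rfl⟩
  mul_mem' := fun {a c} ha hc => ⟨Co0.mul_mem ha.1 hc.1, fun b hb => by
    rw [Equiv.Perm.mul_apply, hc.2 b hb, ha.2 b hb]⟩
  inv_mem' := fun {a} ha => ⟨Co0.inv_mem ha.1, fun b hb => by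
    rw [Equiv.Perm.inv_eq_iff_eq]; exact (ha.2 b hb).symm⟩

theorem mem_fixH {B : List leechLattice} {g : Equiv.Perm leechLattice} :
    g ∈ fixH B ↔ g ∈ Co0 ∧ ∀ b ∈ B, g b = b := Iff.rfl

theorem mem_fixH_of_impl {B : List leechLattice} {g : Equiv.Perm leechLattice} {F : ℕ → Option ℕ}
    (hg : g ∈ Co0) (h : ImplKey g F)
    (hB : ∀ b ∈ B, ∃ k, goodKeyB k = true ∧ b.1 = vecK k ∧ F k = some k) : g ∈ fixH B := by
  refine ⟨hg, fun b hb => ?_⟩
  obtain ⟨k, hgk, hk, hF⟩ := hB b hb
  exact fix_of_implKey h b k (goodKeyB_spec hgk) hk hF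

theorem fixH_norm {B : List leechLattice} {g : Equiv.Perm leechLattice} (hg : g ∈ fixH B)
    (x : leechLattice) : sqNorm (g x).1 = sqNorm x.1 := hg.1.2 x

theorem fixH_dot {B : List leechLattice} {g : Equiv.Perm leechLattice} (hg : g ∈ fixH B)
    {b : leechLattice} (hb : b ∈ B) (x : leechLattice) : dotInt b.1 (g x).1 = dotInt b.1 x.1 := by
  have := co0_dot g hg.1 b x
  rwa [hg.2 b hb] at this

/-- primitive operations on lists of coordinates -/
inductive LOp
  | mono (l linv : List ℕ) (cm : ℕ) (tab : List ℕ)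
  | xi

/-- the function of a primitive operation -/
def LOp.fn : LOp → List ℤ → List ℤ
  | .mono _ _ _ tab => monoL tab
  | .xi => xiL

/-- the validity check of a primitive operation -/
def LOp.ok : LOp → Bool
  | .mono l linv cm tab => monoOK l linv cm tab
  | .xi => true

/-- the function of a word of primitive operations (applied from left to right) -/
def wordFn : List LOp → List ℤ → List ℤ
  | [], l => l
  | op :: w, l => wordFn w (op.fn l)

theorem LOp.impl (op : LOp) (h : op.ok = true) : ∃ g ∈ Co0, ImplL g op.fn := by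
  cases op with
  | mono l linv cm tab =>
    obtain ⟨g, hg, _, hL⟩ := monoOK_spec (l := l) (linv := linv) (cm := cm) (tab := tab) h
    exact ⟨g, hg, hL⟩
  | xi => exact ⟨xiPerm, xiPerm_mem, implL_xi⟩

theorem word_impl : ∀ (w : List LOp), w.all LOp.ok = true → ∃ g ∈ Co0, ImplL g (wordFn w)
  | [], _ => ⟨1, Co0.one_mem, implL_one⟩
  | op :: w, h => by
    rw [List.all_cons, Bool.and_eq_true] at h
    obtain ⟨g1, hg1, h1⟩ := op.impl h.1
    obtain ⟨g2, hg2, h2⟩ := word_impl w h.2
    exact ⟨g2 * g1, Co0.mul_mem hg2 hg1, h1.comp h2⟩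

theorem monoOK_lt {l linv : List ℕ} {cm : ℕ} {tab : List ℕ} (h : monoOK l linv cm tab = true) :
    tab.length = 24 ∧ ∀ e ∈ tab, e < 48 := by
  unfold monoOK at h
  simp only [Bool.and_eq_true, List.all_eq_true, List.mem_range, Nat.beq_eq, Nat.blt_eq] at h
  obtain ⟨⟨⟨⟨h1, _⟩, _⟩, _⟩, h5⟩ := h
  refine ⟨h5, fun e he => ?_⟩
  obtain ⟨i, hi, rfl⟩ := List.mem_iff_getElem.mp he
  rw [h5] at hi
  obtain ⟨⟨⟨⟨_, a⟩, _⟩, _⟩, b⟩ := h1 i hi
  rw [List.getD_eq_getElem _ _ (by rw [h5]; exact hi)] at b
  rw [b]
  split_ifs <;> omega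

theorem implKey_mono {l linv : List ℕ} {cm : ℕ} {tab : List ℕ}
    (h : monoOK l linv cm tab = true) :
    ∃ g ∈ Co0, ImplKey g (fun k => some (monoKey tab k)) := by
  obtain ⟨g, hg, hK, _⟩ := monoOK_spec h
  obtain ⟨hlen, hlt⟩ := monoOK_lt h
  refine ⟨g, hg, ?_⟩
  intro k k' x hk hx hF
  obtain ⟨h1, h2⟩ := monoKey_spec tab hlen hlt k hk
  rw [← Option.some.inj hF]
  exact ⟨by rw [hK k x hx, h1], h2⟩

theorem mono_gen {B : List leechLattice} {l linv : List ℕ} {cm : ℕ} {tab : List ℕ}
    (h : monoOK l linv cm tab = true)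
    (hB : ∀ b ∈ B, ∃ k, goodKeyB k = true ∧ b.1 = vecK k ∧ monoKey tab k = k) :
    ∃ g ∈ fixH B, ImplKey g (fun k => some (monoKey tab k)) := by
  obtain ⟨g, hg, hK⟩ := implKey_mono h
  refine ⟨g, mem_fixH_of_impl hg hK (fun b hb => ?_), hK⟩
  obtain ⟨k, h1, h2, h3⟩ := hB b hb
  exact ⟨k, h1, h2, by rw [h3]⟩

theorem word_gen {B : List leechLattice} (w : List LOp) (hok : w.all LOp.ok = true)
    (hB : ∀ b ∈ B, ∃ k, goodKeyB k = true ∧ b.1 = vecK k ∧
      packChk (wordFn w (unpackL k)) = some k) :
    ∃ g ∈ fixH B, ImplKey g (fun k => packChk (wordFn w (unpackL k))) := by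
  obtain ⟨g, hg, hL⟩ := word_impl w hok
  exact ⟨g, mem_fixH_of_impl hg hL.toK.toKey hB, hL.toK.toKey⟩

end Cfsg.Agent.Helper26
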