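import Mathlib
import Cfsg.Agent.Lib.Helper26.LeechOrb

/-!
# Orbit certificates in several parts

The certificate of `LeechOrb` split into parts that are checked separately (each part walks some
subtrees of the spanning tree, after silently walking down from the root) and merged at the end.
-/

set_option autoImplicit false

namespace Cfsg.Agent.Helper26.LOP
open Cfsg Cfsg.Agent.Helper7 Cfsg.Agent.Helper26

/-- The stack machine with silent pushes: a code `c` that is the index of a generator applies it
to the top of the stack, pushes and emits the result; otherwise, if `c - n` is the index of a
generator, it applies it and pushes without emitting; any other code pops the stack. -/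
def runP (gens : List (ℕ → Option ℕ)) (n : ℕ) : List ℕ → List ℕ → List ℕ → Option (List ℕ)
  | [], _, out => some out
  | c :: prog, stack, out =>
    match gens[c]? with
    | some F =>
      match stack with
      | [] => none
      | top :: rest =>
        match F top with
        | some (k' + 1) => runP gens n prog ((k' + 1) :: top :: rest) ((k' + 1) :: out)
        | _ => none
    | none =>
      match gens[Nat.sub c n]? with
      | some F =>
        match stack with
        | [] => none
        | top :: rest =>
          match F top with
          | some (k' + 1) => runP gens n prog ((k' + 1) :: top :: rest) out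
          | _ => none
      | none =>
        match stack with
        | [] => none
        | _ :: rest => runP gens n prog rest out

theorem runP_sound {H : Subgroup (Equiv.Perm leechLattice)} {x0 : leechLattice}
    (gens : List (ℕ → Option ℕ)) (n : ℕ) (hg : ∀ F ∈ gens, ∃ g ∈ H, ImplKey g F) :
    ∀ (prog stack out res : List ℕ), (∀ k ∈ stack, RK H x0 k) → (∀ k ∈ out, RK H x0 k) →
      runP gens n prog stack out = some res → ∀ k ∈ res, RK H x0 k := by
  intro prog
  induction prog with
  | nil =>
    intro stack out res _ ho h
    unfold runP at h
    rw [← Option.some.inj h]
    exact ho
  | cons c prog ih =>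
    intro stack out res hs ho h
    unfold runP at h
    cases hF : gens[c]? with
    | some F =>
      rw [hF] at h
      cases stack with
      | nil => simp at h
      | cons top rest =>
        simp only at h
        cases hk : F top with
        | none => rw [hk] at h; simp at h
        | some k1 =>
          rw [hk] at h
          cases k1 with
          | zero => simp at h
          | succ k' =>
            simp only at h
            have hFm : F ∈ gens := List.mem_of_getElem? hF
            have hk' : RK H x0 (k' + 1) :=
              step_sound (hg F hFm) (hs top (List.mem_cons_self)) hk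
            refine ih _ _ _ ?_ ?_ h
            · intro k hkm
              rcases List.mem_cons.mp hkm with rfl | hkm
              · exact hk'
              · exact hs k hkm
            · intro k hkm
              rcases List.mem_cons.mp hkm with rfl | hkm
              · exact hk'
              · exact ho k hkm
    | none =>
      rw [hF] at h
      simp only at h
      cases hF2 : gens[Nat.sub c n]? with
      | some F =>
        rw [hF2] at h
        cases stack with
        | nil => simp at h
        | cons top rest =>
          simp only at h
          cases hk : F top with
          | none => rw [hk] at h; simp at h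
          | some k1 =>
            rw [hk] at h
            cases k1 with
            | zero => simp at h
            | succ k' =>
              simp only at h
              have hFm : F ∈ gens := List.mem_of_getElem? hF2
              have hk' : RK H x0 (k' + 1) :=
                step_sound (hg F hFm) (hs top (List.mem_cons_self)) hk
              refine ih _ _ _ ?_ ho h
              intro k hkm
              rcases List.mem_cons.mp hkm with rfl | hkm
              · exact hk'
              · exact hs k hkm
      | none =>
        rw [hF2] at h
        cases stack with
        | nil => simp at h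
        | cons top rest =>
          simp only at h
          exact ih _ _ _ (fun k hk => hs k (List.mem_cons_of_mem _ hk)) ho h

/-- decoding a list of `n` digits in base `B` from a single number -/
def decodeList (B : ℕ) : ℕ → ℕ → List ℕ
  | 0, _ => []
  | n + 1, K => Nat.mod K B :: decodeList B n (Nat.div K B)

/-- boolean equality of lists of natural numbers -/
def listBeq : List ℕ → List ℕ → Bool
  | [], [] => true
  | a :: l, b :: l' => Nat.beq a b && listBeq l l'
  | _, _ => false

theorem listBeq_spec : ∀ (l l' : List ℕ), listBeq l l' = true → l = l'
  | [], [], _ => rfl
  | a :: l, b :: l', h => by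
    unfold listBeq at h
    rw [Bool.and_eq_true, Nat.beq_eq] at h
    rw [h.1, listBeq_spec l l' h.2]
  | [], _ :: _, h => by simp [listBeq] at h
  | _ :: _, [], h => by simp [listBeq] at h

/-- check of one part: the sorted list of emitted keys is `S` -/
def partOK (gens : List (ℕ → Option ℕ)) (n : ℕ) (prog : List ℕ) (k0 : ℕ) (out0 : List ℕ)
    (fuel rounds : ℕ) (S : List ℕ) : Bool :=
  match runP gens n prog [k0] out0 with
  | some E => listBeq (msort fuel rounds E) S
  | none => false

theorem part_sound {H : Subgroup (Equiv.Perm leechLattice)} {x0 : leechLattice} {k0 : ℕ}
    (hk0 : RK H x0 k0) (gens : List (ℕ → Option ℕ)) (n : ℕ)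
    (hg : ∀ F ∈ gens, ∃ g ∈ H, ImplKey g F) (prog out0 : List ℕ) (ho : ∀ k ∈ out0, RK H x0 k)
    (fuel rounds : ℕ) (S : List ℕ) (h : partOK gens n prog k0 out0 fuel rounds S = true) :
    ∀ k ∈ S, RK H x0 k := by
  unfold partOK at h
  cases hE : runP gens n prog [k0] out0 with
  | none => rw [hE] at h; simp at h
  | some E =>
    rw [hE] at h
    simp only at h
    have h0 : ∀ k ∈ [k0], RK H x0 k := by
      intro k hk
      rw [List.mem_singleton.mp hk]
      exact hk0
    have hE' := runP_sound gens n hg prog [k0] out0 E h0 ho hE
    rw [← listBeq_spec _ _ h]
    exact fun k hk => hE' k (mem_msort _ _ _ _ hk)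

/-- the final check: the merged parts are strictly increasing and there are `N` keys -/
def finalOK (parts : List (List ℕ)) (N fuel rounds : ℕ) : Bool :=
  strictInc (16 ^ 24) (msortAux fuel rounds parts) &&
    Nat.beq (msortAux fuel rounds parts).length N

theorem final_trans (H : Subgroup (Equiv.Perm leechLattice)) (x0 : leechLattice)
    (V : Set (GolayPt → ℤ)) (N : ℕ) (hN : V.ncard = N) (hNpos : 0 < N)
    (hV : ∀ g ∈ H, (g x0).1 ∈ V) (parts : List (List ℕ))
    (hparts : ∀ S ∈ parts, ∀ k ∈ S, RK H x0 k) (fuel rounds : ℕ)
    (hc : finalOK parts N fuel rounds = true) : ∀ y ∈ V, ∃ g ∈ H, (g x0).1 = y := by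
  unfold finalOK at hc
  simp only [Bool.and_eq_true, Nat.beq_eq] at hc
  refine orbit_full H x0 V N hN hNpos hV (msortAux fuel rounds parts) ?_ hc.1 hc.2
  intro k hk
  obtain ⟨S, hS, hkS⟩ := mem_msortAux fuel rounds parts k hk
  exact hparts S hS k hkS

theorem rk_base {H : Subgroup (Equiv.Perm leechLattice)} {x0 : leechLattice} {k0 : ℕ}
    (hx0 : x0.1 = vecK k0) (hgood : goodKeyB k0 = true) : RK H x0 k0 :=
  ⟨goodKeyB_spec hgood, 1, H.one_mem, hx0⟩

end Cfsg.Agent.Helper26.LOP
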