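import Mathlib
import Cfsg.Agent.Lib.Helper26.LeechOrbP
import Cfsg.Agent.Lib.Helper7.Census32

/-! Data and generators for the certificate of S1575 -/

set_option autoImplicit false

namespace Cfsg.Agent.Helper26.LO1575
open Cfsg Cfsg.Agent.Helper7 Cfsg.Agent.Helper26 Cfsg.Agent.Helper26.LOP

/-- packed base vector -/
def kv0 : ℕ := 42255020007607646716556773580

/-- packed start vector -/
def kx0 : ℕ := 42255020007616689108775773800

/-- generator data 0 -/
def gl0 : List ℕ := [0, 1, 15, 7, 23, 14, 20, 4, 10, 6, 8, 3, 5, 19, 2, 21, 13, 22, 11, 16, 9, 12, 17, 18]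

/-- generator data 0 -/
def gi0 : List ℕ := [0, 1, 14, 11, 7, 12, 9, 3, 10, 20, 8, 18, 21, 16, 5, 2, 19, 22, 23, 13, 6, 15, 17, 4]

/-- generator data 0 -/
def gt0 : List ℕ := [0, 2, 28, 22, 14, 24, 18, 6, 20, 40, 16, 36, 42, 32, 10, 4, 38, 44, 46, 26, 12, 30, 34, 8]

theorem gok0 : monoOK gl0 gi0 0 gt0 = true := by decide +kernel

/-- generator data 1 -/
def gl1 : List ℕ := [0, 1, 21, 2, 11, 13, 19, 15, 22, 23, 17, 7, 4, 12, 18, 8, 10, 3, 9, 5, 16, 14, 6, 20]

/-- generator data 1 -/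
def gi1 : List ℕ := [0, 1, 3, 17, 12, 19, 22, 11, 15, 18, 16, 4, 13, 5, 21, 7, 20, 10, 14, 6, 23, 2, 8, 9]

/-- generator data 1 -/
def gt1 : List ℕ := [0, 2, 6, 34, 24, 38, 44, 22, 30, 36, 32, 8, 26, 10, 42, 14, 40, 20, 28, 12, 46, 4, 16, 18]

theorem gok1 : monoOK gl1 gi1 0 gt1 = true := by decide +kernel

/-- generator data 2 -/
def gl2 : List ℕ := [0, 1, 4, 14, 6, 9, 10, 2, 22, 23, 20, 18, 8, 16, 15, 11, 5, 13, 17, 12, 19, 7, 21, 3]

/-- generator data 2 -/
def gi2 : List ℕ := [0, 1, 7, 23, 2, 16, 4, 21, 12, 5, 6, 15, 19, 17, 3, 14, 13, 18, 11, 20, 10, 22, 8, 9]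

/-- generator data 2 -/
def gt2 : List ℕ := [0, 2, 14, 46, 4, 32, 8, 42, 24, 10, 12, 30, 38, 34, 6, 28, 26, 36, 22, 40, 20, 44, 16, 18]

theorem gok2 : monoOK gl2 gi2 0 gt2 = true := by decide +kernel

/-- generator data 3 -/
def gl3 : List ℕ := [0, 1, 2, 3, 4, 5, 6, 7, 8, 9, 10, 11, 12, 13, 14, 15, 16, 17, 18, 19, 20, 21, 22, 23]

/-- generator data 3 -/
def gi3 : List ℕ := [0, 1, 2, 3, 4, 5, 6, 7, 8, 9, 10, 11, 12, 13, 14, 15, 16, 17, 18, 19, 20, 21, 22, 23]

/-- generator data 3 -/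
def gt3 : List ℕ := [0, 2, 5, 7, 8, 10, 12, 14, 16, 18, 20, 22, 24, 26, 28, 31, 32, 35, 36, 39, 41, 43, 44, 47]

theorem gok3 : monoOK gl3 gi3 12222476 gt3 = true := by decide +kernel

/-- generator data 4 -/
def gl4 : List ℕ := [23, 22, 0, 8, 12, 19, 16, 4, 18, 11, 10, 5, 20, 15, 14, 7, 21, 9, 6, 13, 17, 2, 3, 1]

/-- generator data 4 -/
def gi4 : List ℕ := [2, 23, 21, 22, 7, 11, 18, 15, 3, 17, 10, 9, 4, 19, 14, 13, 6, 20, 8, 5, 12, 16, 1, 0]

/-- generator data 4 -/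
def gt4 : List ℕ := [4, 46, 42, 44, 14, 22, 36, 30, 6, 34, 20, 18, 8, 38, 28, 26, 12, 40, 16, 10, 24, 32, 2, 0]

theorem gok4 : monoOK gl4 gi4 0 gt4 = true := by decide +kernel

/-- the base vector -/
def v0 : leechLattice := ⟨vecK kv0, vecK_mem kv0 0 0 (by decide +kernel)⟩

/-- the start vector -/
def x0 : leechLattice := ⟨vecK kx0, vecK_mem kx0 0 10558 (by decide +kernel)⟩

/-- the composite generator -/
def etaW : List LOp := [LOp.xi, LOp.mono gl4 gi4 0 gt4]

/-- the generators -/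
def gens : List (ℕ → Option ℕ) := [fun k => some (monoKey gt0 k), fun k => some (monoKey gt1 k), fun k => some (monoKey gt2 k), fun k => some (monoKey gt3 k), fun k => packChk (wordFn etaW (unpackL k))]

theorem hgens : ∀ F ∈ gens, ∃ g ∈ fixH [v0], ImplKey g F := by
  intro F hF
  simp only [gens, List.mem_cons, List.not_mem_nil, or_false] at hF
  rcases hF with rfl | rfl | rfl | rfl | rfl
  · exact mono_gen gok0 (fun b hb => by
      rw [List.mem_singleton.mp hb]; exact ⟨kv0, by decide +kernel, rfl, by decide +kernel⟩)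
  · exact mono_gen gok1 (fun b hb => by
      rw [List.mem_singleton.mp hb]; exact ⟨kv0, by decide +kernel, rfl, by decide +kernel⟩)
  · exact mono_gen gok2 (fun b hb => by
      rw [List.mem_singleton.mp hb]; exact ⟨kv0, by decide +kernel, rfl, by decide +kernel⟩)
  · exact mono_gen gok3 (fun b hb => by
      rw [List.mem_singleton.mp hb]; exact ⟨kv0, by decide +kernel, rfl, by decide +kernel⟩)
  · exact word_gen etaW (by simp only [etaW, List.all_cons, List.all_nil, LOp.ok, gok4, Bool.and_self]) (fun b hb => by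
      rw [List.mem_singleton.mp hb]; exact ⟨kv0, by decide +kernel, rfl, by decide +kernel⟩)

theorem rkBase : RK (fixH [v0]) x0 kx0 := rk_base rfl (by decide +kernel)

theorem v0_norm : sqNorm v0.1 = 32 := by
  show sqNorm (vecK kv0) = 32
  rw [sqNorm_vecK]; decide +kernel

theorem x0_norm : sqNorm x0.1 = 32 := by
  show sqNorm (vecK kx0) = 32
  rw [sqNorm_vecK]; decide +kernel

theorem x0_dot : dotInt v0.1 x0.1 = -8 := by
  show dotInt (vecK kv0) (vecK kx0) = -8
  rw [dotInt_vecK]; decide +kernel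

end Cfsg.Agent.Helper26.LO1575
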