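import Mathlib
import Cfsg.Agent.Lib.Helper26.LO1580Base
import Cfsg.Agent.Lib.Helper7.Co0Trans48
import Cfsg.Agent.S1578
import Cfsg.Agent.S1579

/-! The McLaughlin configuration at the base vectors: the 552 summands explicitly, the 275 points -/

set_option autoImplicit false

namespace Cfsg.Agent.Helper26.LO1580
open Cfsg Cfsg.Agent.Helper7 Cfsg.Agent.Helper26 Cfsg.Agent.Helper26.LOP Cfsg.Agent.Helper26.LOX

theorem sqNorm_sub' (a b : GolayPt → ℤ) :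
    sqNorm (a - b) = sqNorm a + sqNorm b - 2 * dotInt a b := by
  unfold sqNorm dotInt
  rw [Finset.mul_sum, ← Finset.sum_add_distrib, ← Finset.sum_sub_distrib]
  apply Finset.sum_congr rfl
  intro i _
  simp only [Pi.sub_apply]
  ring

/-- the sum of the base vectors -/
def u0 : leechLattice := v0 + w0

theorem u0_val : u0.1 = vecK ku0 := by
  show v0.1 + w0.1 = vecK ku0
  exact (addKeyOK_spec addU).symm

theorem base_facts' : normK kv0 = 32 ∧ normK kw0 = 32 ∧ normK ku0 = 48 ∧ normK kx0 = 32 ∧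
    dotK kv0 kw0 = -8 ∧ dotK kv0 kx0 = 16 ∧ dotK ku0 kx0 = 24 ∧ dotK kv0 kv0 = 32 := by
  have h := base_facts
  simp only [Bool.and_eq_true, decide_eq_true_eq] at h
  obtain ⟨⟨⟨⟨⟨⟨⟨h1, h2⟩, h3⟩, h4⟩, h5⟩, h6⟩, h7⟩, h8⟩ := h
  exact ⟨h1, h2, h3, h4, h5, h6, h7, h8⟩

theorem v0_norm : sqNorm v0.1 = 32 := by
  show sqNorm (vecK kv0) = 32
  rw [sqNorm_vecK]; exact base_facts'.1

theorem w0_norm : sqNorm w0.1 = 32 := by
  show sqNorm (vecK kw0) = 32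
  rw [sqNorm_vecK]; exact base_facts'.2.1

theorem u0_norm : sqNorm u0.1 = 48 := by
  rw [u0_val, sqNorm_vecK]; exact base_facts'.2.2.1

theorem x0_norm : sqNorm x0.1 = 32 := by
  show sqNorm (vecK kx0) = 32
  rw [sqNorm_vecK]; exact base_facts'.2.2.2.1

theorem dot_v0_x0 : dotInt v0.1 x0.1 = 16 := by
  show dotInt (vecK kv0) (vecK kx0) = 16
  rw [dotInt_vecK]; exact base_facts'.2.2.2.2.2.1

theorem dot_u0_x0 : dotInt u0.1 x0.1 = 24 := by
  rw [u0_val]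
  show dotInt (vecK ku0) (vecK kx0) = 24
  rw [dotInt_vecK]; exact base_facts'.2.2.2.2.2.2.1

theorem u0_sub_x0 : sqNorm (u0.1 - x0.1) = 32 := by
  rw [sqNorm_sub', u0_norm, x0_norm, dot_u0_x0]; norm_num

theorem H2_u0 {g : Equiv.Perm leechLattice} (hg : g ∈ H2) : g u0 = u0 := by
  unfold u0
  rw [hg.1.1, hg.2 v0 (by simp), hg.2 w0 (by simp)]

/-- the summands of `u0`, as integer vectors -/
def Vf : Set (GolayPt → ℤ) :=
  {y | y ∈ leechLattice ∧ sqNorm y = 32 ∧ sqNorm (u0.1 - y) = 32}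

theorem Vf_ncard : Vf.ncard = 552 := by
  rw [← Cfsg.Agent.S1578.result u0 u0_norm]
  exact (ncard_subtype (fun y => sqNorm y = 32 ∧ sqNorm (u0.1 - y) = 32)).symm

theorem mem_Vf_of_H2 {g : Equiv.Perm leechLattice} (hg : g ∈ H2) : (g x0).1 ∈ Vf := by
  refine ⟨(g x0).2, ?_, ?_⟩
  · rw [hg.1.2, x0_norm]
  · have h1 : u0.1 - (g x0).1 = (g (u0 - x0)).1 := by
      rw [co0_sub g hg.1, H2_u0 hg]; rfl
    rw [h1, hg.1.2]
    exact u0_sub_x0

theorem v0_mem_Vf : v0.1 ∈ Vf := by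
  refine ⟨v0.2, v0_norm, ?_⟩
  have : u0.1 - v0.1 = w0.1 := by
    show v0.1 + w0.1 - v0.1 = w0.1
    abel
  rw [this]; exact w0_norm

theorem w0_mem_Vf : w0.1 ∈ Vf := by
  refine ⟨w0.2, w0_norm, ?_⟩
  have : u0.1 - w0.1 = v0.1 := by
    show v0.1 + w0.1 - w0.1 = v0.1
    abel
  rw [this]; exact v0_norm

theorem sub_mem_Vf {y : GolayPt → ℤ} (hy : y ∈ Vf) : u0.1 - y ∈ Vf := by
  obtain ⟨h1, h2, h3⟩ := hy
  refine ⟨leechLattice.sub_mem u0.2 h1, h3, ?_⟩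
  have : u0.1 - (u0.1 - y) = y := by abel
  rw [this]; exact h2

theorem KX_mem_Vf {k : ℕ} (hk : k ∈ KX) : vecK k ∈ Vf := by
  obtain ⟨_, g, hg, e⟩ := rkX k hk
  rw [← e]
  exact mem_Vf_of_H2 hg

theorem KX2_spec {k : ℕ} (hk : k ∈ KX2) : ∃ k' ∈ KX, vecK k = u0.1 - vecK k' := by
  obtain ⟨p, hp, rfl⟩ := List.mem_map.mp hk
  have h := subX
  rw [List.all_eq_true] at h
  refine ⟨p.1, List.mem_map.mpr ⟨p, hp, rfl⟩, ?_⟩
  rw [subKeyOK_spec (h p hp), u0_val]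

theorem S552_cases {k : ℕ} (hk : k ∈ S552) : k = kv0 ∨ k = kw0 ∨ k ∈ KX ∨ k ∈ KX2 := by
  obtain ⟨l, hl, hkl⟩ := mem_msortAux 600 2 _ k hk
  simp only [List.mem_cons, List.not_mem_nil, or_false] at hl
  rcases hl with rfl | rfl | rfl | rfl
  · exact Or.inl (List.mem_singleton.mp hkl)
  · exact Or.inr (Or.inl (List.mem_singleton.mp hkl))
  · exact Or.inr (Or.inr (Or.inl hkl))
  · exact Or.inr (Or.inr (Or.inr (mem_msort _ _ _ _ hkl)))

theorem S552_mem {k : ℕ} (hk : k ∈ S552) : vecK k ∈ Vf := by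
  rcases S552_cases hk with rfl | rfl | h | h
  · exact v0_mem_Vf
  · exact w0_mem_Vf
  · exact KX_mem_Vf h
  · obtain ⟨k', hk', e⟩ := KX2_spec h
    rw [e]
    exact sub_mem_Vf (KX_mem_Vf hk')

theorem Vf_explicit : ∀ y ∈ Vf, ∃ k ∈ S552, y = vecK k := by
  have h := S552_ok
  rw [Bool.and_eq_true, Nat.beq_eq] at h
  exact explicit_set Vf 552 Vf_ncard (by norm_num) S552 (fun k hk => S552_mem hk) h.1 h.2

/-- the 275 points, as integer vectors -/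
def Xf : Set (GolayPt → ℤ) :=
  {y | y ∈ leechLattice ∧ sqNorm y = 32 ∧ sqNorm (u0.1 - y) = 32 ∧ dotInt v0.1 y = 16}

theorem Xf_iff (y : GolayPt → ℤ) : y ∈ Xf ↔ ∃ k ∈ KX, y = vecK k := by
  constructor
  · rintro ⟨h1, h2, h3, h4⟩
    obtain ⟨k, hk, rfl⟩ := Vf_explicit y ⟨h1, h2, h3⟩
    have hd : dotK kv0 k = 16 := by
      rw [← dotInt_vecK]; exact h4
    rcases S552_cases hk with rfl | rfl | h | h
    · rw [base_facts'.2.2.2.2.2.2.2] at hd; norm_num at hd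
    · rw [base_facts'.2.2.2.2.1] at hd; norm_num at hd
    · exact ⟨k, h, rfl⟩
    · have := KX2_dot
      rw [List.all_eq_true] at this
      have := this k h
      simp only [Bool.not_eq_true', decide_eq_false_iff_not] at this
      exact absurd hd this
  · rintro ⟨k, hk, rfl⟩
    obtain ⟨_, g, hg, e⟩ := rkX k hk
    obtain ⟨h1, h2, h3⟩ := KX_mem_Vf hk
    refine ⟨h1, h2, h3, ?_⟩
    rw [← e, fixH_dot hg (by simp : v0 ∈ [v0, w0]), dot_v0_x0]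

theorem KX_ok' : strictInc (16 ^ 24) KX = true ∧ KX.length = 275 := by
  have h := KX_ok
  rw [Bool.and_eq_true, Nat.beq_eq] at h
  exact h

theorem Xf_ncard : Xf.ncard = 275 := by
  have : Xf = {y : GolayPt → ℤ | ∃ k ∈ KX, y = vecK k} := by
    ext y; exact Xf_iff y
  rw [this, ncard_explicit KX KX_ok'.1, KX_ok'.2]

/-- the stabiliser of the base vectors is transitive on the 275 points -/
theorem Xf_reach {a : leechLattice} (ha : a.1 ∈ Xf) : ∃ g ∈ H2, g x0 = a := by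
  obtain ⟨k, hk, e⟩ := (Xf_iff a.1).mp ha
  obtain ⟨_, g, hg, e'⟩ := rkX k hk
  exact ⟨g, hg, Subtype.ext (by rw [e', e])⟩

theorem Xf_trans {a b : leechLattice} (ha : a.1 ∈ Xf) (hb : b.1 ∈ Xf) : ∃ g ∈ H2, g a = b := by
  obtain ⟨g1, hg1, e1⟩ := Xf_reach ha
  obtain ⟨g2, hg2, e2⟩ := Xf_reach hb
  refine ⟨g2 * g1⁻¹, H2.mul_mem hg2 (H2.inv_mem hg1), ?_⟩
  rw [← e1, ← e2]
  simp

/-- moving an arbitrary configuration to the base configuration -/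
theorem move_base (u v : leechLattice) (hu : sqNorm u.1 = 48) (hv : sqNorm v.1 = 32)
    (huv : sqNorm (u.1 - v.1) = 32) : ∃ g ∈ Co0, g u = u0 ∧ g v = v0 := by
  obtain ⟨g1, hg1, e1⟩ := co0_trans48 u u0 hu u0_norm
  have n1 : sqNorm ((g1 v : leechLattice) : GolayPt → ℤ) = 32 := by rw [hg1.2]; exact hv
  have n2 : sqNorm ((u0 - g1 v : leechLattice) : GolayPt → ℤ) = 32 := by
    rw [← e1, ← co0_sub g1 hg1, hg1.2]
    exact huv
  have n3 : sqNorm ((u0 - v0 : leechLattice) : GolayPt → ℤ) = 32 := v0_mem_Vf.2.2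
  obtain ⟨g2, hg2u, hg2v⟩ := Cfsg.Agent.S1579.result u0 (g1 v) v0 u0_norm ⟨n1, n2⟩ ⟨v0_norm, n3⟩
  refine ⟨g2.1 * g1, Co0.mul_mem g2.2 hg1, ?_, ?_⟩
  · rw [Equiv.Perm.mul_apply, e1]; exact hg2u
  · rw [Equiv.Perm.mul_apply]; exact hg2v

end Cfsg.Agent.Helper26.LO1580
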