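import Mathlib
import Cfsg.Agent.Lib.Helper26.LO1580Facts

/-! Generators and orbit certificates for the point stabiliser in the McLaughlin configuration (S1581) -/

set_option autoImplicit false

namespace Cfsg.Agent.Helper26.LO1581
open Cfsg Cfsg.Agent.Helper7 Cfsg.Agent.Helper26 Cfsg.Agent.Helper26.LOP Cfsg.Agent.Helper26.LOX Cfsg.Agent.Helper26.LO1580

/-- the stabiliser of the two base vectors and the base point -/
abbrev H3 : Subgroup (Equiv.Perm leechLattice) := fixH [v0, w0, x0]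

/-- generator data -/
def bl0 : List ℕ := [0, 1, 2, 5, 13, 11, 9, 15, 8, 19, 12, 4, 6, 3, 7, 22, 21, 16, 14, 10, 17, 23, 18, 20]

/-- generator data -/
def bi0 : List ℕ := [0, 1, 2, 13, 11, 3, 12, 14, 8, 6, 19, 5, 10, 4, 18, 7, 17, 20, 22, 9, 23, 16, 15, 21]

/-- generator data -/
def bt0 : List ℕ := [0, 2, 4, 26, 22, 6, 25, 29, 16, 13, 38, 10, 21, 8, 37, 14, 35, 40, 44, 19, 46, 32, 30, 43]

theorem bok0 : monoOK bl0 bi0 8999616 bt0 = true := by decide +kernel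

/-- generator data -/
def bl1 : List ℕ := [0, 1, 2, 13, 4, 8, 12, 22, 3, 6, 16, 5, 23, 11, 7, 18, 21, 9, 14, 20, 10, 19, 15, 17]

/-- generator data -/
def bi1 : List ℕ := [0, 1, 2, 8, 4, 11, 9, 14, 5, 17, 20, 13, 6, 3, 18, 22, 10, 23, 15, 21, 19, 16, 7, 12]

/-- generator data -/
def bt1 : List ℕ := [0, 2, 4, 16, 8, 22, 19, 29, 10, 35, 40, 26, 13, 6, 37, 44, 21, 46, 30, 43, 38, 32, 14, 25]

theorem bok1 : monoOK bl1 bi1 8999616 bt1 = true := by decide +kernel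

/-- generator data -/
def bl2 : List ℕ := [0, 1, 2, 5, 3, 13, 22, 17, 11, 21, 14, 8, 23, 4, 6, 16, 7, 15, 18, 20, 9, 19, 10, 12]

/-- generator data -/
def bi2 : List ℕ := [0, 1, 2, 4, 13, 3, 14, 16, 11, 20, 22, 8, 23, 5, 10, 17, 15, 7, 18, 21, 19, 9, 6, 12]

/-- generator data -/
def bt2 : List ℕ := [0, 2, 4, 8, 26, 6, 28, 33, 22, 40, 45, 16, 46, 10, 20, 34, 31, 15, 37, 43, 38, 19, 12, 25]

theorem bok2 : monoOK bl2 bi2 11469952 bt2 = true := by decide +kernel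

/-- generator data -/
def bw0m0l : List ℕ := [20, 9, 15, 13, 8, 17, 11, 3, 18, 19, 6, 14, 2, 22, 12, 7, 5, 1, 4, 0, 10, 16, 23, 21]

/-- generator data -/
def bw0m0i : List ℕ := [19, 17, 12, 7, 18, 16, 10, 15, 4, 1, 20, 6, 14, 3, 11, 2, 21, 5, 8, 9, 0, 23, 13, 22]

/-- generator data -/
def bw0m0t : List ℕ := [39, 34, 24, 15, 36, 33, 21, 31, 9, 3, 40, 13, 29, 6, 23, 4, 42, 10, 16, 19, 0, 46, 27, 44]

theorem bw0m0ok : monoOK bw0m0l bw0m0i 4742121 bw0m0t = true := by decide +kernel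

/-- generator data -/
def bw0m1l : List ℕ := [19, 17, 12, 7, 18, 16, 10, 15, 4, 1, 20, 6, 14, 3, 11, 2, 21, 5, 8, 9, 0, 23, 13, 22]

/-- generator data -/
def bw0m1i : List ℕ := [20, 9, 15, 13, 8, 17, 11, 3, 18, 19, 6, 14, 2, 22, 12, 7, 5, 1, 4, 0, 10, 16, 23, 21]

/-- generator data -/
def bw0m1t : List ℕ := [40, 19, 30, 26, 17, 34, 23, 7, 36, 39, 13, 29, 4, 45, 25, 15, 11, 2, 8, 1, 20, 32, 46, 42]

theorem bw0m1ok : monoOK bw0m1l bw0m1i 650962 bw0m1t = true := by decide +kernel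

/-- a composite generator -/
def bw0 : List LOp := [LOp.mono bw0m0l bw0m0i 4742121 bw0m0t, LOp.xi, LOp.mono bw0m1l bw0m1i 650962 bw0m1t]

theorem bw0ok : (bw0).all LOp.ok = true := by
  simp only [bw0, List.all_cons, List.all_nil, LOp.ok, bw0m0ok, bw0m1ok, Bool.and_self]

/-- the generators -/
def bgens : List (ℕ → Option ℕ) := [fun k => some (monoKey bt0 k), fun k => some (monoKey bt1 k), fun k => some (monoKey bt2 k), fun k => packChk (wordFn bw0 (unpackL k))]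

theorem bhgens : ∀ F ∈ bgens, ∃ g ∈ H3, ImplKey g F := by
  intro F hF
  simp only [bgens, List.mem_cons, List.not_mem_nil, or_false] at hF
  rcases hF with rfl | rfl | rfl | rfl
  · exact mono_gen bok0 (fun b hb => by
      simp only [List.mem_cons, List.not_mem_nil, or_false] at hb
      rcases hb with rfl | rfl | rfl
      · exact ⟨kv0, by decide +kernel, rfl, by decide +kernel⟩
      · exact ⟨kw0, by decide +kernel, rfl, by decide +kernel⟩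
      · exact ⟨kx0, by decide +kernel, rfl, by decide +kernel⟩
      )
  · exact mono_gen bok1 (fun b hb => by
      simp only [List.mem_cons, List.not_mem_nil, or_false] at hb
      rcases hb with rfl | rfl | rfl
      · exact ⟨kv0, by decide +kernel, rfl, by decide +kernel⟩
      · exact ⟨kw0, by decide +kernel, rfl, by decide +kernel⟩
      · exact ⟨kx0, by decide +kernel, rfl, by decide +kernel⟩
      )
  · exact mono_gen bok2 (fun b hb => by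
      simp only [List.mem_cons, List.not_mem_nil, or_false] at hb
      rcases hb with rfl | rfl | rfl
      · exact ⟨kv0, by decide +kernel, rfl, by decide +kernel⟩
      · exact ⟨kw0, by decide +kernel, rfl, by decide +kernel⟩
      · exact ⟨kx0, by decide +kernel, rfl, by decide +kernel⟩
      )
  · exact word_gen bw0 bw0ok (fun b hb => by
      simp only [List.mem_cons, List.not_mem_nil, or_false] at hb
      rcases hb with rfl | rfl | rfl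
      · exact ⟨kv0, by decide +kernel, rfl, by decide +kernel⟩
      · exact ⟨kw0, by decide +kernel, rfl, by decide +kernel⟩
      · exact ⟨kx0, by decide +kernel, rfl, by decide +kernel⟩
      )

/-- packed start vector of the first orbit -/
def ky1 : ℕ := 42255020010066612250540157098

/-- start vector of the first orbit -/
def y1 : leechLattice := ⟨vecK ky1, vecK_mem ky1 0 57883 (by decide +kernel)⟩

/-- packed start vector of the second orbit -/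
def ky2 : ℕ := 42255020007607646716556789900

/-- start vector of the second orbit -/
def y2 : leechLattice := ⟨vecK ky2, vecK_mem ky2 0 0 (by decide +kernel)⟩

/-- the spanning tree program of the first orbit -/
def progY1 : List ℕ := [0, 0, 1, 0, 0, 8, 2, 8, 8, 8, 8, 1, 0, 0, 8, 8, 2, 8, 3, 0, 0, 2, 8, 8, 1, 1, 2, 8, 8, 8, 2, 0, 8, 8, 8, 1, 2, 8, 8, 2, 0, 8, 1, 8, 2, 2, 8, 8, 8, 8, 8, 2, 0, 1, 0, 2, 8, 8, 1, 8, 8, 8, 1, 1, 0, 0, 8, 8, 1, 8, 8, 2, 2, 8, 8, 8, 2, 1, 8, 2, 1, 8, 8, 8, 8, 8, 1, 0, 0, 0, 8, 1, 8, 2, 8, 8, 1, 1, 2, 8, 8, 2, 2, 8, 8, 8, 2, 0, 8, 2, 1, 8, 8, 8, 8, 1, 1, 2, 2, 8, 8, 8, 2, 0, 1, 8, 8, 2, 8, 8, 8, 2, 0, 0, 8, 8, 1, 1, 8, 8, 2, 0, 1, 8, 8, 1, 0, 8, 8, 8, 8, 8, 2, 0, 0, 0, 8, 2, 8, 3, 0, 0, 1, 0, 8, 8, 2, 0, 8, 8, 8, 1, 0, 8, 8, 2, 0, 2, 8, 8, 1, 8, 8, 8, 1, 1, 8, 2, 8, 8, 8, 8, 1, 1, 8, 8, 2, 1, 8, 8, 8, 1, 0, 1, 8, 8, 8, 2, 1, 0, 8, 2, 8, 8, 2, 0, 8, 1,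 8, 8, 8, 8]

/-- the spanning tree program of the second orbit -/
def progY2 : List ℕ := [0, 0, 8, 1, 8, 8, 1, 2, 8, 8, 3, 0, 0, 0, 1, 8, 2, 0, 8, 8, 8, 1, 8, 8, 1, 0, 0, 1, 8, 8, 2, 8, 8, 1, 0, 2, 8, 8, 8, 2, 0, 2, 8, 8, 2, 8, 8, 8, 2, 1, 0, 8, 2, 1, 8, 8, 8, 2, 0, 0, 8, 8, 1, 8, 2, 8, 8, 8, 3, 0, 0, 0, 1, 8, 2, 2, 0, 8, 8, 8, 8, 1, 0, 0, 8, 2, 8, 8, 8, 2, 0, 2, 1, 8, 8, 8, 1, 0, 8, 8, 8, 8, 1, 0, 0, 1, 8, 2, 8, 8, 2, 0, 8, 2, 0, 8, 8, 8, 8, 2, 8, 8, 2, 0, 1, 0, 2, 8, 8, 8, 2, 0, 8, 1, 8, 2, 2, 8, 8, 8, 8, 1, 0, 1, 8, 8, 1, 1, 8, 8, 2, 8, 8, 2, 0, 2, 0, 8, 8, 8, 2, 2, 8, 8, 8, 8, 8, 1, 0, 0, 0, 8, 8, 1, 2, 0, 8, 2, 8, 8, 8, 8, 1, 0, 1, 8, 8, 1, 8, 2, 8, 8, 2, 0, 0, 0, 8, 8, 1, 0, 8, 8, 2, 8, 8, 1, 0, 0, 0, 8, 8, 8, 1, 1, 8, 2, 8, 8, 2, 8, 8, 2, 0, 8, 1, 8, 8, 8, 8, 2, 0, 0, 2, 8, 8, 2, 0, 8, 1, 8, 8, 8, 2, 1, 0, 0, 8, 8, 8, 2, 0, 8, 1, 2, 8, 8, 8, 8, 8, 8, 8, 1, 0, 0, 0, 8, 1,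 2, 8, 8, 2, 8, 8, 1, 1, 8, 8, 2, 0, 8, 1, 8, 2, 8, 8, 8, 2, 0, 1, 8, 8, 1, 8, 2, 1, 8, 8, 8, 8, 2, 0, 1, 1, 8, 2, 8, 8, 2, 8, 8, 2, 1, 8, 2, 0, 8, 1, 8, 8, 8, 8, 8]

/-- the keys of the first orbit -/
def KY1 : List ℕ := KX.filter (fun k => decide (dotK kx0 k = 8))

/-- the keys of the second orbit -/
def KY2 : List ℕ := KX.filter (fun k => !(Nat.beq k kx0) && decide (dotK kx0 k = 16))

set_option maxRecDepth 100000 in
theorem partY1 : partOK bgens 4 progY1 ky1 [ky1] 120 8 KY1 = true := by decide +kernel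

set_option maxRecDepth 100000 in
theorem partY2 : partOK bgens 4 progY2 ky2 [ky2] 170 9 KY2 = true := by decide +kernel

theorem rkBase1 : RK H3 y1 ky1 := rk_base rfl (by decide +kernel)

theorem rkBase2 : RK H3 y2 ky2 := rk_base rfl (by decide +kernel)

theorem rkY1 : ∀ k ∈ KY1, RK H3 y1 k :=
  part_sound rkBase1 bgens 4 bhgens progY1 [ky1] (fun k hk => by rw [List.mem_singleton.mp hk]; exact rkBase1) _ _ KY1 partY1

theorem rkY2 : ∀ k ∈ KY2, RK H3 y2 k :=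
  part_sound rkBase2 bgens 4 bhgens progY2 [ky2] (fun k hk => by rw [List.mem_singleton.mp hk]; exact rkBase2) _ _ KY2 partY2

set_option maxRecDepth 100000 in
theorem KY_len : (Nat.beq KY1.length 112 && Nat.beq KY2.length 162) = true := by decide +kernel

set_option maxRecDepth 100000 in
theorem KX_dots : KX.all (fun k => Nat.beq k kx0 || decide (dotK kx0 k = 8) || decide (dotK kx0 k = 16)) = true := by decide +kernel

set_option maxRecDepth 100000 in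
theorem kx0_dot : decide (dotK kx0 kx0 = 32) = true := by decide +kernel

end Cfsg.Agent.Helper26.LO1581
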