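import Mathlib
import Cfsg.Agent.Lib.Helper26.LO1581Base

/-! The rank 3 action on the 275 points at the base configuration -/

set_option autoImplicit false

namespace Cfsg.Agent.Helper26.LO1581
open Cfsg Cfsg.Agent.Helper7 Cfsg.Agent.Helper26 Cfsg.Agent.Helper26.LOP Cfsg.Agent.Helper26.LOX
  Cfsg.Agent.Helper26.LO1580

set_option maxRecDepth 100000 in
theorem KY_inc : (strictInc (16 ^ 24) KY1 && strictInc (16 ^ 24) KY2) = true := by decide +kernel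

theorem H3_le {g : Equiv.Perm leechLattice} (hg : g ∈ H3) : g ∈ H2 :=
  ⟨hg.1, fun b hb => by
    simp only [List.mem_cons, List.not_mem_nil, or_false] at hb
    rcases hb with rfl | rfl
    · exact hg.2 _ (by simp)
    · exact hg.2 _ (by simp)⟩

theorem H3_x0 {g : Equiv.Perm leechLattice} (hg : g ∈ H3) : g x0 = x0 := hg.2 x0 (by simp)

theorem kx0_mem : kx0 ∈ KX := by
  obtain ⟨k, hk, e⟩ := (Xf_iff x0.1).mp
    ⟨x0.2, x0_norm, u0_sub_x0, dot_v0_x0⟩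
  have hB := (strictInc_spec _ KX KX_ok'.1).2
  have h0 : kx0 < 16 ^ 24 := by decide +kernel
  have : kx0 = k := vecK_injOn h0 (hB k hk) e
  rw [this]; exact hk

theorem vecK_inj_KX {a b : ℕ} (ha : a ∈ KX) (hb : b ∈ KX) (h : vecK a = vecK b) : a = b := by
  have hB := (strictInc_spec _ KX KX_ok'.1).2
  exact vecK_injOn (hB a ha) (hB b hb) h

/-- the points at inner product 8 with the base point -/
def Y1f : Set (GolayPt → ℤ) :=
  {y | y ∈ leechLattice ∧ (sqNorm y = 32 ∧ sqNorm (u0.1 - y) = 32 ∧ dotInt v0.1 y = 16) ∧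
    dotInt x0.1 y = 8}

/-- the other points at inner product 16 with the base point -/
def Y2f : Set (GolayPt → ℤ) :=
  {y | y ∈ leechLattice ∧ (sqNorm y = 32 ∧ sqNorm (u0.1 - y) = 32 ∧ dotInt v0.1 y = 16) ∧
    y ≠ x0.1 ∧ dotInt x0.1 y = 16}

theorem mem_KY1 {k : ℕ} : k ∈ KY1 ↔ k ∈ KX ∧ dotK kx0 k = 8 := by
  unfold KY1
  rw [List.mem_filter, decide_eq_true_eq]

theorem mem_KY2 {k : ℕ} : k ∈ KY2 ↔ k ∈ KX ∧ k ≠ kx0 ∧ dotK kx0 k = 16 := by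
  unfold KY2
  rw [List.mem_filter, Bool.and_eq_true, decide_eq_true_eq, Bool.not_eq_true', ← Bool.not_eq_true,
    Nat.beq_eq]

theorem Y1f_iff (y : GolayPt → ℤ) : y ∈ Y1f ↔ ∃ k ∈ KY1, y = vecK k := by
  constructor
  · rintro ⟨h1, ⟨h2, h3, h4⟩, h5⟩
    obtain ⟨k, hk, rfl⟩ := (Xf_iff y).mp ⟨h1, h2, h3, h4⟩
    refine ⟨k, mem_KY1.mpr ⟨hk, ?_⟩, rfl⟩
    rw [← dotInt_vecK]; exact h5
  · rintro ⟨k, hk, rfl⟩
    obtain ⟨hk1, hk2⟩ := mem_KY1.mp hk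
    obtain ⟨h1, h2, h3, h4⟩ := (Xf_iff (vecK k)).mpr ⟨k, hk1, rfl⟩
    refine ⟨h1, ⟨h2, h3, h4⟩, ?_⟩
    show dotInt (vecK kx0) (vecK k) = 8
    rw [dotInt_vecK]; exact hk2

theorem Y2f_iff (y : GolayPt → ℤ) : y ∈ Y2f ↔ ∃ k ∈ KY2, y = vecK k := by
  constructor
  · rintro ⟨h1, ⟨h2, h3, h4⟩, h5, h6⟩
    obtain ⟨k, hk, rfl⟩ := (Xf_iff y).mp ⟨h1, h2, h3, h4⟩
    refine ⟨k, mem_KY2.mpr ⟨hk, ?_, ?_⟩, rfl⟩
    · rintro rfl
      exact h5 rfl
    · rw [← dotInt_vecK]; exact h6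
  · rintro ⟨k, hk, rfl⟩
    obtain ⟨hk1, hk2, hk3⟩ := mem_KY2.mp hk
    obtain ⟨h1, h2, h3, h4⟩ := (Xf_iff (vecK k)).mpr ⟨k, hk1, rfl⟩
    refine ⟨h1, ⟨h2, h3, h4⟩, ?_, ?_⟩
    · intro e
      exact hk2 (vecK_inj_KX hk1 kx0_mem e)
    · show dotInt (vecK kx0) (vecK k) = 16
      rw [dotInt_vecK]; exact hk3

theorem KY_inc' : strictInc (16 ^ 24) KY1 = true ∧ strictInc (16 ^ 24) KY2 = true := by
  have h := KY_inc
  rw [Bool.and_eq_true] at h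
  exact h

theorem KY_len' : KY1.length = 112 ∧ KY2.length = 162 := by
  have h := KY_len
  rw [Bool.and_eq_true, Nat.beq_eq, Nat.beq_eq] at h
  exact h

theorem Y1f_ncard : Y1f.ncard = 112 := by
  have : Y1f = {y : GolayPt → ℤ | ∃ k ∈ KY1, y = vecK k} := by
    ext y; exact Y1f_iff y
  rw [this, ncard_explicit KY1 KY_inc'.1, KY_len'.1]

theorem Y2f_ncard : Y2f.ncard = 162 := by
  have : Y2f = {y : GolayPt → ℤ | ∃ k ∈ KY2, y = vecK k} := by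
    ext y; exact Y2f_iff y
  rw [this, ncard_explicit KY2 KY_inc'.2, KY_len'.2]

theorem reach1 {a : leechLattice} {k : ℕ} (hk : k ∈ KY1) (e : a.1 = vecK k) :
    ∃ g ∈ H3, g y1 = a := by
  obtain ⟨_, g, hg, e'⟩ := rkY1 k hk
  exact ⟨g, hg, Subtype.ext (by rw [e', e])⟩

theorem reach2 {a : leechLattice} {k : ℕ} (hk : k ∈ KY2) (e : a.1 = vecK k) :
    ∃ g ∈ H3, g y2 = a := by
  obtain ⟨_, g, hg, e'⟩ := rkY2 k hk
  exact ⟨g, hg, Subtype.ext (by rw [e', e])⟩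

theorem trans_of_reach {y : leechLattice} {a b : leechLattice} (ha : ∃ g ∈ H3, g y = a)
    (hb : ∃ g ∈ H3, g y = b) : ∃ g ∈ H3, g a = b := by
  obtain ⟨g1, hg1, e1⟩ := ha
  obtain ⟨g2, hg2, e2⟩ := hb
  refine ⟨g2 * g1⁻¹, H3.mul_mem hg2 (H3.inv_mem hg1), ?_⟩
  rw [← e1, ← e2]
  simp

/-- rank 3: the point stabiliser is transitive on the points with a given inner product -/
theorem base_trans {a b : leechLattice} (ha : a.1 ∈ Xf) (hb : b.1 ∈ Xf) (hax : a ≠ x0)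
    (hbx : b ≠ x0) (hd : dotInt x0.1 a.1 = dotInt x0.1 b.1) : ∃ g ∈ H3, g a = b := by
  obtain ⟨k, hk, ea⟩ := (Xf_iff a.1).mp ha
  obtain ⟨k', hk', eb⟩ := (Xf_iff b.1).mp hb
  have hk0 : k ≠ kx0 := by
    rintro rfl
    exact hax (Subtype.ext ea)
  have hk0' : k' ≠ kx0 := by
    rintro rfl
    exact hbx (Subtype.ext eb)
  have hdk : dotK kx0 k = dotK kx0 k' := by
    rw [← dotInt_vecK, ← dotInt_vecK, ← ea, ← eb]; exact hd
  have hall := KX_dots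
  rw [List.all_eq_true] at hall
  have h1 := hall k hk
  simp only [Bool.or_eq_true, Nat.beq_eq, decide_eq_true_eq] at h1
  rcases h1 with (h1 | h1) | h1
  · exact absurd h1 hk0
  · exact trans_of_reach (reach1 (mem_KY1.mpr ⟨hk, h1⟩) ea)
      (reach1 (mem_KY1.mpr ⟨hk', by rw [← hdk]; exact h1⟩) eb)
  · exact trans_of_reach (reach2 (mem_KY2.mpr ⟨hk, hk0, h1⟩) ea)
      (reach2 (mem_KY2.mpr ⟨hk', hk0', by rw [← hdk]; exact h1⟩) eb)

/-- transport of the defining conditions of the 275 points -/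
theorem X_transport {u v : leechLattice} {g : Equiv.Perm leechLattice} (hg : g ∈ Co0)
    (eu : g u = u0) (ev : g v = v0) (x : leechLattice) :
    (sqNorm x.1 = 32 ∧ sqNorm (u.1 - x.1) = 32 ∧ dotInt v.1 x.1 = 16) ↔ (g x).1 ∈ Xf := by
  have h1 : sqNorm (g x).1 = sqNorm x.1 := hg.2 x
  have h2' : sqNorm (u0.1 - (g x).1) = sqNorm ((u - x : leechLattice) : GolayPt → ℤ) := by
    rw [← hg.2 (u - x), co0_sub g hg, eu]; rfl
  have h2 : sqNorm (u0.1 - (g x).1) = sqNorm (u.1 - x.1) := h2'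
  have h3 : dotInt v0.1 (g x).1 = dotInt v.1 x.1 := by
    rw [← ev, co0_dot g hg]
  constructor
  · rintro ⟨a, b, c⟩
    exact ⟨(g x).2, by rw [h1]; exact a, by rw [h2]; exact b, by rw [h3]; exact c⟩
  · rintro ⟨_, a, b, c⟩
    exact ⟨by rw [← h1]; exact a, by rw [← h2]; exact b, by rw [← h3]; exact c⟩

/-- moving a configuration with a point to the base configuration -/
theorem move3 (u v x : leechLattice) (hu : sqNorm u.1 = 48) (hv : sqNorm v.1 = 32)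
    (huv : sqNorm (u.1 - v.1) = 32)
    (hx : sqNorm x.1 = 32 ∧ sqNorm (u.1 - x.1) = 32 ∧ dotInt v.1 x.1 = 16) :
    ∃ g ∈ Co0, g u = u0 ∧ g v = v0 ∧ g x = x0 := by
  obtain ⟨g0, hg0, eu, ev⟩ := move_base u v hu hv huv
  have hx' := (X_transport hg0 eu ev x).mp hx
  obtain ⟨h, hh, e⟩ := Xf_reach hx'
  have hhi : h⁻¹ ∈ H2 := H2.inv_mem hh
  refine ⟨h⁻¹ * g0, Co0.mul_mem hhi.1 hg0, ?_, ?_, ?_⟩
  · rw [Equiv.Perm.mul_apply, eu, H2_u0 hhi]
  · rw [Equiv.Perm.mul_apply, ev, hhi.2 v0 (by simp)]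
  · rw [Equiv.Perm.mul_apply, ← e]
    simp

end Cfsg.Agent.Helper26.LO1581
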