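import Mathlib
import Cfsg.Agent.Lib.Helper26.LO1634Base

/-! Generators and orbit certificates for the point stabiliser of the McLaughlin group on 2025 points (S1634) -/

set_option autoImplicit false

namespace Cfsg.Agent.Helper26.LO1634
open Cfsg Cfsg.Agent.Helper7 Cfsg.Agent.Helper26 Cfsg.Agent.Helper26.LOP Cfsg.Agent.Helper26.LOX Cfsg.Agent.Helper26.LO1580

/-- the stabiliser of the two base vectors and the base point -/
abbrev H3 : Subgroup (Equiv.Perm leechLattice) := fixH [v0, w0, a0]

/-- generator data -/
def el0 : List ℕ := [0, 1, 2, 3, 11, 8, 7, 6, 5, 12, 22, 4, 9, 13, 16, 17, 14, 15, 18, 23, 20, 21, 10, 19]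

/-- generator data -/
def ei0 : List ℕ := [0, 1, 2, 3, 11, 8, 7, 6, 5, 12, 22, 4, 9, 13, 16, 17, 14, 15, 18, 23, 20, 21, 10, 19]

/-- generator data -/
def et0 : List ℕ := [0, 2, 4, 6, 22, 16, 14, 12, 10, 24, 45, 8, 19, 26, 33, 35, 29, 30, 36, 46, 41, 43, 20, 39]

theorem eok0 : monoOK el0 ei0 11654144 et0 = true := by decide +kernel

/-- generator data -/
def el1 : List ℕ := [0, 1, 3, 2, 11, 13, 19, 6, 4, 16, 9, 8, 22, 5, 20, 7, 10, 21, 17, 12, 23, 14, 15, 18]

/-- generator data -/
def ei1 : List ℕ := [0, 1, 3, 2, 8, 13, 7, 15, 11, 10, 16, 4, 19, 5, 21, 22, 9, 18, 23, 6, 14, 17, 12, 20]

/-- generator data -/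
def et1 : List ℕ := [0, 2, 7, 5, 16, 26, 14, 30, 22, 20, 32, 8, 38, 10, 42, 45, 18, 37, 46, 13, 29, 35, 24, 41]

theorem eok1 : monoOK el1 ei1 12222476 et1 = true := by decide +kernel

/-- generator data -/
def ew0m0l : List ℕ := [20, 10, 16, 13, 12, 15, 0, 2, 17, 23, 1, 18, 8, 5, 9, 6, 3, 22, 14, 21, 7, 19, 11, 4]

/-- generator data -/
def ew0m0i : List ℕ := [6, 10, 7, 16, 23, 13, 15, 20, 12, 14, 1, 22, 4, 3, 18, 5, 2, 8, 11, 21, 0, 19, 17, 9]

/-- generator data -/
def ew0m0t : List ℕ := [12, 20, 15, 33, 46, 27, 31, 41, 25, 29, 2, 44, 9, 6, 36, 10, 4, 16, 22, 43, 1, 39, 34, 19]

theorem ew0m0ok : monoOK ew0m0l ew0m0i 12063724 ew0m0t = true := by decide +kernel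

/-- generator data -/
def ew0m1l : List ℕ := [6, 10, 7, 16, 23, 13, 15, 20, 12, 14, 1, 22, 4, 3, 18, 5, 2, 8, 11, 21, 0, 19, 17, 9]

/-- generator data -/
def ew0m1i : List ℕ := [20, 10, 16, 13, 12, 15, 0, 2, 17, 23, 1, 18, 8, 5, 9, 6, 3, 22, 14, 21, 7, 19, 11, 4]

/-- generator data -/
def ew0m1t : List ℕ := [41, 20, 32, 26, 25, 30, 0, 5, 34, 47, 2, 36, 17, 11, 19, 13, 7, 44, 28, 43, 15, 39, 22, 8]

theorem ew0m1ok : monoOK ew0m1l ew0m1i 3797649 ew0m1t = true := by decide +kernel

/-- a composite generator -/
def ew0 : List LOp := [LOp.mono ew0m0l ew0m0i 12063724 ew0m0t, LOp.xi, LOp.mono ew0m1l ew0m1i 3797649 ew0m1t]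

theorem ew0ok : (ew0).all LOp.ok = true := by
  simp only [ew0, List.all_cons, List.all_nil, LOp.ok, ew0m0ok, ew0m1ok, Bool.and_self]

/-- the generators -/
def egens : List (ℕ → Option ℕ) := [fun k => some (monoKey et0 k), fun k => some (monoKey et1 k), fun k => packChk (wordFn ew0 (unpackL k))]

theorem ehgens : ∀ F ∈ egens, ∃ g ∈ H3, ImplKey g F := by
  intro F hF
  simp only [egens, List.mem_cons, List.not_mem_nil, or_false] at hF
  rcases hF with rfl | rfl | rfl
  · exact mono_gen eok0 (fun b hb => by
      simp only [List.mem_cons, List.not_mem_nil, or_false] at hb
      rcases hb with rfl | rfl | rfl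
      · exact ⟨kv0, by decide +kernel, rfl, by decide +kernel⟩
      · exact ⟨kw0, by decide +kernel, rfl, by decide +kernel⟩
      · exact ⟨ka0, by decide +kernel, rfl, by decide +kernel⟩
      )
  · exact mono_gen eok1 (fun b hb => by
      simp only [List.mem_cons, List.not_mem_nil, or_false] at hb
      rcases hb with rfl | rfl | rfl
      · exact ⟨kv0, by decide +kernel, rfl, by decide +kernel⟩
      · exact ⟨kw0, by decide +kernel, rfl, by decide +kernel⟩
      · exact ⟨ka0, by decide +kernel, rfl, by decide +kernel⟩
      )
  · exact word_gen ew0 ew0ok (fun b hb => by
      simp only [List.mem_cons, List.not_mem_nil, or_false] at hb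
      rcases hb with rfl | rfl | rfl
      · exact ⟨kv0, by decide +kernel, rfl, by decide +kernel⟩
      · exact ⟨kw0, by decide +kernel, rfl, by decide +kernel⟩
      · exact ⟨ka0, by decide +kernel, rfl, by decide +kernel⟩
      )

/-- packed start vector of the suborbit with inner product 0 -/
def ky0 : ℕ := 42255020007607646716561229960

/-- start vector of the suborbit with inner product 0 -/
def y0 : leechLattice := ⟨vecK ky0, vecK_mem ky0 0 0 (by decide +kernel)⟩

/-- encoded spanning tree program of the suborbit 0 -/
def progY0N : ℕ := 0x6666661661600160166611661661000166666661660016660166601001666661661016016016661000166666610160166666160166610016016616661601000166616660101666610100016666666616001666016001666661116660160016616666001000166616666111600166616600166100016666666611011666601600016616001666666600101666661010016000166616666101600166666660101661666610160001666660160160001000266666116016016666110010166661661016661661010002661601666666660166601016666016610101666661116660101666116000166666611160166101666666116016016666011016666116661661010100016666666611160166166601000166666600160166611666116610001666616016666010016666160110001666661016660166601600016661666611001000266166601010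

/-- spanning tree program of the suborbit 0 -/
def progY0 : List ℕ := decodeList 16 658 progY0N

/-- the keys of the suborbit 0 -/
def KY0 : List ℕ := KA.filter (fun k => decide (dotK ka0 k = 0))

set_option maxRecDepth 100000 in
theorem partY0 : partOK egens 3 progY0 ky0 [ky0] 331 9 KY0 = true := by decide +kernel

theorem rkBaseY0 : RK H3 y0 ky0 := rk_base rfl (by decide +kernel)

theorem rkY0 : ∀ k ∈ KY0, RK H3 y0 k :=
  part_sound rkBaseY0 egens 3 ehgens progY0 [ky0] (fun k hk => by rw [List.mem_singleton.mp hk]; exact rkBaseY0) _ _ KY0 partY0

/-- packed start vector of the suborbit with inner product 16 -/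
def ky16 : ℕ := 42255020007607646716557034632

/-- start vector of the suborbit with inner product 16 -/
def y16 : leechLattice := ⟨vecK ky16, vecK_mem ky16 0 0 (by decide +kernel)⟩

/-- encoded spanning tree program of the suborbit 16 -/
def progY16N : ℕ := 0x6666666610166616661600016666111001666601661010166666611116661660016661000166661661016661601016610001666666616666101661001666661601166160016661666016001666600100016666610016666610166166100166601000166616666016610001666666611101661661600016666011000166666660166001661661001666611666611166100166610001666666601601166000166000166666616610166616016616610001666661016610001666611666116001666601601661000166661661600166600010002666666166001661661000166616616661000166660166001666601666000100026666116666016016666111001601666601166666116016016666011000166666611601666110166660166166160001666601166616610100016666166101666166101661600010001666666661116661101666660101666010001666666601600160166611666601601666601100016666166601016661166616010016666166101666611601661001000166666666110166160001666661666601100016666616016600016666001000166666601666610100166611666611100100026666101601666666666101016666600016666016016661601000261010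

/-- spanning tree program of the suborbit 16 -/
def progY16 : List ℕ := decodeList 16 922 progY16N

/-- the keys of the suborbit 16 -/
def KY16 : List ℕ := KA.filter (fun k => decide (dotK ka0 k = 16))

set_option maxRecDepth 100000 in
theorem partY16 : partOK egens 3 progY16 ky16 [ky16] 463 9 KY16 = true := by decide +kernel

theorem rkBaseY16 : RK H3 y16 ky16 := rk_base rfl (by decide +kernel)

theorem rkY16 : ∀ k ∈ KY16, RK H3 y16 k :=
  part_sound rkBaseY16 egens 3 ehgens progY16 [ky16] (fun k hk => by rw [List.mem_singleton.mp hk]; exact rkBaseY16) _ _ KY16 partY16

/-- packed start vector of the suborbit with inner product 8 -/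
def ky8 : ℕ := 42255020009922499124621125768

/-- start vector of the suborbit with inner product 8 -/
def y8 : leechLattice := ⟨vecK ky8, vecK_mem ky8 0 42232 (by decide +kernel)⟩

/-- encoded spanning tree program of the suborbit 8 -/
def progY8N : ℕ := 0x666666661016666111666110016666016666001666100016666616011601666610100016666666011166001666166001666601100166660166666110101666600100016666666016600166661110166661000160001666666166611666110016661166661601160001666661601166660010166666111166661010001666666601660016610166610016666011666116661100016666661601166001666166101016666610166001000166666666101601666166101666100016666616610111661600016666661601601666000166666001001666166616000160001666666660160166611001661016666100010002666666666666111661001666611660016666116600100166660166601660001666166160016000166666001666016616000166666601166000166666160101000166666601661666100016666116610001666616660001666166601000166660166166160001666010001666666016661001661661600016666611660016600166660166610016000166666660101166616016616000100016666666661001666166610010166666160116661160016666011661000166666661001166661160166610001666660111666010001666666610116661661000166101666666011666601600016666116661001666610160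00166616010001666666601666010001666666001601666611166166100016666160166616610001666661166100100016666666160001666660160016600016666166001666100166601666010001000266666666011166616010016661101666666111666611001666601660010166666116011666610100016666666661011601666666111016616610001666666111660016666011010166666666010101666666116016600166611016666101666616011000166661661600166661160101666666160116001000266666661011666116661100166661100166666001666160001016666666011601666110166660166611010166601000166666666166100160166666001666010166666111166100016666666111166660110166601000166666601661661001666611600016010166666616661101666110166661166601016660166601000166666616016610166001666110166660166601016661601000166661661660001666166611010100016666666666116660001666110016661166661160100166660166601661001016666616610116666160166001016666616011601666661101000166666666660111601666601166660160100016666666116661601016001666666000116666010001666666160016660166601001666166101661666010001666666101660016666600116666010001000266666011666166101666611100166666010001666661661016600110166666616011601666661116661101666160166100016666666110166601660001601000166666666661100166616661166000101666660016660101016666666011116666016600101666601000166666660116661601600166661601666010001666616600110166666616011666160101666166101666601000166661666016600016010001666660166166601666010001666666611661600016666601166100016666601660011666661001666160100026666166611600166616610001666110166666601160116666166160016010001000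

/-- spanning tree program of the suborbit 8 -/
def progY8 : List ℕ := decodeList 16 2462 progY8N

/-- the keys of the suborbit 8 -/
def KY8 : List ℕ := KA.filter (fun k => decide (dotK ka0 k = 8))

set_option maxRecDepth 100000 in
theorem partY8 : partOK egens 3 progY8 ky8 [ky8] 1233 11 KY8 = true := by decide +kernel

theorem rkBaseY8 : RK H3 y8 ky8 := rk_base rfl (by decide +kernel)

theorem rkY8 : ∀ k ∈ KY8, RK H3 y8 k :=
  part_sound rkBaseY8 egens 3 ehgens progY8 [ky8] (fun k hk => by rw [List.mem_singleton.mp hk]; exact rkBaseY8) _ _ KY8 partY8

set_option maxRecDepth 100000 in
theorem KY_len : (Nat.beq KY0.length 330 && Nat.beq KY16.length 462 && Nat.beq KY8.length 1232) = true := by decide +kernel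

set_option maxRecDepth 100000 in
theorem KA_dots : KA.all (fun k => Nat.beq k ka0 || decide (dotK ka0 k = 0) || decide (dotK ka0 k = 16) || decide (dotK ka0 k = 8)) = true := by decide +kernel

set_option maxRecDepth 100000 in
theorem ka0_dot : decide (dotK ka0 ka0 = 32) = true := by decide +kernel

end Cfsg.Agent.Helper26.LO1634
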