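import Mathlib
import Cfsg.Agent.Lib.Helper26.LO1634Stab
import Cfsg.Agent.Lib.Helper7.Census32

/-! The action of the McLaughlin group on 2025 points at the base configuration -/

set_option autoImplicit false

namespace Cfsg.Agent.Helper26.LO1634
open Cfsg Cfsg.Agent.Helper7 Cfsg.Agent.Helper26 Cfsg.Agent.Helper26.LOP Cfsg.Agent.Helper26.LOX
  Cfsg.Agent.Helper26.LO1580

theorem dotInt_neg_l (a b : GolayPt → ℤ) : dotInt (-a) b = -dotInt a b := by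
  unfold dotInt
  rw [← Finset.sum_neg_distrib]
  apply Finset.sum_congr rfl
  intro i _
  simp

theorem sqNorm_neg' (a : GolayPt → ℤ) : sqNorm (-a) = sqNorm a := by
  unfold sqNorm
  apply Finset.sum_congr rfl
  intro i _
  simp

/-- the minimal vectors with inner product 16 with the second base vector -/
def Af : Set (GolayPt → ℤ) :=
  {y | y ∈ leechLattice ∧ sqNorm y = 32 ∧ dotInt w0.1 y = 16}

theorem Af_ncard : Af.ncard = 4600 := by
  have h := (census32 (-w0.1) (leechLattice.neg_mem w0.2) (by rw [sqNorm_neg']; exact w0_norm)).1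
  rw [← h]
  congr 1
  ext y
  simp only [Af, Set.mem_ofPred_eq, dotInt_neg_l]
  constructor
  · rintro ⟨h1, h2, h3⟩
    exact ⟨h1, h2, by omega⟩
  · rintro ⟨h1, h2, h3⟩
    exact ⟨h1, h2, by omega⟩

/-- invariants of a reachable key -/
theorem rk_facts {x : leechLattice} {k : ℕ} (h : RK H2 x k) :
    vecK k ∈ leechLattice ∧ sqNorm (vecK k) = sqNorm x.1 ∧
      dotInt v0.1 (vecK k) = dotInt v0.1 x.1 ∧ dotInt w0.1 (vecK k) = dotInt w0.1 x.1 := by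
  obtain ⟨_, g, hg, e⟩ := h
  rw [← e]
  exact ⟨(g x).2, fixH_norm hg x, fixH_dot hg (by simp) x, fixH_dot hg (by simp) x⟩

theorem base_of {k : ℕ} {c : ℤ}
    (h : (decide (normK k = 32) && decide (dotK kv0 k = c) && decide (dotK kw0 k = 16)) = true) :
    sqNorm (vecK k) = 32 ∧ dotInt v0.1 (vecK k) = c ∧ dotInt w0.1 (vecK k) = 16 := by
  simp only [Bool.and_eq_true, decide_eq_true_eq] at h
  obtain ⟨⟨h1, h2⟩, h3⟩ := h
  refine ⟨by rw [sqNorm_vecK]; exact h1, ?_, ?_⟩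
  · show dotInt (vecK kv0) (vecK k) = c
    rw [dotInt_vecK]; exact h2
  · show dotInt (vecK kw0) (vecK k) = 16
    rw [dotInt_vecK]; exact h3

theorem factsA {k : ℕ} (hk : k ∈ KA) : vecK k ∈ leechLattice ∧ sqNorm (vecK k) = 32 ∧
    dotInt v0.1 (vecK k) = 0 ∧ dotInt w0.1 (vecK k) = 16 := by
  obtain ⟨h1, h2, h3, h4⟩ := rk_facts (rkA k hk)
  obtain ⟨b1, b2, b3⟩ := base_of baseA
  exact ⟨h1, h2.trans b1, h3.trans b2, h4.trans b3⟩

theorem factsB {k : ℕ} (hk : k ∈ KB) : vecK k ∈ leechLattice ∧ sqNorm (vecK k) = 32 ∧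
    dotInt v0.1 (vecK k) = -8 ∧ dotInt w0.1 (vecK k) = 16 := by
  obtain ⟨h1, h2, h3, h4⟩ := rk_facts (rkB k hk)
  obtain ⟨b1, b2, b3⟩ := base_of baseB
  exact ⟨h1, h2.trans b1, h3.trans b2, h4.trans b3⟩

theorem factsC {k : ℕ} (hk : k ∈ KC) : vecK k ∈ leechLattice ∧ sqNorm (vecK k) = 32 ∧
    dotInt v0.1 (vecK k) = 8 ∧ dotInt w0.1 (vecK k) = 16 := by
  obtain ⟨h1, h2, h3, h4⟩ := rk_facts (rkC k hk)
  obtain ⟨b1, b2, b3⟩ := base_of baseC
  exact ⟨h1, h2.trans b1, h3.trans b2, h4.trans b3⟩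

theorem factsD {k : ℕ} (hk : k ∈ KD) : vecK k ∈ leechLattice ∧ sqNorm (vecK k) = 32 ∧
    dotInt v0.1 (vecK k) = -16 ∧ dotInt w0.1 (vecK k) = 16 := by
  obtain ⟨h1, h2, h3, h4⟩ := rk_facts (rkD k hk)
  obtain ⟨b1, b2, b3⟩ := base_of baseD
  exact ⟨h1, h2.trans b1, h3.trans b2, h4.trans b3⟩

theorem S4600_cases {k : ℕ} (hk : k ∈ S4600) : k ∈ KA ∨ k ∈ KB ∨ k ∈ KC ∨ k ∈ KD := by
  obtain ⟨l, hl, hkl⟩ := mem_msortAux 4700 2 _ k hk
  simp only [List.mem_cons, List.not_mem_nil, or_false] at hl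
  rcases hl with rfl | rfl | rfl | rfl
  · exact Or.inl hkl
  · exact Or.inr (Or.inl hkl)
  · exact Or.inr (Or.inr (Or.inl hkl))
  · exact Or.inr (Or.inr (Or.inr hkl))

theorem S4600_mem {k : ℕ} (hk : k ∈ S4600) : vecK k ∈ Af := by
  rcases S4600_cases hk with h | h | h | h
  · exact ⟨(factsA h).1, (factsA h).2.1, (factsA h).2.2.2⟩
  · exact ⟨(factsB h).1, (factsB h).2.1, (factsB h).2.2.2⟩
  · exact ⟨(factsC h).1, (factsC h).2.1, (factsC h).2.2.2⟩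
  · exact ⟨(factsD h).1, (factsD h).2.1, (factsD h).2.2.2⟩

theorem Af_explicit : ∀ y ∈ Af, ∃ k ∈ S4600, y = vecK k := by
  have h := S4600_ok
  rw [Bool.and_eq_true, Nat.beq_eq] at h
  exact explicit_set Af 4600 Af_ncard (by norm_num) S4600 (fun k hk => S4600_mem hk) h.1 h.2

/-- the 2025 points, as integer vectors -/
def Xf : Set (GolayPt → ℤ) :=
  {y | y ∈ leechLattice ∧ sqNorm y = 32 ∧ dotInt v0.1 y = 0 ∧ dotInt w0.1 y = 16}

theorem Xf_iff (y : GolayPt → ℤ) : y ∈ Xf ↔ ∃ k ∈ KA, y = vecK k := by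
  constructor
  · rintro ⟨h1, h2, h3, h4⟩
    obtain ⟨k, hk, rfl⟩ := Af_explicit y ⟨h1, h2, h4⟩
    rcases S4600_cases hk with h | h | h | h
    · exact ⟨k, h, rfl⟩
    · have := (factsB h).2.2.1
      rw [h3] at this; norm_num at this
    · have := (factsC h).2.2.1
      rw [h3] at this; norm_num at this
    · have := (factsD h).2.2.1
      rw [h3] at this; norm_num at this
  · rintro ⟨k, hk, rfl⟩
    exact factsA hk

theorem KA_ok' : strictInc (16 ^ 24) KA = true ∧ KA.length = 2025 := by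
  have h := KA_ok
  rw [Bool.and_eq_true, Nat.beq_eq] at h
  exact h

theorem Xf_ncard : Xf.ncard = 2025 := by
  have : Xf = {y : GolayPt → ℤ | ∃ k ∈ KA, y = vecK k} := by
    ext y; exact Xf_iff y
  rw [this, ncard_explicit KA KA_ok'.1, KA_ok'.2]

/-- the stabiliser of the base vectors is transitive on the 2025 points -/
theorem Xf_reach {a : leechLattice} (ha : a.1 ∈ Xf) : ∃ g ∈ H2, g a0 = a := by
  obtain ⟨k, hk, e⟩ := (Xf_iff a.1).mp ha
  obtain ⟨_, g, hg, e'⟩ := rkA k hk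
  exact ⟨g, hg, Subtype.ext (by rw [e', e])⟩

theorem Xf_trans {a b : leechLattice} (ha : a.1 ∈ Xf) (hb : b.1 ∈ Xf) : ∃ g ∈ H2, g a = b := by
  obtain ⟨g1, hg1, e1⟩ := Xf_reach ha
  obtain ⟨g2, hg2, e2⟩ := Xf_reach hb
  refine ⟨g2 * g1⁻¹, H2.mul_mem hg2 (H2.inv_mem hg1), ?_⟩
  rw [← e1, ← e2]
  simp

theorem a0_mem : a0.1 ∈ Xf := by
  obtain ⟨b1, b2, b3⟩ := base_of baseA
  exact ⟨a0.2, b1, b2, b3⟩

theorem ka0_mem : ka0 ∈ KA := by
  obtain ⟨k, hk, e⟩ := (Xf_iff a0.1).mp a0_mem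
  have hB := (strictInc_spec _ KA KA_ok'.1).2
  have h0 : ka0 < 16 ^ 24 := by decide +kernel
  have : ka0 = k := vecK_injOn h0 (hB k hk) e
  rw [this]; exact hk

theorem H3_le {g : Equiv.Perm leechLattice} (hg : g ∈ H3) : g ∈ H2 :=
  ⟨hg.1, fun b hb => by
    simp only [List.mem_cons, List.not_mem_nil, or_false] at hb
    rcases hb with rfl | rfl
    · exact hg.2 _ (by simp)
    · exact hg.2 _ (by simp)⟩

theorem H3_a0 {g : Equiv.Perm leechLattice} (hg : g ∈ H3) : g a0 = a0 := hg.2 a0 (by simp)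

/-- the points with a given inner product with the base point -/
def Yf (c : ℤ) : Set (GolayPt → ℤ) :=
  {y | y ∈ leechLattice ∧ (sqNorm y = 32 ∧ dotInt v0.1 y = 0 ∧ dotInt w0.1 y = 16) ∧
    dotInt a0.1 y = c}

theorem mem_KY0 {k : ℕ} : k ∈ KY0 ↔ k ∈ KA ∧ dotK ka0 k = 0 := by
  unfold KY0
  rw [List.mem_filter, decide_eq_true_eq]

theorem mem_KY16 {k : ℕ} : k ∈ KY16 ↔ k ∈ KA ∧ dotK ka0 k = 16 := by
  unfold KY16
  rw [List.mem_filter, decide_eq_true_eq]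

theorem mem_KY8 {k : ℕ} : k ∈ KY8 ↔ k ∈ KA ∧ dotK ka0 k = 8 := by
  unfold KY8
  rw [List.mem_filter, decide_eq_true_eq]

theorem Yf_iff_aux (c : ℤ) (y : GolayPt → ℤ) :
    y ∈ Yf c ↔ ∃ k ∈ KA.filter (fun k => decide (dotK ka0 k = c)), y = vecK k := by
  constructor
  · rintro ⟨h1, ⟨h2, h3, h4⟩, h5⟩
    obtain ⟨k, hk, rfl⟩ := (Xf_iff y).mp ⟨h1, h2, h3, h4⟩
    refine ⟨k, ?_, rfl⟩
    rw [List.mem_filter, decide_eq_true_eq]
    refine ⟨hk, ?_⟩
    rw [← dotInt_vecK]; exact h5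
  · rintro ⟨k, hk, rfl⟩
    rw [List.mem_filter, decide_eq_true_eq] at hk
    obtain ⟨hk1, hk2⟩ := hk
    obtain ⟨h1, h2, h3, h4⟩ := (Xf_iff (vecK k)).mpr ⟨k, hk1, rfl⟩
    refine ⟨h1, ⟨h2, h3, h4⟩, ?_⟩
    show dotInt (vecK ka0) (vecK k) = c
    rw [dotInt_vecK]; exact hk2

set_option maxRecDepth 100000 in
theorem KY_inc : (strictInc (16 ^ 24) KY0 && strictInc (16 ^ 24) KY16 && strictInc (16 ^ 24) KY8) = true := by
  decide +kernel

theorem KY_inc' : strictInc (16 ^ 24) KY0 = true ∧ strictInc (16 ^ 24) KY16 = true ∧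
    strictInc (16 ^ 24) KY8 = true := by
  have h := KY_inc
  rw [Bool.and_eq_true, Bool.and_eq_true] at h
  exact ⟨h.1.1, h.1.2, h.2⟩

theorem KY_len' : KY0.length = 330 ∧ KY16.length = 462 ∧ KY8.length = 1232 := by
  have h := KY_len
  rw [Bool.and_eq_true, Bool.and_eq_true, Nat.beq_eq, Nat.beq_eq, Nat.beq_eq] at h
  exact ⟨h.1.1, h.1.2, h.2⟩

theorem Y0_ncard : (Yf 0).ncard = 330 := by
  have : Yf 0 = {y : GolayPt → ℤ | ∃ k ∈ KY0, y = vecK k} := by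
    ext y; exact Yf_iff_aux 0 y
  rw [this, ncard_explicit KY0 KY_inc'.1, KY_len'.1]

theorem Y16_ncard : (Yf 16).ncard = 462 := by
  have : Yf 16 = {y : GolayPt → ℤ | ∃ k ∈ KY16, y = vecK k} := by
    ext y; exact Yf_iff_aux 16 y
  rw [this, ncard_explicit KY16 KY_inc'.2.1, KY_len'.2.1]

theorem Y8_ncard : (Yf 8).ncard = 1232 := by
  have : Yf 8 = {y : GolayPt → ℤ | ∃ k ∈ KY8, y = vecK k} := by
    ext y; exact Yf_iff_aux 8 y
  rw [this, ncard_explicit KY8 KY_inc'.2.2, KY_len'.2.2]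

theorem trans_of_reach {y : leechLattice} {a b : leechLattice} (ha : ∃ g ∈ H3, g y = a)
    (hb : ∃ g ∈ H3, g y = b) : ∃ g ∈ H3, g a = b := by
  obtain ⟨g1, hg1, e1⟩ := ha
  obtain ⟨g2, hg2, e2⟩ := hb
  refine ⟨g2 * g1⁻¹, H3.mul_mem hg2 (H3.inv_mem hg1), ?_⟩
  rw [← e1, ← e2]
  simp

theorem reach0 {a : leechLattice} {k : ℕ} (hk : k ∈ KY0) (e : a.1 = vecK k) :
    ∃ g ∈ H3, g y0 = a := by
  obtain ⟨_, g, hg, e'⟩ := rkY0 k hk
  exact ⟨g, hg, Subtype.ext (by rw [e', e])⟩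

theorem reach16 {a : leechLattice} {k : ℕ} (hk : k ∈ KY16) (e : a.1 = vecK k) :
    ∃ g ∈ H3, g y16 = a := by
  obtain ⟨_, g, hg, e'⟩ := rkY16 k hk
  exact ⟨g, hg, Subtype.ext (by rw [e', e])⟩

theorem reach8 {a : leechLattice} {k : ℕ} (hk : k ∈ KY8) (e : a.1 = vecK k) :
    ∃ g ∈ H3, g y8 = a := by
  obtain ⟨_, g, hg, e'⟩ := rkY8 k hk
  exact ⟨g, hg, Subtype.ext (by rw [e', e])⟩

/-- rank 4: the point stabiliser is transitive on the points with a given inner product -/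
theorem base_trans {a b : leechLattice} (ha : a.1 ∈ Xf) (hb : b.1 ∈ Xf) (hax : a ≠ a0)
    (hd : dotInt a0.1 a.1 = dotInt a0.1 b.1) : ∃ g ∈ H3, g a = b := by
  obtain ⟨k, hk, ea⟩ := (Xf_iff a.1).mp ha
  obtain ⟨k', hk', eb⟩ := (Xf_iff b.1).mp hb
  have hk0 : k ≠ ka0 := by
    rintro rfl
    exact hax (Subtype.ext ea)
  have hdk : dotK ka0 k = dotK ka0 k' := by
    rw [← dotInt_vecK, ← dotInt_vecK, ← ea, ← eb]; exact hd
  have hall := KA_dots
  rw [List.all_eq_true] at hall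
  have h1 := hall k hk
  simp only [Bool.or_eq_true, Nat.beq_eq, decide_eq_true_eq] at h1
  rcases h1 with ((h1 | h1) | h1) | h1
  · exact absurd h1 hk0
  · exact trans_of_reach (reach0 (mem_KY0.mpr ⟨hk, h1⟩) ea)
      (reach0 (mem_KY0.mpr ⟨hk', by rw [← hdk]; exact h1⟩) eb)
  · exact trans_of_reach (reach16 (mem_KY16.mpr ⟨hk, h1⟩) ea)
      (reach16 (mem_KY16.mpr ⟨hk', by rw [← hdk]; exact h1⟩) eb)
  · exact trans_of_reach (reach8 (mem_KY8.mpr ⟨hk, h1⟩) ea)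
      (reach8 (mem_KY8.mpr ⟨hk', by rw [← hdk]; exact h1⟩) eb)

/-- the start vectors of the three suborbits -/
theorem y_mem : y0.1 ∈ Yf 0 ∧ y16.1 ∈ Yf 16 ∧ y8.1 ∈ Yf 8 := by
  have h0 : ky0 ∈ KY0 := by decide +kernel
  have h16 : ky16 ∈ KY16 := by decide +kernel
  have h8 : ky8 ∈ KY8 := by decide +kernel
  exact ⟨(Yf_iff_aux 0 _).mpr ⟨ky0, h0, rfl⟩, (Yf_iff_aux 16 _).mpr ⟨ky16, h16, rfl⟩,
    (Yf_iff_aux 8 _).mpr ⟨ky8, h8, rfl⟩⟩

/-- transport of the defining conditions of the 2025 points -/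
theorem X_transport {v w : leechLattice} {g : Equiv.Perm leechLattice} (hg : g ∈ Co0)
    (ev : g v = v0) (ew : g w = w0) (x : leechLattice) :
    (sqNorm x.1 = 32 ∧ dotInt v.1 x.1 = 0 ∧ dotInt w.1 x.1 = 16) ↔ (g x).1 ∈ Xf := by
  have h1 : sqNorm (g x).1 = sqNorm x.1 := hg.2 x
  have h2 : dotInt v0.1 (g x).1 = dotInt v.1 x.1 := by
    rw [← ev, co0_dot g hg]
  have h3 : dotInt w0.1 (g x).1 = dotInt w.1 x.1 := by
    rw [← ew, co0_dot g hg]
  constructor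
  · rintro ⟨a, b, c⟩
    exact ⟨(g x).2, by rw [h1]; exact a, by rw [h2]; exact b, by rw [h3]; exact c⟩
  · rintro ⟨_, a, b, c⟩
    exact ⟨by rw [← h1]; exact a, by rw [← h2]; exact b, by rw [← h3]; exact c⟩

theorem sqNorm_add' (a b : GolayPt → ℤ) :
    sqNorm (a + b) = sqNorm a + sqNorm b + 2 * dotInt a b := by
  unfold sqNorm dotInt
  rw [Finset.mul_sum, ← Finset.sum_add_distrib, ← Finset.sum_add_distrib]
  apply Finset.sum_congr rfl
  intro i _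
  simp only [Pi.add_apply]
  ring

/-- moving a pair of minimal vectors with inner product `-8` to the base pair -/
theorem move2 (v w : leechLattice) (hv : sqNorm v.1 = 32) (hw : sqNorm w.1 = 32)
    (hvw : dotInt v.1 w.1 = -8) : ∃ g ∈ Co0, g v = v0 ∧ g w = w0 := by
  have hu : sqNorm (v + w : leechLattice).1 = 48 := by
    show sqNorm (v.1 + w.1) = 48
    rw [sqNorm_add', hv, hw, hvw]; norm_num
  have huv : sqNorm ((v + w : leechLattice).1 - v.1) = 32 := by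
    have : (v + w : leechLattice).1 - v.1 = w.1 := by
      show v.1 + w.1 - v.1 = w.1
      abel
    rw [this]; exact hw
  obtain ⟨g, hg, eu, ev⟩ := move_base (v + w) v hu hv huv
  refine ⟨g, hg, ev, ?_⟩
  have h1 : g w = g (v + w) - g v := by
    rw [← co0_sub g hg]
    congr 1
    abel
  rw [h1, eu, ev]
  show v0 + w0 - v0 = w0
  abel

/-- moving a configuration with a point to the base configuration -/
theorem move3 (v w x : leechLattice) (hv : sqNorm v.1 = 32) (hw : sqNorm w.1 = 32)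
    (hvw : dotInt v.1 w.1 = -8)
    (hx : sqNorm x.1 = 32 ∧ dotInt v.1 x.1 = 0 ∧ dotInt w.1 x.1 = 16) :
    ∃ g ∈ Co0, g v = v0 ∧ g w = w0 ∧ g x = a0 := by
  obtain ⟨g0, hg0, ev, ew⟩ := move2 v w hv hw hvw
  have hx' := (X_transport hg0 ev ew x).mp hx
  obtain ⟨h, hh, e⟩ := Xf_reach hx'
  have hhi : h⁻¹ ∈ H2 := H2.inv_mem hh
  refine ⟨h⁻¹ * g0, Co0.mul_mem hhi.1 hg0, ?_, ?_, ?_⟩
  · rw [Equiv.Perm.mul_apply, ev, hhi.2 v0 (by simp)]
  · rw [Equiv.Perm.mul_apply, ew, hhi.2 w0 (by simp)]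
  · rw [Equiv.Perm.mul_apply, ← e]
    simp

end Cfsg.Agent.Helper26.LO1634
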