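import Mathlib
import Cfsg.Agent.Lib.Helper7.LeechBasic
import Cfsg.Agent.Lib.Helper7.OctadSpan

set_option autoImplicit false

namespace Cfsg.Agent.Helper26
open Cfsg Cfsg.Agent.Helper7 Cfsg.Agent.Helper91

/-- The set of minimal vectors. -/
def leechMin : Set (GolayPt → ℤ) := {x | x ∈ leechLattice ∧ sqNorm x = 32}

/-- The subgroup they generate. -/
def leechMinGen : AddSubgroup (GolayPt → ℤ) := AddSubgroup.closure leechMin

theorem leechMinGen_le : leechMinGen ≤ leechLattice :=
  (AddSubgroup.closure_le _).mpr (fun _ hx => hx.1)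

theorem red_eq_zero_of_even (a : GolayPt → ℤ) (h : ∀ i, Even (a i)) : red a = 0 := by
  funext p
  exact (red_apply_eq_zero_iff a p).mpr (h p)

/-- `4 e_a + 4 s e_b`. -/
def v44 (a b : GolayPt) (s : ℤ) : GolayPt → ℤ :=
  fun i => (if i = a then 4 else 0) + (if i = b then 4 * s else 0)

theorem v44_mem_min (a b : GolayPt) (hab : a ≠ b) (s : ℤ) (hs : s = 1 ∨ s = -1) :
    v44 a b s ∈ leechMin := by
  constructor
  · rw [mem_leechLattice_iff]
    refine ⟨0, fun i => (if i = a then 2 else 0) + (if i = b then 2 * s else 0), fun i => ?_, ?_, ?_⟩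
    · show v44 a b s i = 0 + 2 * ((if i = a then 2 else 0) + (if i = b then 2 * s else 0))
      unfold v44
      split_ifs <;> ring
    · rw [red_eq_zero_of_even]
      · exact Submodule.zero_mem _
      · intro i
        show Even ((if i = a then (2:ℤ) else 0) + (if i = b then 2 * s else 0))
        rcases hs with rfl | rfl <;> split_ifs <;> decide
    · unfold v44
      rw [Finset.sum_add_distrib, Finset.sum_ite_eq', Finset.sum_ite_eq']
      simp only [Finset.mem_univ, if_true]
      rcases hs with rfl | rfl <;> decide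
  · unfold sqNorm v44
    have : ∀ i : GolayPt, ((if i = a then (4:ℤ) else 0) + (if i = b then 4 * s else 0)) ^ 2 =
        (if i = a then 16 else 0) + (if i = b then 16 else 0) := by
      intro i
      have hs2 : (4 * s) ^ 2 = 16 := by rcases hs with rfl | rfl <;> norm_num
      by_cases h1 : i = a
      · have h2 : i ≠ b := fun h => hab (h1.symm.trans h)
        simp [h1, hab]
      · by_cases h2 : i = b
        · subst h2
          rw [if_neg h1, if_neg h1, if_pos rfl, if_pos rfl, zero_add, zero_add]
          exact hs2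
        · simp [h1, h2]
    rw [Finset.sum_congr rfl (fun i _ => this i), Finset.sum_add_distrib, Finset.sum_ite_eq',
      Finset.sum_ite_eq']
    simp

/-- `2 · 1_O`. -/
def v2 (O : Finset GolayPt) : GolayPt → ℤ := fun i => if i ∈ O then 2 else 0

theorem red_ind (O : Finset GolayPt) : red (fun i => if i ∈ O then (1:ℤ) else 0) = indW O := by
  funext p
  unfold red indW
  split_ifs <;> simp_all

theorem v2_mem_min (O : Finset GolayPt) (hO : O ∈ octads) : v2 O ∈ leechMin := by
  have hcode : indW O ∈ (golayCode : Set W) := (mem_supports_iff _ _).mp hO.1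
  have hcard : O.card = 8 := hO.2
  constructor
  · rw [mem_leechLattice_iff]
    refine ⟨0, fun i => if i ∈ O then 1 else 0, fun i => ?_, ?_, ?_⟩
    · show v2 O i = 0 + 2 * (if i ∈ O then 1 else 0)
      unfold v2
      split_ifs <;> ring
    · rw [red_ind]; exact hcode
    · unfold v2
      rw [Finset.sum_ite_mem, Finset.univ_inter, Finset.sum_const, hcard]
      decide
  · unfold sqNorm v2
    have : ∀ i : GolayPt, (if i ∈ O then (2:ℤ) else 0) ^ 2 = if i ∈ O then 4 else 0 := by
      intro i; split_ifs <;> norm_num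
    rw [Finset.sum_congr rfl (fun i _ => this i), Finset.sum_ite_mem, Finset.univ_inter,
      Finset.sum_const, hcard]
    norm_num

/-- `(-3, 1^23)`. -/
def v31 (p : GolayPt) : GolayPt → ℤ := fun i => if i = p then -3 else 1

theorem v31_mem_min (p : GolayPt) : v31 p ∈ leechMin := by
  constructor
  · rw [mem_leechLattice_iff]
    refine ⟨1, fun i => if i = p then -2 else 0, fun i => ?_, ?_, ?_⟩
    · show v31 p i = 1 + 2 * (if i = p then -2 else 0)
      unfold v31
      split_ifs <;> ring
    · rw [red_eq_zero_of_even]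
      · exact Submodule.zero_mem _
      · intro i
        show Even (if i = p then (-2:ℤ) else 0)
        split_ifs <;> decide
    · unfold v31
      have : ∀ i : GolayPt, (if i = p then (-3:ℤ) else 1) = (if i = p then -4 else 0) + 1 := by
        intro i; split_ifs <;> norm_num
      rw [Finset.sum_congr rfl (fun i _ => this i), Finset.sum_add_distrib, Finset.sum_ite_eq']
      simp only [Finset.mem_univ, if_true]
      rw [card_golayPt_sum]
      decide
  · unfold sqNorm v31
    have : ∀ i : GolayPt, (if i = p then (-3:ℤ) else 1) ^ 2 = (if i = p then 8 else 0) + 1 := by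
      intro i; split_ifs <;> norm_num
    rw [Finset.sum_congr rfl (fun i _ => this i), Finset.sum_add_distrib, Finset.sum_ite_eq']
    simp only [Finset.mem_univ, if_true]
    rw [card_golayPt_sum]
    norm_num

theorem v44_mem_gen (a b : GolayPt) (hab : a ≠ b) (s : ℤ) (hs : s = 1 ∨ s = -1) :
    v44 a b s ∈ leechMinGen :=
  AddSubgroup.subset_closure (v44_mem_min a b hab s hs)

/-- `4 e_i - 4 e_p ∈ ⟨min⟩` (also when `i = p`). -/
theorem diff_mem_gen (i p : GolayPt) :
    (fun j => (if j = i then (4:ℤ) else 0) - (if j = p then 4 else 0)) ∈ leechMinGen := by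
  by_cases h : i = p
  · subst h
    have : (fun j => (if j = i then (4:ℤ) else 0) - (if j = i then 4 else 0)) = 0 := by
      funext j; simp
    rw [this]; exact AddSubgroup.zero_mem _
  · have : (fun j => (if j = i then (4:ℤ) else 0) - (if j = p then 4 else 0)) = v44 i p (-1) := by
      funext j; unfold v44; split_ifs <;> ring
    rw [this]; exact v44_mem_gen i p h (-1) (Or.inr rfl)

theorem eight_mem_gen (p : GolayPt) :
    (fun j => if j = p then (8:ℤ) else 0) ∈ leechMinGen := by
  obtain ⟨q, hq⟩ : ∃ q : GolayPt, p ≠ q := by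
    by_cases h : p = none
    · exact ⟨some 0, by rw [h]; simp⟩
    · exact ⟨none, h⟩
  have : (fun j => if j = p then (8:ℤ) else 0) = v44 p q 1 + v44 p q (-1) := by
    funext j; simp only [Pi.add_apply]; unfold v44; split_ifs <;> ring
  rw [this]
  exact AddSubgroup.add_mem _ (v44_mem_gen p q hq 1 (Or.inl rfl)) (v44_mem_gen p q hq (-1) (Or.inr rfl))

/-- The `D₂₄`-part: `4 b` with `∑ b` even. -/
theorem four_mul_mem_gen (b : GolayPt → ℤ) (hb : Even (∑ i, b i)) :
    (fun j => 4 * b j) ∈ leechMinGen := by
  obtain ⟨k, hk⟩ := hb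
  have key : (fun j => 4 * b j) =
      ∑ i, b i • (fun j => (if j = i then (4:ℤ) else 0) - (if j = (none : GolayPt) then 4 else 0))
        + k • (fun j => if j = (none : GolayPt) then (8:ℤ) else 0) := by
    funext j
    simp only [Pi.add_apply, Finset.sum_apply, Pi.smul_apply, smul_eq_mul, mul_sub,
      Finset.sum_sub_distrib, mul_ite, mul_zero, Finset.sum_ite_eq, Finset.mem_univ, if_true]
    by_cases h : j = none
    · simp only [h, if_true]
      rw [← Finset.sum_mul, hk]; ring
    · simp only [h, if_false]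
      simp; ring
  rw [key]
  refine AddSubgroup.add_mem _ (AddSubgroup.sum_mem _ (fun i _ => ?_)) ?_
  · exact AddSubgroup.zsmul_mem _ (diff_mem_gen i none) _
  · exact AddSubgroup.zsmul_mem _ (eight_mem_gen none) _

/-- Every code word lifts to an integer vector `a` with `2a ∈ ⟨min⟩`. -/
theorem exists_lift_mem_gen (c : W) (hc : c ∈ golayCode) :
    ∃ a : GolayPt → ℤ, red a = c ∧ (fun j => 2 * a j) ∈ leechMinGen := by
  rw [golayCode_eq_span_octads] at hc
  induction hc using Submodule.span_induction with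
  | mem x hx =>
    obtain ⟨O, hO, rfl⟩ := hx
    refine ⟨fun i => if i ∈ O then 1 else 0, red_ind O, ?_⟩
    have : (fun j => 2 * (if j ∈ O then (1:ℤ) else 0)) = v2 O := by
      funext j; unfold v2; split_ifs <;> ring
    rw [this]
    exact AddSubgroup.subset_closure (v2_mem_min O hO)
  | zero =>
    refine ⟨0, red_zero, ?_⟩
    have : (fun j => 2 * (0 : GolayPt → ℤ) j) = 0 := by funext j; simp
    rw [this]; exact AddSubgroup.zero_mem _
  | add x y _ _ hx hy =>
    obtain ⟨a, ha, ha'⟩ := hx
    obtain ⟨b, hb, hb'⟩ := hy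
    refine ⟨a + b, by rw [red_add, ha, hb], ?_⟩
    have : (fun j => 2 * (a + b) j) = (fun j => 2 * a j) + (fun j => 2 * b j) := by
      funext j; simp only [Pi.add_apply]; ring
    rw [this]; exact AddSubgroup.add_mem _ ha' hb'
  | smul r x _ hx =>
    obtain ⟨a, ha, ha'⟩ := hx
    have hr : r = 0 ∨ r = 1 := by revert r; decide
    rcases hr with rfl | rfl
    · refine ⟨0, by rw [red_zero, zero_smul], ?_⟩
      have : (fun j => 2 * (0 : GolayPt → ℤ) j) = 0 := by funext j; simp
      rw [this]; exact AddSubgroup.zero_mem _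
    · exact ⟨a, by rw [ha, one_smul], ha'⟩

/-- Sum of an even lattice vector is `0` mod `8`. -/
theorem sum_even_mod8 (x : GolayPt → ℤ) (hx : x ∈ leechLattice) (i0 : GolayPt) (h0 : Even (x i0)) :
    (∑ i, x i) ≡ 0 [ZMOD 8] := by
  obtain ⟨m, a, h1, _, h3⟩ := (mem_leechLattice_iff x).mp hx
  refine h3.trans ?_
  obtain ⟨c, hc⟩ := h0
  have := h1 i0
  rw [Int.modEq_iff_dvd]
  exact ⟨-(c - a i0), by linarith⟩

theorem even_mem_gen (x : GolayPt → ℤ) (hx : x ∈ leechLattice) (hev : ∀ i, Even (x i)) :
    x ∈ leechMinGen := by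
  obtain ⟨m, a, hm, h1, h2, h3⟩ := LP_normalize ((mem_leechLattice_iff x).mp hx)
  have hm0 : m = 0 := by
    rcases hm with rfl | rfl
    · rfl
    · exfalso
      obtain ⟨c, hc⟩ := hev none
      have := h1 none
      omega
  subst hm0
  obtain ⟨a', hred, hmem⟩ := exists_lift_mem_gen (red a) h2
  have hL : (fun j => 2 * a' j) ∈ leechLattice := leechMinGen_le hmem
  have hs1 : (∑ i, x i) ≡ 0 [ZMOD 8] := sum_even_mod8 x hx none (hev none)
  have hs2 : (∑ i, 2 * a' i) ≡ 0 [ZMOD 8] := sum_even_mod8 _ hL none ⟨a' none, by ring⟩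
  -- a - a' is even
  have hdiff : ∀ i, Even (a i - a' i) := by
    intro i
    show Even ((a - a') i)
    rw [← red_apply_eq_zero_iff (a - a') i]
    have : red (a - a') = 0 := by
      rw [sub_eq_add_neg, red_add, red_neg, hred]; simp
    rw [this]; rfl
  have hb : ∀ i, a i - a' i = 2 * ((a i - a' i) / 2) := by
    intro i
    obtain ⟨c, hc⟩ := hdiff i
    omega
  have hx' : x = (fun j => 2 * a' j) + (fun j => 4 * ((a j - a' j) / 2)) := by
    funext j
    simp only [Pi.add_apply]
    have := hb j
    have := h1 j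
    linarith
  rw [hx']
  refine AddSubgroup.add_mem _ hmem (four_mul_mem_gen _ ?_)
  -- parity of the sum
  have hsum : (∑ i, x i) = (∑ i, 2 * a' i) + 4 * ∑ i, (a i - a' i) / 2 := by
    rw [Finset.mul_sum, ← Finset.sum_add_distrib]
    refine Finset.sum_congr rfl (fun j _ => ?_)
    have := hb j
    have := h1 j
    linarith
  have h8 : (8 : ℤ) ∣ 4 * ∑ i, (a i - a' i) / 2 := by
    have e1 := Int.emod_emod_of_dvd (∑ i, x i) (dvd_refl (8:ℤ))
    have d1 : (8:ℤ) ∣ ∑ i, x i := Int.modEq_zero_iff_dvd.mp hs1
    have d2 : (8:ℤ) ∣ ∑ i, 2 * a' i := Int.modEq_zero_iff_dvd.mp hs2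
    have : 4 * ∑ i, (a i - a' i) / 2 = (∑ i, x i) - ∑ i, 2 * a' i := by linarith
    rw [this]
    exact dvd_sub d1 d2
  obtain ⟨c, hc⟩ := h8
  exact ⟨c, by omega⟩

theorem leechMinGen_eq : leechMinGen = leechLattice := by
  apply le_antisymm leechMinGen_le
  intro x hx
  obtain ⟨m, a, hm, h1, _, _⟩ := LP_normalize ((mem_leechLattice_iff x).mp hx)
  rcases hm with rfl | rfl
  · exact even_mem_gen x hx (fun i => ⟨a i, by rw [h1 i]; ring⟩)
  · have hv : v31 none ∈ leechMinGen := AddSubgroup.subset_closure (v31_mem_min none)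
    have hsub : x - v31 none ∈ leechMinGen := by
      apply even_mem_gen _ (AddSubgroup.sub_mem _ hx (leechMinGen_le hv))
      intro i
      simp only [Pi.sub_apply, h1 i]
      unfold v31
      split_ifs
      · exact ⟨a i + 2, by ring⟩
      · exact ⟨a i, by ring⟩
    have : x = (x - v31 none) + v31 none := by abel
    rw [this]
    exact AddSubgroup.add_mem _ hsub hv

end Cfsg.Agent.Helper26
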