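import Mathlib
import Cfsg.Agent.Lib.Helper26.LeechOrbP

/-!
# Explicit descriptions of finite sets of lattice vectors by lists of keys
-/

set_option autoImplicit false

namespace Cfsg.Agent.Helper26.LOX
open Cfsg Cfsg.Agent.Helper7 Cfsg.Agent.Helper26 Cfsg.Agent.Helper26.LOP

theorem nodup_map_vecK (S : List ℕ) (hinc : strictInc (16 ^ 24) S = true) : (S.map vecK).Nodup := by
  obtain ⟨hp, hB⟩ := strictInc_spec _ S hinc
  rw [List.nodup_map_iff_inj_on (hp.imp (fun h => ne_of_lt h))]
  intro a ha b hb hab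
  exact vecK_injOn (hB a ha) (hB b hb) hab

theorem ncard_explicit (S : List ℕ) (hinc : strictInc (16 ^ 24) S = true) :
    {y : GolayPt → ℤ | ∃ k ∈ S, y = vecK k}.ncard = S.length := by
  have : {y : GolayPt → ℤ | ∃ k ∈ S, y = vecK k} = (↑(S.map vecK).toFinset : Set (GolayPt → ℤ)) := by
    ext y
    simp only [Set.mem_setOf_eq, List.coe_toFinset, List.mem_map]
    constructor
    · rintro ⟨k, hk, rfl⟩; exact ⟨k, hk, rfl⟩
    · rintro ⟨k, hk, rfl⟩; exact ⟨k, hk, rfl⟩
  rw [this, Set.ncard_coe_finset, List.toFinset_card_of_nodup (nodup_map_vecK S hinc),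
    List.length_map]

/-- a set of known cardinality containing `N` explicit distinct vectors consists of them -/
theorem explicit_set (V : Set (GolayPt → ℤ)) (N : ℕ) (hN : V.ncard = N) (hNpos : 0 < N)
    (S : List ℕ) (hS : ∀ k ∈ S, vecK k ∈ V) (hinc : strictInc (16 ^ 24) S = true)
    (hlen : S.length = N) : ∀ y ∈ V, ∃ k ∈ S, y = vecK k := by
  have hfin : V.Finite := Set.finite_of_ncard_pos (by omega)
  have hTV : {y : GolayPt → ℤ | ∃ k ∈ S, y = vecK k} ⊆ V := by
    rintro y ⟨k, hk, rfl⟩
    exact hS k hk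
  have hEq := Set.eq_of_subset_of_ncard_le hTV (by rw [hN, ncard_explicit S hinc, hlen]) hfin
  intro y hy
  rw [← hEq] at hy
  exact hy

/-- check that `k2` is the key of the difference of the vectors of `ku` and `k` -/
def subKeyOK (ku k k2 : ℕ) : Bool :=
  (List.range 24).all fun i => decide (coordK k2 i = coordK ku i - coordK k i)

theorem subKeyOK_spec {ku k k2 : ℕ} (h : subKeyOK ku k k2 = true) :
    vecK k2 = vecK ku - vecK k := by
  unfold subKeyOK at h
  simp only [List.all_eq_true, List.mem_range, decide_eq_true_eq] at h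
  funext p
  exact h (Helper7.idx p) (Helper7.idx_lt p)

/-- check that `k2` is the key of the sum of the vectors of `ka` and `kb` -/
def addKeyOK (ka kb k2 : ℕ) : Bool :=
  (List.range 24).all fun i => decide (coordK k2 i = coordK ka i + coordK kb i)

theorem addKeyOK_spec {ka kb k2 : ℕ} (h : addKeyOK ka kb k2 = true) :
    vecK k2 = vecK ka + vecK kb := by
  unfold addKeyOK at h
  simp only [List.all_eq_true, List.mem_range, decide_eq_true_eq] at h
  funext p
  exact h (Helper7.idx p) (Helper7.idx_lt p)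

/-- sets of lattice elements and sets of integer vectors -/
theorem ncard_subtype (P : (GolayPt → ℤ) → Prop) :
    {x : ↥leechLattice | P x.1}.ncard = {y : GolayPt → ℤ | y ∈ leechLattice ∧ P y}.ncard := by
  rw [← Set.ncard_image_of_injective {x : ↥leechLattice | P x.1} Subtype.val_injective]
  congr 1
  ext y
  simp only [Set.mem_image, Set.mem_setOf_eq]
  constructor
  · rintro ⟨x, hx, rfl⟩; exact ⟨x.2, hx⟩
  · rintro ⟨hy, hP⟩; exact ⟨⟨y, hy⟩, hP, rfl⟩

end Cfsg.Agent.Helper26.LOX
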