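import Mathlib
import Cfsg.Prelude.Def_Blocks
import Cfsg.Agent.Lib.Helper78.CharSchur
import Cfsg.Agent.Lib.Helper78.CharCount
import Cfsg.Agent.Lib.Helper79.M11CTMN
import Cfsg.Agent.Lib.Helper85.M11CTCY

/-!
# M11CT (CT11) `eleven_class_data` (helper49's server for S4429), written by helper26.
-/

set_option autoImplicit false

namespace Cfsg.Agent.Helper26.M11CT

open Cfsg
open scoped ComplexConjugate

universe u

private theorem h26_pow_mod11 (ζ : ℂ) (hζ : ζ ^ 11 = 1) (r q : ℕ) : ζ ^ (r + 11 * q) = ζ ^ r := by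
  rw [pow_add, pow_mul, hζ, one_pow, mul_one]

/-- Values of a class function on the powers of `x` (`x` of order 11, `x ~ x^3`). -/
private theorem h26_values {G : Type u} [Group G] (f : G → ℂ) (hf : IsClassFunction G f) (x : G)
    (hx : orderOf x = 11) (h3 : IsConj x (x ^ 3)) :
    f (x ^ 0) = f 1 ∧ f (x ^ 1) = f x ∧ f (x ^ 3) = f x ∧ f (x ^ 4) = f x ∧ f (x ^ 5) = f x ∧
    f (x ^ 9) = f x ∧ f (x ^ 2) = f x⁻¹ ∧ f (x ^ 6) = f x⁻¹ ∧ f (x ^ 7) = f x⁻¹ ∧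
    f (x ^ 8) = f x⁻¹ ∧ f (x ^ 10) = f x⁻¹ := by
  obtain ⟨c, hc⟩ := isConj_iff.mp h3
  have hk : ∀ k j : ℕ, j = 3 * k → f (x ^ j) = f (x ^ k) := by
    intro k j hj
    have : x ^ j = c * x ^ k * c⁻¹ := by
      rw [hj, pow_mul, ← hc, conj_pow]
    rw [this]; exact hf _ _
  have h11 : x ^ 11 = 1 := by rw [← hx]; exact pow_orderOf_eq_one x
  have red : ∀ r q : ℕ, x ^ (r + 11 * q) = x ^ r := by
    intro r q
    rw [pow_add, pow_mul, h11, one_pow, mul_one]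
  have e10 : x ^ 10 = x⁻¹ := by
    apply eq_inv_of_mul_eq_one_left
    rw [← pow_succ]; exact h11
  have a3 : f (x ^ 3) = f x := by simpa using hk 1 3 rfl
  have a9 : f (x ^ 9) = f x := by rw [← a3]; exact hk 3 9 rfl
  have a5 : f (x ^ 5) = f x := by
    rw [← a9]
    have h := hk 9 27 rfl
    have e : x ^ 27 = x ^ 5 := red 5 2
    rwa [e] at h
  have a4 : f (x ^ 4) = f x := by
    rw [← a5]
    have h := hk 5 15 rfl
    have e : x ^ 15 = x ^ 4 := red 4 1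
    rwa [e] at h
  have b10 : f (x ^ 10) = f x⁻¹ := by rw [e10]
  have b8 : f (x ^ 8) = f x⁻¹ := by
    rw [← b10]
    have h := hk 10 30 rfl
    have e : x ^ 30 = x ^ 8 := red 8 2
    rwa [e] at h
  have b2 : f (x ^ 2) = f x⁻¹ := by
    rw [← b8]
    have h := hk 8 24 rfl
    have e : x ^ 24 = x ^ 2 := red 2 2
    rwa [e] at h
  have b6 : f (x ^ 6) = f x⁻¹ := by rw [← b2]; exact hk 2 6 rfl
  have b7 : f (x ^ 7) = f x⁻¹ := by
    rw [← b6]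
    have h := hk 6 18 rfl
    have e : x ^ 18 = x ^ 7 := red 7 1
    rwa [e] at h
  refine ⟨by rw [pow_zero], by rw [pow_one], a3, a4, a5, a9, b2, b6, b7, b8, b10⟩

private theorem h26_sum {G : Type u} [Group G] (f : G → ℂ) (x : G) (d s s' : ℂ)
    (h0 : f (x ^ 0) = d) (h1 : f (x ^ 1) = s) (h3 : f (x ^ 3) = s) (h4 : f (x ^ 4) = s)
    (h5 : f (x ^ 5) = s) (h9 : f (x ^ 9) = s) (h2 : f (x ^ 2) = s') (h6 : f (x ^ 6) = s')
    (h7 : f (x ^ 7) = s') (h8 : f (x ^ 8) = s') (h10 : f (x ^ 10) = s') (ζ : ℂ) :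
    ∑ k ∈ Finset.range 11, f (x ^ k) * ζ ^ (11 - k) =
      d * ζ ^ 11 + s * (ζ ^ 10 + ζ ^ 8 + ζ ^ 7 + ζ ^ 6 + ζ ^ 2) +
        s' * (ζ ^ 9 + ζ ^ 5 + ζ ^ 4 + ζ ^ 3 + ζ) := by
  simp only [Finset.sum_range_succ, Finset.sum_range_zero, zero_add]
  rw [h0, h1, h2, h3, h4, h5, h6, h7, h8, h9, h10]
  norm_num
  ring

/-- Own copy of (COL): column orthogonality at `x`. -/
private theorem h26_column_sums {G : Type u} [Group G] [Fintype G] [inst : Fintype (IrrCharacter G)]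
    (x : G) (hx1 : x ≠ 1) :
    (∑ χ : IrrCharacter G, (χ : G → ℂ) x * (χ : G → ℂ) x⁻¹ =
        (Nat.card (Subgroup.centralizer ({x} : Set G)) : ℂ)) ∧
    (∑ χ : IrrCharacter G, (χ : G → ℂ) 1 * (χ : G → ℂ) x = 0) ∧
    (∑ χ : IrrCharacter G, (χ : G → ℂ) 1 * (χ : G → ℂ) x⁻¹ = 0) ∧
    (¬ IsConj x x⁻¹ → (∑ χ : IrrCharacter G, (χ : G → ℂ) x * (χ : G → ℂ) x = 0) ∧
        (∑ χ : IrrCharacter G, (χ : G → ℂ) x⁻¹ * (χ : G → ℂ) x⁻¹ = 0)) := by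
  obtain rfl : inst = Cfsg.Agent.Helper78.irr_fintype := Subsingleton.elim _ _
  have hinv : ∀ (χ : IrrCharacter G) (g : G), (χ : G → ℂ) g⁻¹ = conj ((χ : G → ℂ) g) :=
    fun χ g => Cfsg.Agent.Helper78.IsIrrCharacter.inv χ.2 g
  have hone : ∀ χ : IrrCharacter G, conj ((χ : G → ℂ) 1) = (χ : G → ℂ) 1 := by
    intro χ
    rw [(Cfsg.Agent.Helper78.irr_charDegree χ.2).1]
    exact Complex.conj_natCast _
  have hnc : ∀ g : G, g ≠ 1 → ¬ IsConj g 1 := by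
    intro g hg h
    exact hg (isConj_one_left.mp h)
  refine ⟨?_, ?_, ?_, ?_⟩
  · have h := Cfsg.Agent.Helper78.sum_irr_mul_conj x x
    rw [if_pos (IsConj.refl x)] at h
    rw [← h]
    exact Finset.sum_congr rfl (fun χ _ => by rw [hinv])
  · have h := Cfsg.Agent.Helper78.sum_irr_mul_conj x (1 : G)
    rw [if_neg (hnc x hx1)] at h
    rw [← h]
    exact Finset.sum_congr rfl (fun χ _ => by rw [hone, mul_comm])
  · have h := Cfsg.Agent.Helper78.sum_irr_mul_conj x⁻¹ (1 : G)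
    rw [if_neg (hnc x⁻¹ (by simpa using hx1))] at h
    rw [← h]
    exact Finset.sum_congr rfl (fun χ _ => by rw [hone, mul_comm])
  · intro hn
    constructor
    · have h := Cfsg.Agent.Helper78.sum_irr_mul_conj x x⁻¹
      rw [if_neg hn] at h
      rw [← h]
      exact Finset.sum_congr rfl (fun χ _ => by rw [hinv, Complex.conj_conj])
    · have h := Cfsg.Agent.Helper78.sum_irr_mul_conj x⁻¹ x
      rw [if_neg (fun hc => hn hc.symm)] at h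
      rw [← h]
      exact Finset.sum_congr rfl (fun χ _ => by rw [hinv])

theorem eleven_class_data {G : Type u} [Group G] [Fintype G] [Fintype (IrrCharacter G)]
    (x : G) (hx : orderOf x = 11) (hC : Nat.card (Subgroup.centralizer ({x} : Set G)) = 11)
    (h3 : IsConj x (x ^ 3)) (hinv : ¬ IsConj x x⁻¹) :
    ∃ A B : IrrCharacter G → ℤ,
      (∀ χ : IrrCharacter G, (11 : ℤ) ∣ (charDegree (χ : G → ℂ) : ℤ) - A χ - 5 * B χ) ∧
      ∑ χ : IrrCharacter G, A χ ^ 2 = 6 ∧ ∑ χ : IrrCharacter G, A χ * B χ = 1 ∧ ∑ χ : IrrCharacter G, B χ ^ 2 = 2 ∧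
      ∑ χ : IrrCharacter G, (charDegree (χ : G → ℂ) : ℤ) * A χ = 0 ∧ ∑ χ : IrrCharacter G, (charDegree (χ : G → ℂ) : ℤ) * B χ = 0 := by
  obtain ⟨ζ, hζ, hζ1⟩ := Cfsg.Agent.Helper85.M11CT.exists_zeta
  obtain ⟨hsum, hprod⟩ := Cfsg.Agent.Helper85.M11CT.eta_identities ζ hζ hζ1
  have hx1 : x ≠ 1 := by
    rintro rfl
    simp at hx
  obtain ⟨c1, c2, c3, c45⟩ := h26_column_sums (G := G) x hx1
  obtain ⟨c4, c5⟩ := c45 hinv
  rw [hC] at c1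
  -- abbreviations
  obtain ⟨η, hη⟩ : ∃ η : ℂ, η = ζ + ζ ^ 3 + ζ ^ 4 + ζ ^ 5 + ζ ^ 9 := ⟨_, rfl⟩
  obtain ⟨η', hη'⟩ : ∃ η' : ℂ, η' = ζ ^ 2 + ζ ^ 6 + ζ ^ 7 + ζ ^ 8 + ζ ^ 10 := ⟨_, rfl⟩
  rw [← hη, ← hη'] at hsum hprod
  -- per character data
  have hdata : ∀ χ : IrrCharacter G, ∃ a b c : ℕ,
      (11 : ℂ) * a = (charDegree (χ : G → ℂ) : ℂ) + 5 * (χ : G → ℂ) x + 5 * (χ : G → ℂ) x⁻¹ ∧
      (11 : ℂ) * b = (charDegree (χ : G → ℂ) : ℂ) + (χ : G → ℂ) x * η' + (χ : G → ℂ) x⁻¹ * η ∧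
      (11 : ℂ) * c = (charDegree (χ : G → ℂ) : ℂ) + (χ : G → ℂ) x * η + (χ : G → ℂ) x⁻¹ * η' := by
    intro χ
    have hχ := Cfsg.Agent.Helper78.IsIrrCharacter.isCharacter χ.2
    have hcf := Cfsg.Agent.Helper78.IsCharacter.isClassFunction hχ
    obtain ⟨v0, v1, v3, v4, v5, v9, v2, v6, v7, v8, v10⟩ := h26_values χ.1 hcf x hx h3
    have hd := (Cfsg.Agent.Helper78.irr_charDegree χ.2).1
    have hζ10 : (ζ ^ 10) ^ 11 = 1 := by rw [← pow_mul, mul_comm, pow_mul, hζ, one_pow]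
    obtain ⟨a, ha⟩ := Cfsg.Agent.Helper79.M11CT.mult_nat hχ x 11 (by norm_num) hx 1 (by norm_num)
    obtain ⟨b, hb⟩ := Cfsg.Agent.Helper79.M11CT.mult_nat hχ x 11 (by norm_num) hx ζ hζ
    obtain ⟨c, hc⟩ := Cfsg.Agent.Helper79.M11CT.mult_nat hχ x 11 (by norm_num) hx (ζ ^ 10) hζ10
    rw [h26_sum χ.1 x _ _ _ (v0.trans hd) v1 v3 v4 v5 v9 v2 v6 v7 v8 v10] at ha hb hc
    refine ⟨a, b, c, ?_, ?_, ?_⟩
    · push_cast at ha
      rw [ha]; ring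
    · push_cast at hb
      rw [hb, hζ, hη, hη']; ring
    · push_cast at hc
      rw [hc, hζ10, hη, hη']
      have e100 : (ζ ^ 10) ^ 10 = ζ := by
        rw [← pow_mul]; simpa using h26_pow_mod11 ζ hζ 1 9
      have e80 : (ζ ^ 10) ^ 8 = ζ ^ 3 := by
        rw [← pow_mul]; exact h26_pow_mod11 ζ hζ 3 7
      have e70 : (ζ ^ 10) ^ 7 = ζ ^ 4 := by
        rw [← pow_mul]; exact h26_pow_mod11 ζ hζ 4 6
      have e60 : (ζ ^ 10) ^ 6 = ζ ^ 5 := by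
        rw [← pow_mul]; exact h26_pow_mod11 ζ hζ 5 5
      have e20 : (ζ ^ 10) ^ 2 = ζ ^ 9 := by
        rw [← pow_mul]; exact h26_pow_mod11 ζ hζ 9 1
      have e90 : (ζ ^ 10) ^ 9 = ζ ^ 2 := by
        rw [← pow_mul]; exact h26_pow_mod11 ζ hζ 2 8
      have e50 : (ζ ^ 10) ^ 5 = ζ ^ 6 := by
        rw [← pow_mul]; exact h26_pow_mod11 ζ hζ 6 4
      have e40 : (ζ ^ 10) ^ 4 = ζ ^ 7 := by
        rw [← pow_mul]; exact h26_pow_mod11 ζ hζ 7 3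
      have e30 : (ζ ^ 10) ^ 3 = ζ ^ 8 := by
        rw [← pow_mul]; exact h26_pow_mod11 ζ hζ 8 2
      rw [e100, e80, e70, e60, e20, e90, e50, e40, e30]
      ring
  choose a b c hE1 hE2 hE3 using hdata
  -- degree relation
  have hdeg : ∀ χ : IrrCharacter G, charDegree (χ : G → ℂ) = a χ + 5 * b χ + 5 * c χ := by
    intro χ
    have : ((charDegree (χ : G → ℂ) : ℕ) : ℂ) = ((a χ + 5 * b χ + 5 * c χ : ℕ) : ℂ) := by
      push_cast
      linear_combination (-1 / 11 : ℂ) * hE1 χ - (5 / 11 : ℂ) * hE2 χ - (5 / 11 : ℂ) * hE3 χ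
        - (5 / 11 : ℂ) * ((χ : G → ℂ) x + (χ : G → ℂ) x⁻¹) * hsum
    exact_mod_cast this
  have hA : ∀ χ : IrrCharacter G, (11 : ℂ) * (((a χ : ℤ) - (c χ : ℤ) : ℤ) : ℂ) =
      (5 - η) * (χ : G → ℂ) x + (5 - η') * (χ : G → ℂ) x⁻¹ := by
    intro χ
    push_cast
    linear_combination hE1 χ - hE3 χ
  have hB : ∀ χ : IrrCharacter G, (11 : ℂ) * (((b χ : ℤ) - (c χ : ℤ) : ℤ) : ℂ) =
      (η' - η) * ((χ : G → ℂ) x - (χ : G → ℂ) x⁻¹) := by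
    intro χ
    push_cast
    linear_combination hE2 χ - hE3 χ
  have hdC : ∀ χ : IrrCharacter G, ((charDegree (χ : G → ℂ) : ℤ) : ℂ) = (χ : G → ℂ) 1 := by
    intro χ
    rw [(Cfsg.Agent.Helper78.irr_charDegree χ.2).1]
    simp
  refine ⟨fun χ => (a χ : ℤ) - (c χ : ℤ), fun χ => (b χ : ℤ) - (c χ : ℤ), ?_, ?_, ?_, ?_, ?_, ?_⟩
  · intro χ
    refine ⟨(c χ : ℤ), ?_⟩
    rw [hdeg χ]
    push_cast
    ring
  · -- ∑ A² = 6
    have key : ∑ χ : IrrCharacter G, (121 : ℂ) * ((((a χ : ℤ) - (c χ : ℤ) : ℤ) : ℂ)) ^ 2 =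
        ∑ χ : IrrCharacter G, ((5 - η) ^ 2 * ((χ : G → ℂ) x * (χ : G → ℂ) x)
          + 2 * (5 - η) * (5 - η') * ((χ : G → ℂ) x * (χ : G → ℂ) x⁻¹)
          + (5 - η') ^ 2 * ((χ : G → ℂ) x⁻¹ * (χ : G → ℂ) x⁻¹)) := by
      refine Finset.sum_congr rfl (fun χ _ => ?_)
      have := hA χ
      calc (121 : ℂ) * ((((a χ : ℤ) - (c χ : ℤ) : ℤ) : ℂ)) ^ 2
          = ((11 : ℂ) * (((a χ : ℤ) - (c χ : ℤ) : ℤ) : ℂ)) ^ 2 := by ring
        _ = _ := by rw [this]; ring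
    rw [Finset.sum_add_distrib, Finset.sum_add_distrib, ← Finset.mul_sum, ← Finset.mul_sum,
      ← Finset.mul_sum, ← Finset.mul_sum, c1, c4, c5] at key
    have : ((∑ χ : IrrCharacter G, ((a χ : ℤ) - (c χ : ℤ)) ^ 2 : ℤ) : ℂ) = 6 := by
      push_cast
      push_cast at key
      linear_combination (1 / 121 : ℂ) * key - (10 / 11 : ℂ) * hsum + (2 / 11 : ℂ) * hprod
    exact_mod_cast this
  · -- ∑ A B = 1
    have key : ∑ χ : IrrCharacter G, (121 : ℂ) * ((((a χ : ℤ) - (c χ : ℤ) : ℤ) : ℂ) *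
          (((b χ : ℤ) - (c χ : ℤ) : ℤ) : ℂ)) =
        ∑ χ : IrrCharacter G, ((η' - η) * (5 - η) * ((χ : G → ℂ) x * (χ : G → ℂ) x)
          + (η' - η) * (η - η') * ((χ : G → ℂ) x * (χ : G → ℂ) x⁻¹)
          + (η - η') * (5 - η') * ((χ : G → ℂ) x⁻¹ * (χ : G → ℂ) x⁻¹)) := by
      refine Finset.sum_congr rfl (fun χ _ => ?_)
      have h1 := hA χ
      have h2 := hB χ
      calc (121 : ℂ) * ((((a χ : ℤ) - (c χ : ℤ) : ℤ) : ℂ) * (((b χ : ℤ) - (c χ : ℤ) : ℤ) : ℂ))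
          = ((11 : ℂ) * (((a χ : ℤ) - (c χ : ℤ) : ℤ) : ℂ)) *
              ((11 : ℂ) * (((b χ : ℤ) - (c χ : ℤ) : ℤ) : ℂ)) := by ring
        _ = _ := by rw [h1, h2]; ring
    rw [Finset.sum_add_distrib, Finset.sum_add_distrib, ← Finset.mul_sum, ← Finset.mul_sum,
      ← Finset.mul_sum, ← Finset.mul_sum, c1, c4, c5] at key
    have : ((∑ χ : IrrCharacter G, ((a χ : ℤ) - (c χ : ℤ)) * ((b χ : ℤ) - (c χ : ℤ)) : ℤ) : ℂ) = 1 := by
      push_cast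
      push_cast at key
      linear_combination (1 / 121 : ℂ) * key - (1 / 11 : ℂ) * (η + η' - 1) * hsum + (4 / 11 : ℂ) * hprod
    exact_mod_cast this
  · -- ∑ B² = 2
    have key : ∑ χ : IrrCharacter G, (121 : ℂ) * ((((b χ : ℤ) - (c χ : ℤ) : ℤ) : ℂ)) ^ 2 =
        ∑ χ : IrrCharacter G, ((η' - η) ^ 2 * ((χ : G → ℂ) x * (χ : G → ℂ) x)
          + (-2) * (η' - η) ^ 2 * ((χ : G → ℂ) x * (χ : G → ℂ) x⁻¹)
          + (η' - η) ^ 2 * ((χ : G → ℂ) x⁻¹ * (χ : G → ℂ) x⁻¹)) := by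
      refine Finset.sum_congr rfl (fun χ _ => ?_)
      have := hB χ
      calc (121 : ℂ) * ((((b χ : ℤ) - (c χ : ℤ) : ℤ) : ℂ)) ^ 2
          = ((11 : ℂ) * (((b χ : ℤ) - (c χ : ℤ) : ℤ) : ℂ)) ^ 2 := by ring
        _ = _ := by rw [this]; ring
    rw [Finset.sum_add_distrib, Finset.sum_add_distrib, ← Finset.mul_sum, ← Finset.mul_sum,
      ← Finset.mul_sum, ← Finset.mul_sum, c1, c4, c5] at key
    have : ((∑ χ : IrrCharacter G, ((b χ : ℤ) - (c χ : ℤ)) ^ 2 : ℤ) : ℂ) = 2 := by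
      push_cast
      push_cast at key
      linear_combination (1 / 121 : ℂ) * key - (2 / 11 : ℂ) * (η + η' - 1) * hsum + (8 / 11 : ℂ) * hprod
    exact_mod_cast this
  · -- ∑ d A = 0
    have key : ∑ χ : IrrCharacter G, (11 : ℂ) * (((charDegree (χ : G → ℂ) : ℤ) : ℂ) *
          (((a χ : ℤ) - (c χ : ℤ) : ℤ) : ℂ)) =
        ∑ χ : IrrCharacter G, ((5 - η) * ((χ : G → ℂ) 1 * (χ : G → ℂ) x)
          + (5 - η') * ((χ : G → ℂ) 1 * (χ : G → ℂ) x⁻¹)) := by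
      refine Finset.sum_congr rfl (fun χ _ => ?_)
      have h1 := hA χ
      rw [hdC χ]
      calc (11 : ℂ) * ((χ : G → ℂ) 1 * (((a χ : ℤ) - (c χ : ℤ) : ℤ) : ℂ))
          = (χ : G → ℂ) 1 * ((11 : ℂ) * (((a χ : ℤ) - (c χ : ℤ) : ℤ) : ℂ)) := by ring
        _ = _ := by rw [h1]; ring
    rw [Finset.sum_add_distrib, ← Finset.mul_sum, ← Finset.mul_sum, ← Finset.mul_sum, c2, c3] at key
    have : ((∑ χ : IrrCharacter G, (charDegree (χ : G → ℂ) : ℤ) * ((a χ : ℤ) - (c χ : ℤ)) : ℤ) : ℂ) = 0 := by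
      push_cast
      push_cast at key
      linear_combination (1 / 11 : ℂ) * key
    exact_mod_cast this
  · -- ∑ d B = 0
    have key : ∑ χ : IrrCharacter G, (11 : ℂ) * (((charDegree (χ : G → ℂ) : ℤ) : ℂ) *
          (((b χ : ℤ) - (c χ : ℤ) : ℤ) : ℂ)) =
        ∑ χ : IrrCharacter G, ((η' - η) * ((χ : G → ℂ) 1 * (χ : G → ℂ) x)
          + (η - η') * ((χ : G → ℂ) 1 * (χ : G → ℂ) x⁻¹)) := by
      refine Finset.sum_congr rfl (fun χ _ => ?_)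
      have h1 := hB χ
      rw [hdC χ]
      calc (11 : ℂ) * ((χ : G → ℂ) 1 * (((b χ : ℤ) - (c χ : ℤ) : ℤ) : ℂ))
          = (χ : G → ℂ) 1 * ((11 : ℂ) * (((b χ : ℤ) - (c χ : ℤ) : ℤ) : ℂ)) := by ring
        _ = _ := by rw [h1]; ring
    rw [Finset.sum_add_distrib, ← Finset.mul_sum, ← Finset.mul_sum, ← Finset.mul_sum, c2, c3] at key
    have : ((∑ χ : IrrCharacter G, (charDegree (χ : G → ℂ) : ℤ) * ((b χ : ℤ) - (c χ : ℤ)) : ℤ) : ℂ) = 0 := by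
      push_cast
      push_cast at key
      linear_combination (1 / 11 : ℂ) * key
    exact_mod_cast this

end Cfsg.Agent.Helper26.M11CT
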