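import Mathlib
import Cfsg.Agent.Lib.Helper74.M11Defs

/-! M11 server (helper74, S0434/S0435), piece (P4) orbit_count (written by helper26). -/

set_option autoImplicit false
set_option linter.style.haveILetI false

namespace Cfsg.Agent.Helper26.M11

open Cfsg.Agent.Helper74.M11

variable {G : Type*} [Group G] [Finite G]

theorem helper26_prime11 : Nat.Prime 11 := by norm_num

theorem helper26_card_sylow11 (hc : Nat.card G = 7920) [Fact (Nat.Prime 11)] (Q : Sylow 11 G) :
    Nat.card Q = 11 := by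
  have h := Sylow.card_eq_multiplicity Q
  rw [hc] at h
  have hf : (7920 : ℕ).factorization 11 = 1 := by
    apply le_antisymm
    · by_contra hlt
      push Not at hlt
      have h2 : 11 ^ 2 ∣ 7920 :=
        (Nat.Prime.pow_dvd_iff_le_factorization helper26_prime11 (by norm_num)).2 hlt
      norm_num at h2
    · exact (Nat.Prime.pow_dvd_iff_le_factorization (p := 11) (k := 1) helper26_prime11
        (by norm_num)).1 (by norm_num)
  rw [hf, pow_one] at h
  exact h

theorem helper26_orderOf_of_mem (hc : Nat.card G = 7920) [Fact (Nat.Prime 11)] (Q : Sylow 11 G)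
    {x : G} (hx : x ∈ (Q : Subgroup G)) (hx1 : x ≠ 1) : orderOf x = 11 := by
  have h1 : orderOf x ∣ 11 := by
    have := orderOf_dvd_natCard (⟨x, hx⟩ : (Q : Subgroup G))
    rw [helper26_card_sylow11 hc Q, ← Subgroup.orderOf_coe] at this
    exact this
  rcases (Nat.dvd_prime helper26_prime11).1 h1 with h | h
  · exact absurd (orderOf_eq_one_iff.1 h) hx1
  · exact h

theorem helper26_zpowers_eq (hc : Nat.card G = 7920) [Fact (Nat.Prime 11)] (Q : Sylow 11 G)
    {x : G} (hx : x ∈ (Q : Subgroup G)) (hx1 : x ≠ 1) : Subgroup.zpowers x = (Q : Subgroup G) := by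
  apply Subgroup.eq_of_le_of_card_ge
  · rw [Subgroup.zpowers_le]; exact hx
  · rw [Nat.card_zpowers, helper26_orderOf_of_mem hc Q hx hx1, helper26_card_sylow11 hc Q]

theorem helper26_exists_ne_one (hc : Nat.card G = 7920) [Fact (Nat.Prime 11)] (Q : Sylow 11 G) :
    ∃ x : G, x ∈ (Q : Subgroup G) ∧ x ≠ 1 := by
  by_contra hcon
  push Not at hcon
  have : (Q : Subgroup G) = ⊥ := (Subgroup.eq_bot_iff_forall _).2 hcon
  have h := helper26_card_sylow11 hc Q
  rw [this, Subgroup.card_bot] at h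
  norm_num at h

theorem helper26_card_normalizer (hc : Nat.card G = 7920) [Fact (Nat.Prime 11)]
    (h11n : ∀ x : G, orderOf x = 11 → Nat.card (Nor x) = 55) (Q : Sylow 11 G) :
    Nat.card (NorS (Q : Subgroup G)) = 55 := by
  obtain ⟨x, hx, hx1⟩ := helper26_exists_ne_one hc Q
  have h := h11n x (helper26_orderOf_of_mem hc Q hx hx1)
  have e : Nor x = NorS (Q : Subgroup G) := by
    unfold Nor NorS
    rw [helper26_zpowers_eq hc Q hx hx1]
  rw [← e]; exact h

theorem helper26_inf_eq_bot (hc : Nat.card G = 7920) [Fact (Nat.Prime 11)] (Q0 Q : Sylow 11 G)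
    (hne : Q ≠ Q0) : (Q0 : Subgroup G) ⊓ NorS (Q : Subgroup G) = ⊥ := by
  have h1 : (Q0 : Subgroup G) ⊓ NorS (Q : Subgroup G) = (Q0 : Subgroup G) ⊓ (Q : Subgroup G) :=
    IsPGroup.inf_normalizer_sylow Q0.2 Q
  rw [h1]
  by_contra hcon
  obtain ⟨x, hx1⟩ := (Subgroup.ne_bot_iff_exists_ne_one).1 hcon
  have hx' : (x : G) ≠ 1 := fun h => hx1 (Subtype.ext h)
  have hx0 : (x : G) ∈ (Q0 : Subgroup G) := (Subgroup.mem_inf.1 x.2).1
  have hxQ : (x : G) ∈ (Q : Subgroup G) := (Subgroup.mem_inf.1 x.2).2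
  have e1 := helper26_zpowers_eq hc Q0 hx0 hx'
  have e2 := helper26_zpowers_eq hc Q hxQ hx'
  exact hne (Sylow.ext (e2.symm.trans e1))

/-! ### (P4) orbit count.  F := N(Q0) (order 55, h11n) contains y.  F acts by conjugation on the 143 Sylow 11's Q != Q0 with stabiliser
F ∩ N(Q), of order 1 or 5 (Q0 is the only Sylow 11 of G inside N(Q): order 121 does not divide 7920, so 11 does not divide |F ∩ N(Q)|).  Orbits have size 55 or 11.
In an orbit of size 11 the stabilisers are the 11 distinct subgroups of order 5 of F (they are conjugate in F and F has 11 of them, see P3),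
each occurring once; so y (whose <y> is one of them) fixes exactly one point of each orbit of size 11, and none of an orbit of size 55.
Hence f - 1 = number s of orbits of size 11 and 143 = 11 s + 55 r. -/
theorem orbit_count (hc : Nat.card G = 7920)
    (h11 : ∀ x : G, orderOf x = 11 → Nat.card (Cen x) = 11)
    (h11n : ∀ x : G, orderOf x = 11 → Nat.card (Nor x) = 55)
    (y : G) (hy : orderOf y = 5) (Q0 : Sylow 11 G) (hQ0 : y ∈ NorS (Q0 : Subgroup G)) :
    ∃ r : ℕ, 143 = 11 * (Nat.card {Q : Sylow 11 G // y ∈ NorS (Q : Subgroup G)} - 1) + 55 * r := by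
  classical
  haveI : Fact (Nat.Prime 11) := ⟨helper26_prime11⟩
  haveI : Fact (Nat.Prime 5) := ⟨by norm_num⟩
  -- the number of Sylow 11-subgroups
  have hn : Nat.card (Sylow 11 G) = 144 := by
    rw [Sylow.card_eq_index_normalizer Q0]
    have h1 := Subgroup.card_mul_index (Subgroup.normalizer ((Q0 : Subgroup G) : Set G))
    have h2 : Nat.card (Subgroup.normalizer ((Q0 : Subgroup G) : Set G)) = 55 :=
      helper26_card_normalizer hc h11n Q0
    rw [h2, hc] at h1
    have h3 : (Subgroup.normalizer ((Q0 : Subgroup G) : Set G)).index = 144 := by omega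
    exact h3
  set f := Nat.card {Q : Sylow 11 G // y ∈ NorS (Q : Subgroup G)} with hf
  -- (I) congruence mod 5
  have hmod : f % 5 = 4 := by
    have hp : IsPGroup 5 (Subgroup.zpowers y) := by
      apply IsPGroup.of_card (n := 1)
      rw [Nat.card_zpowers, hy, pow_one]
    have h := hp.card_modEq_card_fixedPoints (Sylow 11 G)
    have e : Nat.card (MulAction.fixedPoints (Subgroup.zpowers y) (Sylow 11 G)) = f := by
      rw [hf]
      apply Nat.card_congr
      apply Equiv.subtypeEquivRight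
      intro Q
      rw [Subgroup.sylow_mem_fixedPoints_iff, Subgroup.zpowers_le]
      exact Iff.rfl
    rw [e, hn] at h
    have : 144 % 5 = f % 5 := h
    omega
  -- (II) an injection `Q0 × (Fix(y) ∖ {Q0}) → Syl ∖ {Q0}`
  have hle : 11 * (f - 1) ≤ 143 := by
    let A := {Q : Sylow 11 G // y ∈ NorS (Q : Subgroup G) ∧ Q ≠ Q0}
    let B := {Q : Sylow 11 G // Q ≠ Q0}
    have hA : Nat.card A = f - 1 := by
      have e : A ≃ {q : {Q : Sylow 11 G // y ∈ NorS (Q : Subgroup G)} // q ≠ ⟨Q0, hQ0⟩} :=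
        { toFun := fun Q => ⟨⟨Q.1, Q.2.1⟩, fun h => Q.2.2 (congrArg Subtype.val h)⟩
          invFun := fun q => ⟨q.1.1, q.1.2, fun h => q.2 (Subtype.ext h)⟩
          left_inv := fun Q => rfl
          right_inv := fun q => rfl }
      rw [Nat.card_congr e]
      haveI : Fintype {Q : Sylow 11 G // y ∈ NorS (Q : Subgroup G)} := Fintype.ofFinite _
      rw [Nat.card_eq_fintype_card, Fintype.card_subtype_compl, Fintype.card_subtype_eq, hf,
        Nat.card_eq_fintype_card]
    have hB : Nat.card B = 143 := by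
      haveI : Fintype (Sylow 11 G) := Fintype.ofFinite _
      change Nat.card {Q : Sylow 11 G // ¬ Q = Q0} = 143
      rw [Nat.card_eq_fintype_card, Fintype.card_subtype_compl, Fintype.card_subtype_eq,
        ← Nat.card_eq_fintype_card, hn]
    have hQ0c : Nat.card (Q0 : Subgroup G) = 11 := helper26_card_sylow11 hc Q0
    -- the map
    have hmem : ∀ (x : (Q0 : Subgroup G)) (Q : A), (x : G) • (Q.1 : Sylow 11 G) ≠ Q0 := by
      intro x Q h
      have hx : (x : G) ∈ Subgroup.normalizer ((Q0 : Subgroup G) : Set G) :=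
        Subgroup.le_normalizer x.2
      have h2 : (x : G) • Q0 = Q0 := Sylow.smul_eq_iff_mem_normalizer.2 hx
      have h3 : (x : G) • (Q.1 : Sylow 11 G) = (x : G) • Q0 := by rw [h, h2]
      exact Q.2.2 (smul_left_cancel _ h3)
    let Φ : ↥(Q0 : Subgroup G) × A → B := fun xQ => ⟨(xQ.1 : G) • (xQ.2.1 : Sylow 11 G), hmem xQ.1 xQ.2⟩
    have hΦ : Function.Injective Φ := by
      rintro ⟨x, Q⟩ ⟨x', Q'⟩ h
      have h1 : (x : G) • (Q.1 : Sylow 11 G) = (x' : G) • (Q'.1 : Sylow 11 G) :=
        congrArg Subtype.val h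
      -- `z = x'⁻¹ x`
      set z : G := (x' : G)⁻¹ * (x : G) with hz
      have hzQ0 : z ∈ (Q0 : Subgroup G) := Subgroup.mul_mem _ (Subgroup.inv_mem _ x'.2) x.2
      have h2 : z • (Q.1 : Sylow 11 G) = Q'.1 := by
        rw [hz, mul_smul, h1, inv_smul_smul]
      have hyQ : y • (Q.1 : Sylow 11 G) = Q.1 := Sylow.smul_eq_iff_mem_normalizer.2 Q.2.1
      have hyQ' : y • (Q'.1 : Sylow 11 G) = Q'.1 := Sylow.smul_eq_iff_mem_normalizer.2 Q'.2.1
      have h3 : (z⁻¹ * y * z) • (Q.1 : Sylow 11 G) = Q.1 := by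
        rw [mul_smul, mul_smul, h2, hyQ', ← h2, inv_smul_smul]
      have h4 : z⁻¹ * y * z ∈ NorS ((Q.1 : Sylow 11 G) : Subgroup G) :=
        Sylow.smul_eq_iff_mem_normalizer.1 h3
      -- the commutator lies in `Q0 ⊓ N(Q)`
      have h5 : y⁻¹ * (z⁻¹ * y * z) ∈ NorS ((Q.1 : Sylow 11 G) : Subgroup G) :=
        Subgroup.mul_mem _ (Subgroup.inv_mem _ Q.2.1) h4
      have h6 : y⁻¹ * (z⁻¹ * y * z) ∈ (Q0 : Subgroup G) := by
        have hy' : y⁻¹ ∈ Subgroup.normalizer ((Q0 : Subgroup G) : Set G) := Subgroup.inv_mem _ hQ0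
        have h7 : y⁻¹ * z⁻¹ * y⁻¹⁻¹ ∈ (Q0 : Subgroup G) :=
          (Subgroup.mem_normalizer_iff.1 hy' z⁻¹).1 (Subgroup.inv_mem _ hzQ0)
        have e : y⁻¹ * (z⁻¹ * y * z) = (y⁻¹ * z⁻¹ * y⁻¹⁻¹) * z := by group
        rw [e]
        exact Subgroup.mul_mem _ h7 hzQ0
      have h8 : y⁻¹ * (z⁻¹ * y * z) = 1 := by
        have := helper26_inf_eq_bot hc Q0 Q.1 Q.2.2
        have hm : y⁻¹ * (z⁻¹ * y * z) ∈ (Q0 : Subgroup G) ⊓ NorS ((Q.1 : Sylow 11 G) : Subgroup G) :=
          Subgroup.mem_inf.2 ⟨h6, h5⟩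
        rw [this] at hm
        exact Subgroup.mem_bot.1 hm
      have hcomm : z * y = y * z := by
        have : z⁻¹ * y * z = y := by
          have := congrArg (fun g => y * g) h8
          simpa [mul_assoc] using this
        calc z * y = z * (z⁻¹ * y * z) := by rw [this]
          _ = y * z := by group
      -- `z = 1`
      have hz1 : z = 1 := by
        by_contra hne
        have ho : orderOf z = 11 := helper26_orderOf_of_mem hc Q0 hzQ0 hne
        have hc11 := h11 z ho
        have hyC : y ∈ Cen z := by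
          rw [Subgroup.mem_centralizer_iff]
          intro g hg
          rw [Set.mem_singleton_iff] at hg
          rw [hg]; exact hcomm
        have hd : orderOf y ∣ 11 := by
          have := orderOf_dvd_natCard (⟨y, hyC⟩ : Cen z)
          rw [hc11, ← Subgroup.orderOf_coe] at this
          exact this
        rw [hy] at hd
        norm_num at hd
      have hxx : (x : G) = (x' : G) := by
        have : (x' : G)⁻¹ * (x : G) = 1 := hz1
        exact (inv_mul_eq_one.1 this).symm
      have hx : x = x' := Subtype.ext hxx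
      subst hx
      have hQQ : (Q.1 : Sylow 11 G) = Q'.1 := smul_left_cancel _ h1
      have : Q = Q' := Subtype.ext hQQ
      rw [this]
    have hcard := Nat.card_le_card_of_injective Φ hΦ
    rw [Nat.card_prod, hQ0c, hA, hB] at hcard
    exact hcard
  have h1f : 1 ≤ f := by
    rw [hf]
    exact Nat.card_pos_iff.2 ⟨⟨⟨Q0, hQ0⟩⟩, inferInstance⟩
  refine ⟨(143 - 11 * (f - 1)) / 55, ?_⟩
  omega

end Cfsg.Agent.Helper26.M11
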