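import Cfsg.Agent.Lib.Helper92.MultAbs10

/-!
# A double cover over a Sylow 2-subgroup `4^2 : 2^2` in which eight involutions lift to
involutions is not stem (piece (B) of helper92's lemma server for the multiplier of `M12`)
-/

set_option autoImplicit false

namespace Cfsg.Agent.Helper26.M12Mult

open Cfsg.Agent.Helper92.Mult
open scoped commutatorElement

section Abs

variable {P : Type*} [Group P]

/-- The subgroup `{A ^ i * B ^ j}` generated by two commuting elements. -/
def abSub (A B : P) (h : A * B = B * A) : Subgroup P where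
  carrier := {x | ∃ i j : ℤ, x = A ^ i * B ^ j}
  one_mem' := ⟨0, 0, by simp⟩
  mul_mem' := by
    rintro _ _ ⟨i, j, rfl⟩ ⟨k, l, rfl⟩
    refine ⟨i + k, j + l, ?_⟩
    have hc : Commute A B := h
    have h1 : B ^ j * A ^ k = A ^ k * B ^ j := ((hc.zpow_zpow k j).eq).symm
    calc A ^ i * B ^ j * (A ^ k * B ^ l) = A ^ i * (B ^ j * A ^ k) * B ^ l := by group
      _ = A ^ i * (A ^ k * B ^ j) * B ^ l := by rw [h1]
      _ = A ^ (i + k) * B ^ (j + l) := by rw [zpow_add, zpow_add]; group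
  inv_mem' := by
    rintro _ ⟨i, j, rfl⟩
    refine ⟨-i, -j, ?_⟩
    have hc : Commute A B := h
    have h1 : B ^ (-j) * A ^ (-i) = A ^ (-i) * B ^ (-j) := ((hc.zpow_zpow (-i) (-j)).eq).symm
    rw [mul_inv_rev, ← zpow_neg, ← zpow_neg, h1]

theorem mem_abSub {A B : P} {h : A * B = B * A} {x : P} :
    x ∈ abSub A B h ↔ ∃ i j : ℤ, x = A ^ i * B ^ j := Iff.rfl

theorem left_mem_abSub (A B : P) (h : A * B = B * A) : A ∈ abSub A B h :=
  ⟨1, 0, by simp⟩

theorem right_mem_abSub (A B : P) (h : A * B = B * A) : B ∈ abSub A B h :=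
  ⟨0, 1, by simp⟩

/-- conjugation by `g` maps `abSub A B` into itself as soon as it does so for `A` and `B` -/
theorem conj_mem_abSub {A B : P} {h : A * B = B * A} (g : P)
    (hA : g * A * g⁻¹ ∈ abSub A B h) (hB : g * B * g⁻¹ ∈ abSub A B h) :
    ∀ r ∈ abSub A B h, g * r * g⁻¹ ∈ abSub A B h := by
  rintro _ ⟨i, j, rfl⟩
  have e : g * (A ^ i * B ^ j) * g⁻¹ = (g * A * g⁻¹) ^ i * (g * B * g⁻¹) ^ j := by
    rw [conj_zpow, conj_zpow]; group
  rw [e]
  exact Subgroup.mul_mem _ (Subgroup.zpow_mem _ hA i) (Subgroup.zpow_mem _ hB j)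

theorem mem_normalizer_of_conj (R : Subgroup P) (g : P) (h1 : ∀ r ∈ R, g * r * g⁻¹ ∈ R)
    (h2 : ∀ r ∈ R, g⁻¹ * r * g ∈ R) : g ∈ Subgroup.normalizer (R : Set P) := by
  rw [Subgroup.mem_normalizer_iff]
  intro x
  constructor
  · exact h1 x
  · intro hx
    have := h2 _ hx
    have e : g⁻¹ * (g * x * g⁻¹) * g = x := by group
    rw [e] at this
    exact this

/-- the commutator subgroup of `⟨A, B, N, T⟩ K`, `K` central, `A, B` commuting, `N` an involution
inverting both, `T` an involution swapping them and commuting with `N`, lies in `⟨A, B⟩` -/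
theorem commutator_le_abSub (A B N T : P) (K : Subgroup P) (hK : K ≤ Subgroup.center P)
    (hgen : Subgroup.closure {A, B, N, T} ⊔ K = ⊤)
    (hAB : A * B = B * A) (hNN : N * N = 1) (hTT : T * T = 1)
    (hNA : N * A * N⁻¹ = A⁻¹) (hNB : N * B * N⁻¹ = B⁻¹)
    (hTA : T * A * T⁻¹ = B) (hTB : T * B * T⁻¹ = A) (hTN : T * N = N * T) :
    commutator P ≤ abSub A B hAB := by
  have hAm := left_mem_abSub A B hAB
  have hBm := right_mem_abSub A B hAB
  have hNi : N⁻¹ = N := inv_eq_of_mul_eq_one_left hNN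
  have hTi : T⁻¹ = T := inv_eq_of_mul_eq_one_left hTT
  have hnormal : (abSub A B hAB).Normal := by
    rw [← Subgroup.normalizer_eq_top_iff, eq_top_iff, ← hgen, sup_le_iff, Subgroup.closure_le]
    constructor
    · intro g hg
      rw [SetLike.mem_coe]
      rcases hg with rfl | rfl | rfl | hg
      · -- `A`
        apply mem_normalizer_of_conj
        · apply conj_mem_abSub
          · have e : g * g * g⁻¹ = g := by group
            rw [e]; exact hAm
          · have e : g * B * g⁻¹ = B := by rw [hAB]; group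
            rw [e]; exact hBm
        · have h1 := conj_mem_abSub (A := g) (B := B) (h := hAB) g⁻¹
          simp only [inv_inv] at h1
          apply h1
          · have e : g⁻¹ * g * g = g := by group
            rw [e]; exact hAm
          · have e : g⁻¹ * B * g = B := by
              rw [mul_assoc, ← hAB]; group
            rw [e]; exact hBm
      · -- `B`
        apply mem_normalizer_of_conj
        · apply conj_mem_abSub
          · have e : g * A * g⁻¹ = A := by rw [← hAB]; group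
            rw [e]; exact hAm
          · have e : g * g * g⁻¹ = g := by group
            rw [e]; exact hBm
        · have h1 := conj_mem_abSub (A := A) (B := g) (h := hAB) g⁻¹
          simp only [inv_inv] at h1
          apply h1
          · have e : g⁻¹ * A * g = A := by
              rw [mul_assoc, hAB]; group
            rw [e]; exact hAm
          · have e : g⁻¹ * g * g = g := by group
            rw [e]; exact hBm
      · -- `N`
        have h1 : ∀ r ∈ abSub A B hAB, g * r * g⁻¹ ∈ abSub A B hAB := by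
          apply conj_mem_abSub
          · rw [hNA]; exact Subgroup.inv_mem _ hAm
          · rw [hNB]; exact Subgroup.inv_mem _ hBm
        apply mem_normalizer_of_conj _ _ h1
        intro r hr
        have := h1 r hr
        rw [hNi] at this ⊢
        exact this
      · -- `T`
        rw [Set.mem_singleton_iff] at hg
        subst hg
        have h1 : ∀ r ∈ abSub A B hAB, g * r * g⁻¹ ∈ abSub A B hAB := by
          apply conj_mem_abSub
          · rw [hTA]; exact hBm
          · rw [hTB]; exact hAm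
        apply mem_normalizer_of_conj _ _ h1
        intro r hr
        have := h1 r hr
        rw [hTi] at this ⊢
        exact this
    · intro k hk
      have hc := Subgroup.mem_center_iff.1 (hK hk)
      apply mem_normalizer_of_conj
      · intro r hr
        have e : k * r * k⁻¹ = r := by rw [← hc r]; group
        rw [e]; exact hr
      · intro r hr
        have e : k⁻¹ * r * k = r := by rw [mul_assoc, hc r]; group
        rw [e]; exact hr
  apply Cfsg.Agent.Helper65.commutator_le_of_generators K hK {A, B, N, T} hgen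
  -- the six basic commutators
  have cAB : ⁅A, B⁆ ∈ abSub A B hAB := by
    have e : ⁅A, B⁆ = 1 := by
      rw [commutatorElement_def, hAB]; group
    rw [e]; exact Subgroup.one_mem _
  have cNA : ⁅N, A⁆ ∈ abSub A B hAB := by
    rw [commutatorElement_def, hNA]
    exact Subgroup.mul_mem _ (Subgroup.inv_mem _ hAm) (Subgroup.inv_mem _ hAm)
  have cNB : ⁅N, B⁆ ∈ abSub A B hAB := by
    rw [commutatorElement_def, hNB]
    exact Subgroup.mul_mem _ (Subgroup.inv_mem _ hBm) (Subgroup.inv_mem _ hBm)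
  have cTA : ⁅T, A⁆ ∈ abSub A B hAB := by
    rw [commutatorElement_def, hTA]
    exact Subgroup.mul_mem _ hBm (Subgroup.inv_mem _ hAm)
  have cTB : ⁅T, B⁆ ∈ abSub A B hAB := by
    rw [commutatorElement_def, hTB]
    exact Subgroup.mul_mem _ hAm (Subgroup.inv_mem _ hBm)
  have cTN : ⁅T, N⁆ ∈ abSub A B hAB := by
    have e : ⁅T, N⁆ = 1 := by
      rw [commutatorElement_def, hTN]; group
    rw [e]; exact Subgroup.one_mem _
  have sw : ∀ {x y : P}, ⁅x, y⁆ ∈ abSub A B hAB → ⁅y, x⁆ ∈ abSub A B hAB := by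
    intro x y h
    rw [← commutatorElement_inv]
    exact Subgroup.inv_mem _ h
  have self : ∀ x : P, ⁅x, x⁆ ∈ abSub A B hAB := by
    intro x
    rw [commutatorElement_self]; exact Subgroup.one_mem _
  intro s hs t ht
  rcases hs with rfl | rfl | rfl | hs <;> rcases ht with rfl | rfl | rfl | ht
  · exact self _
  · exact cAB
  · exact sw cNA
  · rw [Set.mem_singleton_iff] at ht; subst ht; exact sw cTA
  · exact sw cAB
  · exact self _
  · exact sw cNB
  · rw [Set.mem_singleton_iff] at ht; subst ht; exact sw cTB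
  · exact cNA
  · exact cNB
  · exact self _
  · rw [Set.mem_singleton_iff] at ht; subst ht; exact sw cTN
  · rw [Set.mem_singleton_iff] at hs; subst hs; exact cTA
  · rw [Set.mem_singleton_iff] at hs; subst hs; exact cTB
  · rw [Set.mem_singleton_iff] at hs; subst hs; exact cTN
  · rw [Set.mem_singleton_iff] at hs ht; subst hs; subst ht; exact self _

end Abs


section Main

/-- (B) `S₂ = ⟨a, b, n, s⟩` of odd index (think `4²:2²`: `a, b` commuting of order 4, `n` an
involution inverting both, `s` an involution swapping them, `[n, s] = 1`). If the eight involutions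
`n, na, nb, nab, a², b², s, sn` all lift to involutions then the double cover is not stem. -/
theorem no_double_cover_4sq {Γ G : Type*} [Group Γ] [Group G] [Finite Γ] {σ : Γ →* G} {z : Γ}
    (h : Ext2 σ z) (hz : z ∈ commutator Γ)
    (S₂ : Subgroup G) (a b n s : G) (ha : a ∈ S₂) (hb : b ∈ S₂) (hn : n ∈ S₂) (hs : s ∈ S₂)
    (hgen : S₂ ≤ Subgroup.closure {a, b, n, s}) (hidx : ¬ 2 ∣ S₂.index)
    (hsab : s * a * s⁻¹ = b)
    (hind : ∀ i j : ℕ, i < 4 → j < 4 → a ^ i * b ^ j = 1 → i = 0 ∧ j = 0)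
    (l1 : LiftSq σ n 1) (l2 : LiftSq σ (n * a) 1) (l3 : LiftSq σ (n * b) 1)
    (l4 : LiftSq σ (n * a * b) 1) (l5 : LiftSq σ (a * a) 1) (l6 : LiftSq σ (b * b) 1)
    (l7 : LiftSq σ s 1) (l8 : LiftSq σ (s * n) 1) : False := by
  obtain ⟨N, hN⟩ := h.surj n
  obtain ⟨Na, hNa⟩ := h.surj (n * a)
  obtain ⟨Nb, hNb⟩ := h.surj (n * b)
  obtain ⟨T, hT⟩ := h.surj s
  have hNN : N * N = 1 := l1 N hN
  have hNaNa : Na * Na = 1 := l2 Na hNa
  have hNbNb : Nb * Nb = 1 := l3 Nb hNb
  have hTT : T * T = 1 := l7 T hT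
  have hnn : n * n = 1 := by rw [← hN, ← map_mul, hNN, map_one]
  have hNi : N⁻¹ = N := inv_eq_of_mul_eq_one_left hNN
  have hNai : Na⁻¹ = Na := inv_eq_of_mul_eq_one_left hNaNa
  have hNbi : Nb⁻¹ = Nb := inv_eq_of_mul_eq_one_left hNbNb
  have hTi : T⁻¹ = T := inv_eq_of_mul_eq_one_left hTT
  -- lifts of `a` and `b` inverted by `N`
  obtain ⟨A, hAdef⟩ : ∃ A, A = N * Na := ⟨_, rfl⟩
  obtain ⟨B, hBdef⟩ : ∃ B, B = N * Nb := ⟨_, rfl⟩
  have hσA : σ A = a := by rw [hAdef, map_mul, hN, hNa, ← mul_assoc, hnn, one_mul]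
  have hσB : σ B = b := by rw [hBdef, map_mul, hN, hNb, ← mul_assoc, hnn, one_mul]
  have hNA : N * A * N⁻¹ = A⁻¹ := by
    rw [hAdef, mul_inv_rev, hNai, hNi, ← mul_assoc, hNN, one_mul]
  have hNB : N * B * N⁻¹ = B⁻¹ := by
    rw [hBdef, mul_inv_rev, hNbi, hNi, ← mul_assoc, hNN, one_mul]
  clear hAdef hBdef
  have hA4 : A * A * (A * A) = 1 := l5 _ (by rw [map_mul, hσA])
  have hB4 : B * B * (B * B) = 1 := l6 _ (by rw [map_mul, hσB])
  have hAB : A * B = B * A := by
    have h4 := l4 (N * A * B) (by rw [map_mul, map_mul, hN, hσA, hσB])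
    have e : N * A * B * (N * A * B) = (N * A * N⁻¹) * (N * B * N⁻¹) * (N * N) * A * B := by
      group
    rw [e, hNA, hNB, hNN, mul_one] at h4
    calc A * B = B * A * (A⁻¹ * B⁻¹ * A * B) := by group
      _ = B * A := by rw [h4, mul_one]
  have hTN : T * N = N * T := by
    have h8 := l8 (T * N) (by rw [map_mul, hT, hN])
    calc T * N = N⁻¹ * T⁻¹ * (T * N * (T * N)) := by group
      _ = N * T := by rw [h8, mul_one, hNi, hTi]
  -- adjust `A` so that `T` swaps it with `B`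
  obtain ⟨ζ, hζ, hTAζ⟩ : ∃ ζ, (ζ = 1 ∨ ζ = z) ∧ T * A * T⁻¹ = B * ζ := by
    have e : σ B = σ (T * A * T⁻¹) := by
      rw [map_mul, map_mul, map_inv, hT, hσA, hσB, hsab]
    rcases h.lift_eq e with h1 | h1
    · exact ⟨1, Or.inl rfl, by rw [h1, mul_one]⟩
    · exact ⟨z, Or.inr rfl, h1⟩
  have hζc : ∀ g : Γ, g * ζ = ζ * g := h.cen hζ
  have hζ2 : ζ * ζ = 1 := h.sq_one hζ
  have hσζ : σ ζ = 1 := h.mem_ker hζ
  have hζi : ζ⁻¹ = ζ := inv_eq_of_mul_eq_one_left hζ2
  obtain ⟨A', hA'def⟩ : ∃ A', A' = A * ζ := ⟨_, rfl⟩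
  have hσA' : σ A' = a := by rw [hA'def, map_mul, hσA, hσζ, mul_one]
  have hNA' : N * A' * N⁻¹ = A'⁻¹ := by
    rw [hA'def, mul_inv_rev, hζi]
    calc N * (A * ζ) * N⁻¹ = N * A * (ζ * N⁻¹) := by group
      _ = N * A * (N⁻¹ * ζ) := by rw [hζc N⁻¹]
      _ = (N * A * N⁻¹) * ζ := by group
      _ = ζ * A⁻¹ := by rw [hNA, hζc A⁻¹]
  have hA'B : A' * B = B * A' := by
    rw [hA'def, mul_assoc, ← hζc B, ← mul_assoc, hAB, mul_assoc]
  have hTA' : T * A' * T⁻¹ = B := by
    rw [hA'def]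
    calc T * (A * ζ) * T⁻¹ = T * A * (ζ * T⁻¹) := by group
      _ = T * A * (T⁻¹ * ζ) := by rw [hζc T⁻¹]
      _ = (T * A * T⁻¹) * ζ := by group
      _ = B := by rw [hTAζ, mul_assoc, hζ2, mul_one]
  have hTB : T * B * T⁻¹ = A' := by
    rw [← hTA']
    calc T * (T * A' * T⁻¹) * T⁻¹ = (T * T) * A' * (T * T)⁻¹ := by group
      _ = A' := by rw [hTT]; group
  have hA'4 : A' * A' * (A' * A') = 1 := by
    have e : A' * A' = A * A := by
      rw [hA'def, mul_assoc, ← mul_assoc ζ A ζ, ← hζc A, mul_assoc A ζ ζ, hζ2, mul_one]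
    rw [e, hA4]
  clear hA'def hTAζ hNA hAB hA4 hσA
  -- fourth powers
  have ha4 : a ^ 4 = 1 := by
    have := congrArg σ hA'4
    rw [map_mul, map_mul, hσA', map_one] at this
    rw [← this]; simp only [pow_succ, pow_zero, one_mul, mul_assoc]
  have hb4 : b ^ 4 = 1 := by
    have := congrArg σ hB4
    rw [map_mul, map_mul, hσB, map_one] at this
    rw [← this]; simp only [pow_succ, pow_zero, one_mul, mul_assoc]
  have hA'p4 : A' ^ 4 = 1 := by
    rw [← hA'4]; simp only [pow_succ, pow_zero, one_mul, mul_assoc]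
  have hBp4 : B ^ 4 = 1 := by
    rw [← hB4]; simp only [pow_succ, pow_zero, one_mul, mul_assoc]
  -- the preimage of `S₂`
  have hzP : z ∈ S₂.comap σ := by show σ z ∈ S₂; rw [h.map_z]; exact S₂.one_mem
  have hAP : A' ∈ S₂.comap σ := by show σ A' ∈ S₂; rw [hσA']; exact ha
  have hBP : B ∈ S₂.comap σ := by show σ B ∈ S₂; rw [hσB]; exact hb
  have hNP : N ∈ S₂.comap σ := by show σ N ∈ S₂; rw [hN]; exact hn
  have hTP : T ∈ S₂.comap σ := by show σ T ∈ S₂; rw [hT]; exact hs
  have hKc : (σ.subgroupComap S₂).ker ≤ Subgroup.center ↥(S₂.comap σ) := by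
    intro q hq
    rw [Subgroup.mem_center_iff]
    intro r
    have hq1 : σ (q : Γ) = 1 := by
      have := MonoidHom.mem_ker.1 hq
      exact congrArg Subtype.val this
    apply Subtype.ext
    show (r : Γ) * (q : Γ) = (q : Γ) * (r : Γ)
    exact h.cen (h.ker _ hq1) _
  have e1 : (σ.subgroupComap S₂) ⟨A', hAP⟩ = ⟨a, ha⟩ := Subtype.ext hσA'
  have e2 : (σ.subgroupComap S₂) ⟨B, hBP⟩ = ⟨b, hb⟩ := Subtype.ext hσB
  have e3 : (σ.subgroupComap S₂) ⟨N, hNP⟩ = ⟨n, hn⟩ := Subtype.ext hN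
  have e4 : (σ.subgroupComap S₂) ⟨T, hTP⟩ = ⟨s, hs⟩ := Subtype.ext hT
  have hgenP : Subgroup.closure {(⟨A', hAP⟩ : ↥(S₂.comap σ)), ⟨B, hBP⟩, ⟨N, hNP⟩, ⟨T, hTP⟩} ⊔
      (σ.subgroupComap S₂).ker = ⊤ := by
    apply Cfsg.Agent.Helper65.closure_lift_sup_ker
    rw [Set.image_insert_eq, Set.image_insert_eq, Set.image_pair, e1, e2, e3, e4, eq_top_iff]
    intro x _
    have hx := hgen x.2
    have hmap : Subgroup.closure {a, b, n, s} =
        (Subgroup.closure {(⟨a, ha⟩ : ↥S₂), ⟨b, hb⟩, ⟨n, hn⟩, ⟨s, hs⟩}).map S₂.subtype := by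
      rw [MonoidHom.map_closure, Set.image_insert_eq, Set.image_insert_eq, Set.image_pair]; rfl
    rw [hmap] at hx
    obtain ⟨x', hx', hxx⟩ := hx
    have : x' = x := Subtype.ext hxx
    rw [← this]
    exact hx'
  have hAB₀ : (⟨A', hAP⟩ : ↥(S₂.comap σ)) * ⟨B, hBP⟩ = ⟨B, hBP⟩ * ⟨A', hAP⟩ :=
    Subtype.ext hA'B
  have hcommle := commutator_le_abSub (⟨A', hAP⟩ : ↥(S₂.comap σ)) ⟨B, hBP⟩ ⟨N, hNP⟩ ⟨T, hTP⟩
    (σ.subgroupComap S₂).ker hKc hgenP hAB₀ (Subtype.ext hNN) (Subtype.ext hTT)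
    (Subtype.ext hNA') (Subtype.ext hNB) (Subtype.ext hTA') (Subtype.ext hTB) (Subtype.ext hTN)
  -- the transfer
  have h1 := transfer_kills (A := Abelianization ↥(S₂.comap σ)) (S₂.comap σ) Abelianization.of z
    h.z_comm hzP hz
  rw [Subgroup.index_comap_of_surjective S₂ h.surj] at h1
  have h2 : (Abelianization.of (⟨z, hzP⟩ : ↥(S₂.comap σ))) ^ 2 = 1 := by
    rw [← map_pow]
    have : (⟨z, hzP⟩ : ↥(S₂.comap σ)) ^ 2 = 1 :=
      Subtype.ext (by
        show z ^ 2 = 1
        rw [pow_two]; exact h.z_sq)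
    rw [this, map_one]
  have hcop : Nat.Coprime 2 S₂.index := (Nat.Prime.coprime_iff_not_dvd Nat.prime_two).2 hidx
  have h0 : Abelianization.of (⟨z, hzP⟩ : ↥(S₂.comap σ)) = 1 := by
    have hd1 := orderOf_dvd_of_pow_eq_one h1
    have hd2 := orderOf_dvd_of_pow_eq_one h2
    have := Nat.dvd_gcd hd2 hd1
    rw [hcop.gcd_eq_one, Nat.dvd_one] at this
    exact orderOf_eq_one_iff.1 this
  have hzc₀ : (⟨z, hzP⟩ : ↥(S₂.comap σ)) ∈ commutator ↥(S₂.comap σ) := by
    rw [← Abelianization.ker_of]; exact MonoidHom.mem_ker.2 h0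
  obtain ⟨i, j, hij⟩ := hcommle hzc₀
  have hzij : z = A' ^ i * B ^ j := by
    have := congrArg Subtype.val hij
    rw [Subgroup.coe_mul, Subgroup.coe_zpow, Subgroup.coe_zpow] at this
    exact this
  have h1ij : a ^ i * b ^ j = 1 := by
    have := congrArg σ hzij
    rw [h.map_z, map_mul, map_zpow, map_zpow, hσA', hσB] at this
    exact this.symm
  have hi0 : 0 ≤ i % 4 := Int.emod_nonneg _ (by norm_num)
  have hi4 : i % 4 < 4 := Int.emod_lt_of_pos _ (by norm_num)
  have hj0 : 0 ≤ j % 4 := Int.emod_nonneg _ (by norm_num)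
  have hj4 : j % 4 < 4 := Int.emod_lt_of_pos _ (by norm_num)
  have hai : a ^ i = a ^ (i % 4).toNat := by
    rw [zpow_eq_zpow_emod' i ha4, ← zpow_natCast, Int.toNat_of_nonneg hi0]; rfl
  have hbj : b ^ j = b ^ (j % 4).toNat := by
    rw [zpow_eq_zpow_emod' j hb4, ← zpow_natCast, Int.toNat_of_nonneg hj0]; rfl
  rw [hai, hbj] at h1ij
  obtain ⟨hi, hj⟩ := hind _ _ (by omega) (by omega) h1ij
  have hi' : i % 4 = 0 := by omega
  have hj' : j % 4 = 0 := by omega
  have hAi : A' ^ i = 1 := by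
    rw [zpow_eq_zpow_emod' i hA'p4]
    show A' ^ (i % 4) = 1
    rw [hi', zpow_zero]
  have hBj : B ^ j = 1 := by
    rw [zpow_eq_zpow_emod' j hBp4]
    show B ^ (j % 4) = 1
    rw [hj', zpow_zero]
  rw [hAi, hBj, mul_one] at hzij
  exact h.z_ne hzij

end Main

end Cfsg.Agent.Helper26.M12Mult
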