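import Mathlib
import Cfsg.Agent.Lib.Helper93.MD0

/-! MD server (helper93, S2140), piece (T4) perp_structure: the core argument with (T2), (T3), `card_PhiA`
and (A4) as explicit hypotheses (second seat, written by helper26). -/

set_option autoImplicit false
set_option linter.unusedSectionVars false
set_option linter.style.haveILetI false
set_option linter.unusedVariables false

namespace Cfsg.Agent.Helper26.MD

open Module Cfsg.Agent.Helper93.McL Cfsg.Agent.Helper93.MD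

variable {F V : Type*} [Field F] [Fintype F] [AddCommGroup V] [Module F V] [FiniteDimensional F V]

/-! ### linear algebra helpers -/

theorem h26_li3 {u v w : V} (hu : u ≠ 0) (hv : v ∉ Submodule.span F {u})
    (hw : w ∉ Submodule.span F {u, v}) : LinearIndependent F ![u, v, w] := by
  rw [Fintype.linearIndependent_iff]
  intro g hg
  rw [Fin.sum_univ_three] at hg
  have hg' : g 0 • u + g 1 • v + g 2 • w = 0 := hg
  have hu' : u ∈ Submodule.span F {u, v} := Submodule.subset_span (by simp)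
  have hv' : v ∈ Submodule.span F {u, v} := Submodule.subset_span (by simp)
  have h2 : g 2 = 0 := by
    by_contra h
    apply hw
    have e : g 2 • w = -(g 0 • u + g 1 • v) := by
      rw [eq_neg_iff_add_eq_zero, add_comm]; exact hg'
    have hmem : g 2 • w ∈ Submodule.span F {u, v} := by
      rw [e]
      exact neg_mem (add_mem (Submodule.smul_mem _ _ hu') (Submodule.smul_mem _ _ hv'))
    rw [← inv_smul_smul₀ h w]
    exact Submodule.smul_mem _ _ hmem
  rw [h2, zero_smul, add_zero] at hg'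
  have h1 : g 1 = 0 := by
    by_contra h
    apply hv
    have e : g 1 • v = -(g 0 • u) := by
      rw [eq_neg_iff_add_eq_zero, add_comm]; exact hg'
    have hmem : g 1 • v ∈ Submodule.span F {u} := by
      rw [e]
      exact neg_mem (Submodule.smul_mem _ _ (Submodule.mem_span_singleton_self u))
    rw [← inv_smul_smul₀ h v]
    exact Submodule.smul_mem _ _ hmem
  rw [h1, zero_smul, add_zero] at hg'
  have h0 : g 0 = 0 := by
    rcases smul_eq_zero.1 hg' with h | h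
    · exact h
    · exact absurd h hu
  intro i
  fin_cases i
  · exact h0
  · exact h1
  · exact h2

/-- a functional killing `u`, `v` and taking the value `1` at `w` -/
theorem h26_exists_dual {u v w : V} (hw : w ∉ Submodule.span F {u, v}) :
    ∃ ψ : Dual F V, ψ u = 0 ∧ ψ v = 0 ∧ ψ w = 1 := by
  obtain ⟨f, hfw, hf⟩ := Submodule.exists_dual_map_eq_bot_of_notMem hw inferInstance
  have hz : ∀ y ∈ Submodule.span F {u, v}, f y = 0 := by
    intro y hy
    have : f y ∈ (Submodule.span F {u, v}).map f := Submodule.mem_map_of_mem hy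
    rw [hf] at this
    exact (Submodule.mem_bot F).1 this
  refine ⟨(f w)⁻¹ • f, ?_, ?_, ?_⟩
  · rw [LinearMap.smul_apply, hz u (Submodule.subset_span (by simp)), smul_zero]
  · rw [LinearMap.smul_apply, hz v (Submodule.subset_span (by simp)), smul_zero]
  · rw [LinearMap.smul_apply, smul_eq_mul, inv_mul_cancel₀ hfw]

/-! ### the action of the stabiliser of `u` on the subgroups `Bst u ω` -/

section act

variable {Ω : Type*} [MulAction ↥(SLV F V) Ω]

theorem h26_conj_stv (g : ↥(SLV F V)) {u : V} (hg : (g : V ≃ₗ[F] V) u = u) (φ : Dual F V) :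
    stv u (φ ∘ₗ ((g : V ≃ₗ[F] V) : V →ₗ[F] V)) = g⁻¹ * stv u φ * g := by
  apply Subtype.ext
  show tv u (φ ∘ₗ ((g : V ≃ₗ[F] V) : V →ₗ[F] V)) = (g : V ≃ₗ[F] V)⁻¹ * tv u φ * (g : V ≃ₗ[F] V)
  have hk : (φ ∘ₗ ((g : V ≃ₗ[F] V) : V →ₗ[F] V)) u = φ u := by
    show φ ((g : V ≃ₗ[F] V) u) = φ u
    rw [hg]
  have hsymm : (g : V ≃ₗ[F] V).symm u = u := by
    rw [LinearEquiv.symm_apply_eq, hg]
  by_cases h : φ u = 0
  · apply LinearEquiv.ext
    intro x
    rw [tv_apply (by rw [hk, h])]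
    show x + φ ((g : V ≃ₗ[F] V) x) • u
      = (g : V ≃ₗ[F] V).symm (tv u φ ((g : V ≃ₗ[F] V) x))
    rw [tv_apply h, map_add, map_smul, LinearEquiv.symm_apply_apply, hsymm]
  · rw [tv_of_ne h, tv_of_ne (by rw [hk]; exact h), mul_one, inv_mul_cancel]

theorem h26_mem_Bst_smul (g : ↥(SLV F V)) {u : V} (hg : (g : V ≃ₗ[F] V) u = u) (ω : Ω)
    (φ : Dual F V) :
    φ ∈ Bst u (g • ω) ↔ (φ ∘ₗ ((g : V ≃ₗ[F] V) : V →ₗ[F] V)) ∈ Bst u ω := by
  rw [mem_Bst (F := F), mem_Bst (F := F), h26_conj_stv g hg φ]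
  have hk : (φ ∘ₗ ((g : V ≃ₗ[F] V) : V →ₗ[F] V)) u = φ u := by
    show φ ((g : V ≃ₗ[F] V) u) = φ u
    rw [hg]
  rw [hk, mul_smul, mul_smul, inv_smul_eq_iff]

/-- points of one `E_u`-orbit have the same `Bst` -/
theorem h26_Bst_smul_stv {u : V} (ψ : Dual F V) (hψ : ψ u = 0) (ω : Ω) :
    Bst (F := F) u (stv u ψ • ω) = Bst (F := F) u ω := by
  ext φ
  rw [mem_Bst (F := F), mem_Bst (F := F)]
  constructor
  · rintro ⟨h1, h2⟩
    refine ⟨h1, ?_⟩
    have hc : stv u φ * stv u ψ = stv u ψ * stv u φ := by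
      apply Subtype.ext
      show tv u φ * tv u ψ = tv u ψ * tv u φ
      rw [tv_mul_axis h1 hψ, tv_mul_axis hψ h1, add_comm]
    rw [← mul_smul, hc, mul_smul] at h2
    exact smul_left_cancel _ h2
  · rintro ⟨h1, h2⟩
    refine ⟨h1, ?_⟩
    have hc : stv u φ * stv u ψ = stv u ψ * stv u φ := by
      apply Subtype.ext
      show tv u φ * tv u ψ = tv u ψ * tv u φ
      rw [tv_mul_axis h1 hψ, tv_mul_axis hψ h1, add_comm]
    rw [← mul_smul, hc, mul_smul, h2]

theorem h26_mem_perp_smul {p : ℕ} (τ : F →+ ZMod p) (g : ↥(SLV F V)) {u : V}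
    (hg : (g : V ≃ₗ[F] V) u = u) (ω : Ω) (x : V) :
    (g : V ≃ₗ[F] V) x ∈ perp τ (Bst u (g • ω)) ↔ x ∈ perp τ (Bst u ω) := by
  rw [mem_perp, mem_perp]
  constructor
  · intro h ψ hψ
    have hφ : (ψ ∘ₗ ((g : V ≃ₗ[F] V).symm : V →ₗ[F] V)) ∈ Bst u (g • ω) := by
      rw [h26_mem_Bst_smul g hg]
      have : (ψ ∘ₗ ((g : V ≃ₗ[F] V).symm : V →ₗ[F] V)) ∘ₗ ((g : V ≃ₗ[F] V) : V →ₗ[F] V) = ψ := by
        apply LinearMap.ext
        intro y
        show ψ ((g : V ≃ₗ[F] V).symm ((g : V ≃ₗ[F] V) y)) = ψ y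
        rw [LinearEquiv.symm_apply_apply]
      rw [this]
      exact hψ
    have := h _ hφ
    have e : (ψ ∘ₗ ((g : V ≃ₗ[F] V).symm : V →ₗ[F] V)) ((g : V ≃ₗ[F] V) x) = ψ x := by
      show ψ ((g : V ≃ₗ[F] V).symm ((g : V ≃ₗ[F] V) x)) = ψ x
      rw [LinearEquiv.symm_apply_apply]
    rw [e] at this
    exact this
  · intro h φ hφ
    exact h _ ((h26_mem_Bst_smul g hg ω φ).1 hφ)

end act

/-! ### the three claims -/

section claims

variable {Ω : Type*} [Fintype Ω] [MulAction ↥(SLV F V) Ω] {p : ℕ}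

/-- Claim A -/
theorem h26_claimA {u : V} (τ : F →+ ZMod p) (ω : Ω)
    (H2 : ∀ {v : V}, v ∉ Submodule.span F {u} → ∃ ω₀ : Ω, Bst u ω₀ ≤ Mt τ u v ∧
      ∀ ω : Ω, Bst u ω ≤ Mt τ u v → ∃ φ : Dual F V, φ u = 0 ∧ stv u φ • ω₀ = ω)
    (g : ↥(SLV F V)) (hg : (g : V ≃ₗ[F] V) u = u) {v : V} (hv : v ∉ Submodule.span F {u})
    (hvT : v ∈ perp τ (Bst u ω)) (hgv : (g : V ≃ₗ[F] V) v ∈ perp τ (Bst u ω)) :
    ∀ x : V, x ∈ perp τ (Bst u ω) ↔ (g : V ≃ₗ[F] V) x ∈ perp τ (Bst u ω) := by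
  have hsymm : (g : V ≃ₗ[F] V).symm u = u := by
    rw [LinearEquiv.symm_apply_eq, hg]
  have hv' : (g : V ≃ₗ[F] V) v ∉ Submodule.span F {u} := by
    intro hmem
    obtain ⟨a, ha⟩ := Submodule.mem_span_singleton.1 hmem
    apply hv
    rw [Submodule.mem_span_singleton]
    refine ⟨a, ?_⟩
    have := congrArg (g : V ≃ₗ[F] V).symm ha
    rw [map_smul, hsymm, LinearEquiv.symm_apply_apply] at this
    exact this
  have hle1 : Bst u ω ≤ Mt τ u ((g : V ≃ₗ[F] V) v) := by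
    intro φ hφ
    exact ⟨((mem_Bst (F := F)).1 hφ).1, (mem_perp.1 hgv) φ hφ⟩
  have hle2 : Bst u (g • ω) ≤ Mt τ u ((g : V ≃ₗ[F] V) v) := by
    intro φ hφ
    refine ⟨((mem_Bst (F := F)).1 hφ).1, ?_⟩
    exact (mem_perp.1 ((h26_mem_perp_smul τ g hg ω v).2 hvT)) φ hφ
  obtain ⟨ω₀, -, hall⟩ := H2 hv'
  obtain ⟨φ₁, h1u, h1⟩ := hall ω hle1
  obtain ⟨φ₂, h2u, h2⟩ := hall (g • ω) hle2
  have hB : Bst (F := F) u (g • ω) = Bst (F := F) u ω := by
    rw [← h2, ← h1, h26_Bst_smul_stv φ₂ h2u, h26_Bst_smul_stv φ₁ h1u]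
  intro x
  rw [← h26_mem_perp_smul τ g hg ω x, hB]

/-- Claim B -/
theorem h26_claimB {u : V} (τ : F →+ ZMod p) (ω : Ω)
    (H2 : ∀ {v : V}, v ∉ Submodule.span F {u} → ∃ ω₀ : Ω, Bst u ω₀ ≤ Mt τ u v ∧
      ∀ ω : Ω, Bst u ω ≤ Mt τ u v → ∃ φ : Dual F V, φ u = 0 ∧ stv u φ • ω₀ = ω)
    {v w : V} (hv : v ∉ Submodule.span F {u}) (hvT : v ∈ perp τ (Bst u ω))
    (hw : w ∉ Submodule.span F {u, v}) (hwT : w ∈ perp τ (Bst u ω)) (lam : F) :
    lam • v ∈ perp τ (Bst u ω) := by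
  obtain ⟨ψ, hψu, hψv, hψw⟩ := h26_exists_dual hw
  have h0 : (lam • ψ) v = 0 := by rw [LinearMap.smul_apply, hψv, smul_zero]
  have hgu : ((stv v (lam • ψ) : ↥(SLV F V)) : V ≃ₗ[F] V) u = u := by
    rw [coe_stv, tv_apply h0, LinearMap.smul_apply, hψu, smul_zero, zero_smul, add_zero]
  have hgv : ((stv v (lam • ψ) : ↥(SLV F V)) : V ≃ₗ[F] V) v = v := by
    rw [coe_stv, tv_apply h0, h0, zero_smul, add_zero]
  have hgw : ((stv v (lam • ψ) : ↥(SLV F V)) : V ≃ₗ[F] V) w = w + lam • v := by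
    rw [coe_stv, tv_apply h0, LinearMap.smul_apply, hψw, smul_eq_mul, mul_one]
  have hA := h26_claimA τ ω H2 (stv v (lam • ψ)) hgu hv hvT (by rw [hgv]; exact hvT)
  have h1 := (hA w).1 hwT
  rw [hgw] at h1
  have h2 := (perp τ (Bst u ω)).sub_mem h1 hwT
  rwa [add_sub_cancel_left] at h2

/-- Claim C -/
theorem h26_claimC {u : V} (hu : u ≠ 0) (τ : F →+ ZMod p) (ω : Ω)
    (H2 : ∀ {v : V}, v ∉ Submodule.span F {u} → ∃ ω₀ : Ω, Bst u ω₀ ≤ Mt τ u v ∧
      ∀ ω : Ω, Bst u ω ≤ Mt τ u v → ∃ φ : Dual F V, φ u = 0 ∧ stv u φ • ω₀ = ω)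
    (H4 : ∀ {u v w x : V}, LinearIndependent F ![u, v, w] → LinearIndependent F ![u, v, x] →
      ∃ (g : ↥(SLV F V)) (c : F), c ≠ 0 ∧ (g : V ≃ₗ[F] V) u = u ∧ (g : V ≃ₗ[F] V) v = v ∧
        (g : V ≃ₗ[F] V) w = c • x)
    {v w : V} (hv : v ∉ Submodule.span F {u}) (hvT : v ∈ perp τ (Bst u ω))
    (hw : w ∉ Submodule.span F {u, v}) (hwT : w ∈ perp τ (Bst u ω)) :
    perp τ (Bst u ω) = ⊤ := by
  have hu' : u ∈ Submodule.span F {u, v} := Submodule.subset_span (by simp)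
  have hv' : v ∈ Submodule.span F {u, v} := Submodule.subset_span (by simp)
  have hle : Submodule.span F {u} ≤ Submodule.span F {u, v} :=
    Submodule.span_mono (by simp)
  -- vectors outside the plane
  have hout : ∀ x : V, x ∉ Submodule.span F {u, v} → x ∈ perp τ (Bst u ω) := by
    intro x hx
    obtain ⟨g, c, hc, hgu, hgv, hgw⟩ := H4 (h26_li3 hu hv hw) (h26_li3 hu hv hx)
    have hA := h26_claimA τ ω H2 g hgu hv hvT (by rw [hgv]; exact hvT)
    have hcx : c • x ∈ perp τ (Bst u ω) := by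
      have := (hA w).1 hwT
      rwa [hgw] at this
    have hcx1 : c • x ∉ Submodule.span F {u} := by
      intro hmem
      apply hx
      rw [← inv_smul_smul₀ hc x]
      exact Submodule.smul_mem _ _ (hle hmem)
    have hcx2 : v ∉ Submodule.span F {u, c • x} := by
      intro hmem
      obtain ⟨a, b, hab⟩ := Submodule.mem_span_pair.1 hmem
      by_cases hb : b = 0
      · apply hv
        rw [Submodule.mem_span_singleton]
        refine ⟨a, ?_⟩
        rw [hb, zero_smul, add_zero] at hab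
        exact hab
      · apply hx
        have e : (b * c) • x = v - a • u := by
          rw [mul_smul, ← hab, add_sub_cancel_left]
        have hbc : b * c ≠ 0 := mul_ne_zero hb hc
        rw [← inv_smul_smul₀ hbc x, e]
        exact Submodule.smul_mem _ _ (sub_mem hv' (Submodule.smul_mem _ _ hu'))
    have := h26_claimB τ ω H2 hcx1 hcx hcx2 hvT c⁻¹
    rwa [inv_smul_smul₀ hc] at this
  rw [eq_top_iff]
  intro x _
  by_cases hx : x ∈ Submodule.span F {u, v}
  · have hxw : x + w ∉ Submodule.span F {u, v} := by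
      intro hmem
      apply hw
      have := sub_mem hmem hx
      rwa [add_sub_cancel_left] at this
    have h1 := hout _ hxw
    have h2 := (perp τ (Bst u ω)).sub_mem h1 hwT
    rwa [add_sub_cancel_right] at h2
  · exact hout x hx

/-- existence of a vector of `perp` outside `F u` -/
theorem h26_exists_v {u : V} (hu : u ≠ 0) (hn : 1 ≤ finrank F V) (τ : F →+ ZMod p) (ω : Ω)
    (H3 : Nat.card ↥(Bst (F := F) u ω) * Nat.card ↥(perp τ (Bst u ω)) =
      Fintype.card F ^ finrank F V)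
    (HC : Nat.card ↥(PhiA u : AddSubgroup (Dual F V)) = Fintype.card F ^ (finrank F V - 1))
    (hω : Bst u ω ≠ (PhiA u : AddSubgroup (Dual F V))) :
    ∃ v : V, v ∈ perp τ (Bst u ω) ∧ v ∉ Submodule.span F {u} := by
  classical
  haveI : Finite V := Module.finite_of_finite F
  haveI : Finite (Dual F V) := Module.finite_of_finite F
  by_contra hcon
  push Not at hcon
  -- `|T| ≤ q`
  have hT : Nat.card ↥(perp τ (Bst u ω)) ≤ Fintype.card F := by
    have hex : ∀ x : ↥(perp τ (Bst u ω)), ∃ a : F, a • u = (x : V) := fun x =>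
      Submodule.mem_span_singleton.1 (hcon x.1 x.2)
    choose a ha using hex
    have hinj : Function.Injective a := by
      intro x y hxy
      apply Subtype.ext
      rw [← ha x, ← ha y, hxy]
    rw [← Nat.card_eq_fintype_card]
    exact Nat.card_le_card_of_injective a hinj
  -- `|B| < q^(n-1)`
  have hle : Bst u ω ≤ (PhiA u : AddSubgroup (Dual F V)) := fun φ hφ => ((mem_Bst (F := F)).1 hφ).1
  have hlt : Nat.card ↥(Bst (F := F) u ω) < Fintype.card F ^ (finrank F V - 1) := by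
    rw [← HC]
    have hss : ((Bst u ω : AddSubgroup (Dual F V)) : Set (Dual F V)) ⊂
        ((PhiA u : AddSubgroup (Dual F V)) : Set (Dual F V)) := by
      refine ⟨hle, ?_⟩
      intro h
      exact hω (le_antisymm hle h)
    have := Set.ncard_lt_ncard hss (Set.toFinite _)
    rwa [← Nat.card_coe_set_eq, ← Nat.card_coe_set_eq] at this
  have hTpos : 0 < Nat.card ↥(perp τ (Bst u ω)) := Nat.card_pos
  have hq : 0 < Fintype.card F := Fintype.card_pos
  have hpow : Fintype.card F ^ finrank F V = Fintype.card F ^ (finrank F V - 1) * Fintype.card F := by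
    rw [← pow_succ, Nat.sub_add_cancel hn]
  have h1 : Nat.card ↥(Bst (F := F) u ω) * Nat.card ↥(perp τ (Bst u ω)) <
      Fintype.card F ^ (finrank F V - 1) * Fintype.card F :=
    calc Nat.card ↥(Bst (F := F) u ω) * Nat.card ↥(perp τ (Bst u ω))
        < Fintype.card F ^ (finrank F V - 1) * Nat.card ↥(perp τ (Bst u ω)) :=
          Nat.mul_lt_mul_of_pos_right hlt hTpos
      _ ≤ Fintype.card F ^ (finrank F V - 1) * Fintype.card F := Nat.mul_le_mul_left _ hT
  rw [H3, hpow] at h1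
  exact lt_irrefl _ h1

/-- (T4) with (T2), (T3), `card_PhiA`, (A4) as hypotheses -/
theorem perp_structure_of {u : V} (hu : u ≠ 0) (hn : 1 ≤ finrank F V) (τ : F →+ ZMod p) (ω : Ω)
    (H2 : ∀ {v : V}, v ∉ Submodule.span F {u} → ∃ ω₀ : Ω, Bst u ω₀ ≤ Mt τ u v ∧
      ∀ ω : Ω, Bst u ω ≤ Mt τ u v → ∃ φ : Dual F V, φ u = 0 ∧ stv u φ • ω₀ = ω)
    (H3 : Nat.card ↥(Bst (F := F) u ω) * Nat.card ↥(perp τ (Bst u ω)) =
      Fintype.card F ^ finrank F V)
    (HC : Nat.card ↥(PhiA u : AddSubgroup (Dual F V)) = Fintype.card F ^ (finrank F V - 1))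
    (H4 : ∀ {u v w x : V}, LinearIndependent F ![u, v, w] → LinearIndependent F ![u, v, x] →
      ∃ (g : ↥(SLV F V)) (c : F), c ≠ 0 ∧ (g : V ≃ₗ[F] V) u = u ∧ (g : V ≃ₗ[F] V) v = v ∧
        (g : V ≃ₗ[F] V) w = c • x)
    (hω : Bst u ω ≠ (PhiA u : AddSubgroup (Dual F V))) :
    (∃ v : V, v ∉ Submodule.span F {u} ∧ ∀ x ∈ perp τ (Bst u ω), x ∈ Submodule.span F {u, v}) ∨
      perp τ (Bst u ω) = ⊤ := by
  obtain ⟨v, hvT, hv⟩ := h26_exists_v hu hn τ ω H3 HC hω
  by_cases h : ∀ x ∈ perp τ (Bst u ω), x ∈ Submodule.span F {u, v}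
  · exact Or.inl ⟨v, hv, h⟩
  · push Not at h
    obtain ⟨w, hwT, hw⟩ := h
    exact Or.inr (h26_claimC hu τ ω H2 H4 hv hvT hw hwT)

end claims

end Cfsg.Agent.Helper26.MD
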