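import Mathlib
import Cfsg.Agent.Lib.Helper93.MD0
import Cfsg.Agent.Lib.Helper23.MDT2
import Cfsg.Agent.Lib.Helper86.MDT3
import Cfsg.Agent.Lib.Helper4.MDC
import Cfsg.Agent.Lib.Helper95.MDA
import Cfsg.Agent.Lib.Helper26.MDT4Core

/-! MD server (helper93, S2140), piece (T4) perp_structure (second seat, written by helper26):
`perp_structure_of` of `MDT4Core` fed with (T2) helper23, (T3) helper86, `card_PhiA` helper4, (A4) helper95. -/

set_option autoImplicit false

namespace Cfsg.Agent.Helper26.MD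

open Module Cfsg.Agent.Helper93.McL Cfsg.Agent.Helper93.MD

variable {F V : Type*} [Field F] [Fintype F] [AddCommGroup V] [Module F V] [FiniteDimensional F V]

variable {Ω : Type*} [Fintype Ω] [MulAction ↥(SLV F V) Ω] {p : ℕ} [Fact p.Prime] [CharP F p]

/-- (T4) structure of `perp τ (Bst u ω)` for a non-fixed `ω`. -/
theorem perp_structure (hn : 3 ≤ finrank F V) {u : V} (hu : u ≠ 0) (f : ℕ)
    (hf : ∀ φ : Dual F V, φ u = 0 → φ ≠ 0 → fp Ω (stv u φ) = f)
    (hm : Fintype.card Ω = f + Fintype.card F ^ (finrank F V - 1))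
    (τ : F →+ ZMod p) (hτ : τ ≠ 0) (ω : Ω) (hω : Bst u ω ≠ (PhiA u : AddSubgroup (Dual F V))) :
    (∃ v : V, v ∉ Submodule.span F {u} ∧ ∀ x ∈ perp τ (Bst u ω), x ∈ Submodule.span F {u, v}) ∨
      perp τ (Bst u ω) = ⊤ := by
  refine perp_structure_of hu (by omega) τ ω ?_ ?_ ?_ ?_ hω
  · intro v hv
    exact Cfsg.Agent.Helper23.MD.exists_unique_orbit_below hn hu f hf hm τ hτ hv
  · exact Cfsg.Agent.Helper86.MD.card_mul_card_perp hu τ hτ (Bst u ω)
      (fun φ hφ => ((mem_Bst (F := F)).1 hφ).1)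
  · exact Cfsg.Agent.Helper4.MD.card_PhiA hu
  · intro u v w x h1 h2
    exact Cfsg.Agent.Helper95.MD.exists_sl_fix2_map h1 h2

end Cfsg.Agent.Helper26.MD
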