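import Mathlib
import Cfsg.Agent.Lib.Helper7.Co0Order
import Cfsg.Agent.Lib.Helper7.Co0Trans48
import Cfsg.Agent.Lib.Helper7.Chain2
import Cfsg.Agent.Lib.Helper7.Pairs48
import Cfsg.Agent.Lib.Helper26.LeechOrbX
import Cfsg.Agent.S0395
import Cfsg.Agent.S1578
import Cfsg.Agent.S1579

/-! The order of the stabiliser of two minimal vectors with inner product `-8` -/

set_option autoImplicit false

namespace Cfsg.Agent.Helper26.McLOrder
open Cfsg Cfsg.Agent.Helper7

theorem sqNorm_add' (a b : GolayPt → ℤ) :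
    sqNorm (a + b) = sqNorm a + sqNorm b + 2 * dotInt a b := by
  unfold sqNorm dotInt
  rw [Finset.mul_sum, ← Finset.sum_add_distrib, ← Finset.sum_add_distrib]
  apply Finset.sum_congr rfl
  intro i _
  simp only [Pi.add_apply]
  ring

theorem card_orbit48 (u : leechLattice) (hu : sqNorm u.1 = 48) :
    Nat.card (MulAction.orbit Co0 u) = 16773120 := by
  have : MulAction.orbit Co0 u = {x : leechLattice | (fun y => sqNorm y = 48) x.1} := by
    ext q
    rw [mem_orbit_iff']
    constructor
    · rintro ⟨g, hg, rfl⟩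
      show sqNorm (g u).1 = 48
      rw [hg.2 u]; exact hu
    · intro hq
      exact co0_trans48 u q hu hq
  rw [this, Nat.card_coe_set_eq, LOX.ncard_subtype (fun y => sqNorm y = 48)]
  exact Cfsg.Agent.S0395.result

theorem card_stab48 (u : leechLattice) (hu : sqNorm u.1 = 48) :
    Nat.card ↥(stabIn Co0 u) = 495766656000 := by
  have h := card_eq_orbit_mul Co0 u
  rw [card_Co0, card_orbit48 u hu] at h
  omega

theorem card_orbit552 (u v : leechLattice) (hu : sqNorm u.1 = 48)
    (hv : sqNorm v.1 = 32 ∧ sqNorm (u.1 - v.1) = 32) :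
    Nat.card (MulAction.orbit (stabIn Co0 u) v) = 552 := by
  have : MulAction.orbit (stabIn Co0 u) v =
      {x : leechLattice | sqNorm x.1 = 32 ∧ sqNorm (u.1 - x.1) = 32} := by
    ext q
    rw [mem_orbit_iff']
    constructor
    · rintro ⟨g, hg, rfl⟩
      obtain ⟨hg1, hg2⟩ := mem_stabIn.mp hg
      refine ⟨by rw [hg1.2 v]; exact hv.1, ?_⟩
      have e : u.1 - (g v).1 = (g (u - v)).1 := by
        rw [co0_sub g hg1, hg2]; rfl
      rw [e, hg1.2]
      exact hv.2
    · intro hq
      obtain ⟨g, hgu, hgv⟩ := Cfsg.Agent.S1579.result u v q hu hv hq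
      exact ⟨g.1, mem_stabIn.mpr ⟨g.2, hgu⟩, hgv⟩
  rw [this, Nat.card_coe_set_eq]
  exact Cfsg.Agent.S1578.result u hu

theorem card_stabL_uv (u v : leechLattice) (hu : sqNorm u.1 = 48)
    (hv : sqNorm v.1 = 32 ∧ sqNorm (u.1 - v.1) = 32) :
    Nat.card ↥(stabL Co0 [u, v]) = 898128000 := by
  have h := card_eq_orbit_mul (stabIn Co0 u) v
  rw [card_stab48 u hu, card_orbit552 u v hu hv] at h
  show Nat.card ↥(stabIn (stabIn Co0 u) v) = _
  omega

theorem stabL_vw (v w : leechLattice) : stabL Co0 [v + w, v] = stabL Co0 [v, w] := by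
  ext g
  rw [mem_stabL, mem_stabL]
  constructor
  · rintro ⟨hg, h⟩
    have h1 : g (v + w) = v + w := h _ (by simp)
    have h2 : g v = v := h _ (by simp)
    refine ⟨hg, ?_⟩
    intro b hb
    simp only [List.mem_cons, List.not_mem_nil, or_false] at hb
    rcases hb with hb | hb
    · rw [hb]; exact h2
    · rw [hb]
      have h3 := hg.1 v w
      rw [h1, h2] at h3
      exact (add_left_cancel h3).symm
  · rintro ⟨hg, h⟩
    have h1 : g v = v := h _ (by simp)
    have h2 : g w = w := h _ (by simp)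
    refine ⟨hg, ?_⟩
    intro b hb
    simp only [List.mem_cons, List.not_mem_nil, or_false] at hb
    rcases hb with hb | hb
    · rw [hb, hg.1, h1, h2]
    · rw [hb]; exact h1

theorem card_stabL_vw (v w : leechLattice) (hv : sqNorm v.1 = 32) (hw : sqNorm w.1 = 32)
    (hvw : dotInt v.1 w.1 = -8) : Nat.card ↥(stabL Co0 [v, w]) = 898128000 := by
  rw [← stabL_vw]
  apply card_stabL_uv
  · show sqNorm (v.1 + w.1) = 48
    rw [sqNorm_add', hv, hw, hvw]; norm_num
  · refine ⟨hv, ?_⟩
    have : (v + w : leechLattice).1 - v.1 = w.1 := by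
      show v.1 + w.1 - v.1 = w.1
      abel
    rw [this]; exact hw

/-- the order of the stabiliser of two minimal vectors with inner product `-8` -/
theorem card_McL (v w : leechLattice) (hv : sqNorm v.1 = 32) (hw : sqNorm w.1 = 32)
    (hvw : dotInt v.1 w.1 = -8) :
    Nat.card ↥(MulAction.stabilizer ↥Co0 v ⊓ MulAction.stabilizer ↥Co0 w) = 898128000 := by
  rw [card_stabilizer_inf]
  exact card_stabL_vw v w hv hw hvw

end Cfsg.Agent.Helper26.McLOrder
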