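import Mathlib
import Cfsg.Agent.Lib.Helper26.LO1580Base
import Cfsg.Agent.Lib.Helper26.McLOrder
import Cfsg.Agent.Lib.Helper7.Co0Frame
import Cfsg.Agent.S0378
import Cfsg.Agent.S0379
import Cfsg.Agent.S1634

/-! The point stabiliser of the McLaughlin group on its 2025 points is the Mathieu group `M22` -/

set_option autoImplicit false

namespace Cfsg.Agent.Helper26.McLPoint
open Cfsg Cfsg.Agent.Helper7 Cfsg.Agent.Helper26 Cfsg.Agent.Helper92
open Cfsg.Agent.Helper26.LO1580 (v0 kv0)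

/-- packed second vector `(-3, 1, ..., 1)` -/
def kw1 : ℕ := 47536897508558602556126370197

/-- the second vector -/
def w1 : leechLattice := ⟨vecK kw1, vecK_mem kw1 1 0 (by decide +kernel)⟩

/-- packed point `(-4, 4, 0, ..., 0)` -/
def kx1 : ℕ := 42255020007607646716556773572

/-- the point -/
def x1 : leechLattice := ⟨vecK kx1, vecK_mem kx1 0 0 (by decide +kernel)⟩

theorem v0_apply : ∀ j : GolayPt, v0.1 j = if j = pt 0 ∨ j = pt 1 then 4 else 0 := by
  decide +kernel

theorem w1_apply : ∀ j : GolayPt, w1.1 j = if j = pt 0 then -3 else 1 := by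
  decide +kernel

theorem x1_apply : ∀ j : GolayPt, x1.1 j = if j = pt 0 then -4 else if j = pt 1 then 4 else 0 := by
  decide +kernel

theorem facts : normK kv0 = 32 ∧ normK kw1 = 32 ∧ normK kx1 = 32 ∧ dotK kv0 kw1 = -8 ∧
    dotK kv0 kx1 = 0 ∧ dotK kw1 kx1 = 16 := by decide +kernel

theorem v0_norm : sqNorm v0.1 = 32 := by
  show sqNorm (vecK kv0) = 32
  rw [sqNorm_vecK]; exact facts.1

theorem w1_norm : sqNorm w1.1 = 32 := by
  show sqNorm (vecK kw1) = 32
  rw [sqNorm_vecK]; exact facts.2.1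

theorem x1_norm : sqNorm x1.1 = 32 := by
  show sqNorm (vecK kx1) = 32
  rw [sqNorm_vecK]; exact facts.2.2.1

theorem dot_v0_w1 : dotInt v0.1 w1.1 = -8 := by
  show dotInt (vecK kv0) (vecK kw1) = -8
  rw [dotInt_vecK]; exact facts.2.2.2.1

theorem dot_v0_x1 : dotInt v0.1 x1.1 = 0 := by
  show dotInt (vecK kv0) (vecK kx1) = 0
  rw [dotInt_vecK]; exact facts.2.2.2.2.1

theorem dot_w1_x1 : dotInt w1.1 x1.1 = 16 := by
  show dotInt (vecK kw1) (vecK kx1) = 16
  rw [dotInt_vecK]; exact facts.2.2.2.2.2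

/-- the monomial automorphism of a permutation of the code's group -/
def permAut (σ : Equiv.Perm GolayPt) (hσ : σ ∈ M24) : Equiv.Perm leechLattice :=
  monoPerm σ ∅ hσ empty_mem

theorem permAut_val (σ : Equiv.Perm GolayPt) (hσ : σ ∈ M24) (x : leechLattice) (j : GolayPt) :
    (permAut σ hσ x).1 j = x.1 (σ.symm j) := by
  show signedPerm σ ∅ x.1 j = _
  rw [signedPerm_apply, if_neg (Finset.notMem_empty j)]

theorem permAut_mem (σ : Equiv.Perm GolayPt) (hσ : σ ∈ M24) : permAut σ hσ ∈ Co0 :=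
  monoPerm_mem σ ∅ hσ empty_mem

theorem permAut_mul (σ τ : Equiv.Perm GolayPt) (hσ : σ ∈ M24) (hτ : τ ∈ M24) :
    permAut (σ * τ) (M24.mul_mem hσ hτ) = permAut σ hσ * permAut τ hτ := by
  ext x : 1
  apply Subtype.ext
  funext j
  rw [Equiv.Perm.mul_apply, permAut_val, permAut_val, permAut_val]
  rfl

theorem permAut_inj (σ τ : Equiv.Perm GolayPt) (hσ : σ ∈ M24) (hτ : τ ∈ M24)
    (h : permAut σ hσ = permAut τ hτ) : σ = τ :=
  (monoPerm_inj σ τ ∅ ∅ hσ hτ empty_mem empty_mem h).1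

theorem permAut_fix (σ : Equiv.Perm GolayPt) (hσ : σ ∈ M24) (h0 : σ (pt 0) = pt 0)
    (h1 : σ (pt 1) = pt 1) : permAut σ hσ ∈ stabL Co0 [v0, w1, x1] := by
  have e0 : ∀ j, σ.symm j = pt 0 ↔ j = pt 0 := by
    intro j
    rw [Equiv.symm_apply_eq, h0]
  have e1 : ∀ j, σ.symm j = pt 1 ↔ j = pt 1 := by
    intro j
    rw [Equiv.symm_apply_eq, h1]
  rw [mem_stabL]
  refine ⟨permAut_mem σ hσ, ?_⟩
  intro b hb
  simp only [List.mem_cons, List.not_mem_nil, or_false] at hb
  rcases hb with hb | hb | hb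
  · rw [hb]
    apply Subtype.ext
    funext j
    rw [permAut_val, v0_apply, v0_apply]
    simp only [e0, e1]
  · rw [hb]
    apply Subtype.ext
    funext j
    rw [permAut_val, w1_apply, w1_apply]
    simp only [e0]
  · rw [hb]
    apply Subtype.ext
    funext j
    rw [permAut_val, x1_apply, x1_apply]
    simp only [e0, e1]

/-- the two-point stabiliser of the code's group -/
abbrev M22' : Subgroup ↥M24 := MulAction.stabilizer ↥M24 (pt 0) ⊓ MulAction.stabilizer ↥M24 (pt 1)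

/-- the stabiliser of the configuration with a point -/
abbrev T3 : Subgroup (Equiv.Perm leechLattice) := stabL Co0 [v0, w1, x1]

/-- the embedding of the two-point stabiliser -/
def phi : ↥M22' →* ↥T3 :=
  MonoidHom.mk' (fun τ => ⟨permAut τ.1.1 τ.1.2, permAut_fix τ.1.1 τ.1.2 τ.2.1 τ.2.2⟩) (by
    intro a b
    apply Subtype.ext
    exact permAut_mul a.1.1 b.1.1 a.1.2 b.1.2)

theorem phi_injective : Function.Injective phi := by
  intro a b h
  have h1 : permAut a.1.1 a.1.2 = permAut b.1.1 b.1.2 := congrArg Subtype.val h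
  exact Subtype.ext (Subtype.ext (permAut_inj _ _ _ _ h1))

/-- the points of the configuration -/
def XS : Set leechLattice :=
  {x | sqNorm x.1 = 32 ∧ dotInt v0.1 x.1 = 0 ∧ dotInt w1.1 x.1 = 16}

theorem XS_ncard : XS.ncard = 2025 :=
  (Cfsg.Agent.S1634.result v0 w1 v0_norm w1_norm dot_v0_w1).1

theorem x1_mem : x1 ∈ XS := ⟨x1_norm, dot_v0_x1, dot_w1_x1⟩

/-- the stabiliser of the two vectors -/
abbrev T2 : Subgroup (Equiv.Perm leechLattice) := stabL Co0 [v0, w1]

theorem T2_fix {g : Equiv.Perm leechLattice} (hg : g ∈ T2) : g ∈ Co0 ∧ g v0 = v0 ∧ g w1 = w1 := by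
  rw [mem_stabL] at hg
  exact ⟨hg.1, hg.2 v0 (by simp), hg.2 w1 (by simp)⟩

theorem T2_maps {g : Equiv.Perm leechLattice} (hg : g ∈ T2) {x : leechLattice} (hx : x ∈ XS) :
    g x ∈ XS := by
  obtain ⟨h1, h2, h3⟩ := T2_fix hg
  obtain ⟨a, b, c⟩ := hx
  refine ⟨by rw [h1.2]; exact a, ?_, ?_⟩
  · have := co0_dot g h1 v0 x
    rw [h2] at this
    rw [this]; exact b
  · have := co0_dot g h1 w1 x
    rw [h3] at this
    rw [this]; exact c

theorem T2_trans {x x' : leechLattice} (hx : x ∈ XS) (hx' : x' ∈ XS) : ∃ g ∈ T2, g x = x' := by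
  obtain ⟨g, h1, h2, h3⟩ := (Cfsg.Agent.S1634.result v0 w1 v0_norm w1_norm dot_v0_w1).2.1 x hx x' hx'
  refine ⟨g.1, ?_, h3⟩
  rw [mem_stabL]
  refine ⟨g.2, ?_⟩
  intro b hb
  simp only [List.mem_cons, List.not_mem_nil, or_false] at hb
  rcases hb with hb | hb
  · rw [hb]; exact h1
  · rw [hb]; exact h2

theorem orbit_T2 : MulAction.orbit T2 x1 = XS := by
  ext q
  rw [mem_orbit_iff']
  constructor
  · rintro ⟨g, hg, rfl⟩
    exact T2_maps hg x1_mem
  · intro hq
    exact T2_trans x1_mem hq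

theorem card_T2 : Nat.card ↥T2 = 898128000 :=
  McLOrder.card_stabL_vw v0 w1 v0_norm w1_norm dot_v0_w1

theorem T3_eq : T3 = stabIn T2 x1 := stabL_append Co0 [v0, w1] x1

theorem card_T3 : Nat.card ↥T3 = 443520 := by
  have h := card_eq_orbit_mul T2 x1
  rw [card_T2, orbit_T2, Nat.card_coe_set_eq, XS_ncard, ← T3_eq] at h
  omega

theorem phi_bijective : Function.Bijective phi := by
  have hfin : Finite ↥T3 := Nat.finite_of_card_ne_zero (by rw [card_T3]; norm_num)
  refine (Nat.bijective_iff_injective_and_card phi).mpr ⟨phi_injective, ?_⟩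
  rw [card_T3]
  exact Cfsg.Agent.S0378.result (pt 0) (pt 1) (by decide)

/-- the point stabiliser is simple -/
theorem T3_simple : IsSimpleGroup ↥T3 := by
  haveI : IsSimpleGroup ↥M22' := Cfsg.Agent.S0379.result (pt 0) (pt 1) (by decide)
  exact (MulEquiv.ofBijective phi phi_bijective).symm.isSimpleGroup

end Cfsg.Agent.Helper26.McLPoint
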