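import Mathlib

/-! A simplicity criterion: a transitive group with a simple point stabiliser, only trivial
stabiliser-invariant "block candidates" and no regular normal subgroup is simple. -/

set_option autoImplicit false

namespace Cfsg.Agent.Helper26.SimpleCrit
open MulAction
open scoped Pointwise

variable {G : Type*} [Group G] [Finite G] {Ω : Type*} [MulAction G Ω] [Finite Ω]
  [IsPretransitive G Ω]

/-- the primitivity hypothesis at the point `x` -/
def PrimAt (G : Type*) [Group G] {Ω : Type*} [MulAction G Ω] (x : Ω) : Prop :=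
  ∀ B : Set Ω, x ∈ B → (∀ h ∈ stabilizer G x, h • B = B) → B.ncard ∣ Nat.card Ω →
    B = {x} ∨ B = Set.univ

theorem orbit_cases (x : Ω) (hprim : PrimAt G x) (N : Subgroup G) [N.Normal] :
    orbit N x = {x} ∨ orbit N x = Set.univ := by
  apply hprim
  · exact mem_orbit_self x
  · intro h hh
    rw [smul_orbit_eq_orbit_smul N x h, mem_stabilizer_iff.mp hh]
  · exact (IsBlock.orbit_of_normal (G := G) (N := N) x).ncard_dvd_card ⟨x, mem_orbit_self x⟩

theorem fixes_all_of_le_stab (x : Ω) (N : Subgroup G) [hN : N.Normal]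
    (hle : N ≤ stabilizer G x) (n : G) (hn : n ∈ N) (y : Ω) : n • y = y := by
  obtain ⟨g, rfl⟩ := exists_smul_eq G x y
  have h1 : g⁻¹ * n * g ∈ N := by
    have := hN.conj_mem n hn g⁻¹
    simpa using this
  have h2 := mem_stabilizer_iff.mp (hle h1)
  calc n • g • x = g • (g⁻¹ * n * g) • x := by
        simp only [smul_smul]; congr 1; group
    _ = g • x := by rw [h2]

/-- the trichotomy for normal subgroups -/
theorem normal_trichotomy (x : Ω) (hprim : PrimAt G x) [hs : IsSimpleGroup (stabilizer G x)]
    (hmove : ∃ h ∈ stabilizer G x, ∃ y : Ω, h • y ≠ y) (N : Subgroup G) [hN : N.Normal] :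
    N = ⊥ ∨ N = ⊤ ∨ (Nat.card N = Nat.card Ω ∧ orbit N x = Set.univ) := by
  have hnorm : (N.subgroupOf (stabilizer G x)).Normal := inferInstance
  rcases hnorm.eq_bot_or_eq_top with hbot | htop
  · -- `N ∩ G_x = 1`
    have hinf : N ⊓ stabilizer G x = ⊥ := by
      rw [Subgroup.subgroupOf_eq_bot] at hbot
      exact disjoint_iff.mp hbot
    rcases orbit_cases x hprim N with h1 | h1
    · left
      have hle : N ≤ stabilizer G x := by
        intro n hn
        have : n • x ∈ orbit N x := ⟨⟨n, hn⟩, rfl⟩
        rw [h1] at this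
        exact mem_stabilizer_iff.mpr this
      rw [← hinf]
      exact (inf_eq_left.mpr hle).symm
    · right; right
      refine ⟨?_, h1⟩
      have hst : stabilizer N x = ⊥ := by
        rw [eq_bot_iff]
        intro n hn
        have hn' : (n : G) ∈ N ⊓ stabilizer G x := ⟨n.2, hn⟩
        rw [hinf, Subgroup.mem_bot] at hn'
        exact Subgroup.mem_bot.mpr (Subtype.ext hn')
      have hidx : (stabilizer N x).index = (orbit N x).ncard := index_stabilizer (G := N) (x := x)
      rw [hst, Subgroup.index_bot, h1, Set.ncard_univ] at hidx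
      exact hidx
  · -- `G_x ≤ N`
    have hle : stabilizer G x ≤ N := Subgroup.subgroupOf_eq_top.mp htop
    rcases orbit_cases x hprim N with h1 | h1
    · exfalso
      have hle' : N ≤ stabilizer G x := by
        intro n hn
        have : n • x ∈ orbit N x := ⟨⟨n, hn⟩, rfl⟩
        rw [h1] at this
        exact mem_stabilizer_iff.mpr this
      obtain ⟨h, hh, y, hy⟩ := hmove
      exact hy (fixes_all_of_le_stab x N hle' h (hle hh) y)
    · right; left
      rw [eq_top_iff]
      intro g _
      have : g • x ∈ orbit N x := by rw [h1]; trivial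
      obtain ⟨⟨n, hn⟩, hnx⟩ := this
      have h2 : n⁻¹ * g ∈ stabilizer G x := by
        rw [mem_stabilizer_iff, mul_smul]
        have : n • x = g • x := hnx
        rw [← this, inv_smul_smul]
      have h3 : n * (n⁻¹ * g) ∈ N := N.mul_mem hn (hle h2)
      simpa using h3

/-- small normal subgroups are trivial -/
theorem small_normal_eq_bot (x : Ω) (hprim : PrimAt G x) [hs : IsSimpleGroup (stabilizer G x)]
    (hmove : ∃ h ∈ stabilizer G x, ∃ y : Ω, h • y ≠ y) (N : Subgroup G) [hN : N.Normal]
    (hlt : Nat.card N < Nat.card Ω) : N = ⊥ := by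
  rcases normal_trichotomy x hprim hmove N with h | h | ⟨h, _⟩
  · exact h
  · exfalso
    have h1 : Nat.card Ω ≤ Nat.card G := by
      have h2 : (stabilizer G x).index = Nat.card Ω := index_stabilizer_of_transitive (G := G) (x := x)
      have h3 := (stabilizer G x).card_mul_index
      rw [h2] at h3
      rw [← h3]
      exact Nat.le_mul_of_pos_left _ Nat.card_pos
    rw [h, Subgroup.card_top] at hlt
    omega
  · omega

/-- the criterion -/
theorem isSimpleGroup_of_prim (x : Ω) (hprim : PrimAt G x) [hs : IsSimpleGroup (stabilizer G x)]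
    (hmove : ∃ h ∈ stabilizer G x, ∃ y : Ω, h • y ≠ y)
    (hreg : ∀ N : Subgroup G, N.Normal → Nat.card N = Nat.card Ω → False) :
    IsSimpleGroup G := by
  have hnt : Nontrivial G := by
    obtain ⟨a, b, hab⟩ := hs.toNontrivial
    exact ⟨a.1, b.1, fun h => hab (Subtype.ext h)⟩
  refine ⟨fun N hN => ?_⟩
  rcases normal_trichotomy x hprim hmove N with h | h | ⟨h, _⟩
  · exact Or.inl h
  · exact Or.inr h
  · exact (hreg N hN h).elim

end Cfsg.Agent.Helper26.SimpleCrit
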