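import Mathlib
import Cfsg.Agent.S0144
import Cfsg.Agent.Lib.Helper26.SimpleCrit

/-! Exclusion of regular normal subgroups of order `p ^ a * q ^ b` -/

set_option autoImplicit false

namespace Cfsg.Agent.Helper26.SimpleCritPQ
open MulAction
open scoped commutatorElement

universe u

/-- a normal subgroup of order `p ^ a * q ^ b` (two different primes, both exponents positive)
contains a nontrivial smaller normal subgroup of the whole group -/
theorem exists_smaller_normal {G : Type u} [Group G] [Finite G] (p q a b : ℕ) (hp : p.Prime)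
    (hq : q.Prime) (hpq : p ≠ q) (ha : 0 < a) (hb : 0 < b) (N : Subgroup G) [hN : N.Normal]
    (hcard : Nat.card N = p ^ a * q ^ b) :
    ∃ M : Subgroup G, M.Normal ∧ M ≠ ⊥ ∧ Nat.card M < Nat.card N := by
  haveI : Fact p.Prime := ⟨hp⟩
  haveI hsolv : Group.IsSolvable N := by
    refine Cfsg.Agent.S0144.aux p q hp hq (Nat.card N) N rfl ?_
    intro r hr hdvd
    rw [hcard] at hdvd
    rcases (Nat.Prime.dvd_mul hr).mp hdvd with h | h
    · exact Or.inl ((Nat.prime_dvd_prime_iff_eq hr hp).mp (hr.dvd_of_dvd_pow h))
    · exact Or.inr ((Nat.prime_dvd_prime_iff_eq hr hq).mp (hr.dvd_of_dvd_pow h))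
  have hpa : 1 < p ^ a := Nat.one_lt_pow ha.ne' hp.one_lt
  have hqb : 1 < q ^ b := Nat.one_lt_pow hb.ne' hq.one_lt
  have hnt : Nontrivial N := by
    rw [← Finite.one_lt_card_iff_nontrivial, hcard]
    nlinarith
  by_cases hK : commutator N = ⊥
  · -- `N` is commutative: take a Sylow subgroup
    have hcomm : ∀ x y : N, x * y = y * x := by
      intro x y
      have : ⁅x, y⁆ ∈ commutator N := Subgroup.commutator_mem_commutator (Subgroup.mem_top x) (Subgroup.mem_top y)
      rw [hK, Subgroup.mem_bot, commutatorElement_eq_one_iff_mul_comm] at this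
      exact this
    obtain P : Sylow p N := default
    have hPn : (P : Subgroup N).Normal := by
      refine ⟨fun n hn g => ?_⟩
      rw [hcomm g n, mul_inv_cancel_right]
      exact hn
    haveI := hPn
    haveI : (P : Subgroup N).Characteristic := P.characteristic_of_normal hPn
    refine ⟨(P : Subgroup N).map N.subtype, inferInstance, ?_, ?_⟩
    · intro h
      have h1 : (P : Subgroup N) = ⊥ := by
        rw [eq_bot_iff]
        intro n hn
        have : N.subtype n ∈ (P : Subgroup N).map N.subtype := Subgroup.mem_map_of_mem _ hn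
        rw [h, Subgroup.mem_bot] at this
        exact Subgroup.mem_bot.mpr (Subtype.ext this)
      have hdvd : p ∣ Nat.card N := by
        rw [hcard]
        exact Dvd.dvd.mul_right (dvd_pow_self p ha.ne') _
      exact P.ne_bot_of_dvd_card hdvd h1
    · rw [Subgroup.card_map_of_injective N.subtype_injective]
      have hle : Nat.card (P : Subgroup N) ≤ Nat.card N := Subgroup.card_le_card_group _
      rcases lt_or_eq_of_le hle with h | h
      · exact h
      · exfalso
        obtain ⟨k, hk⟩ := (IsPGroup.iff_card.mp P.isPGroup')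
        rw [hk, hcard] at h
        have : q ∣ p ^ k := by
          rw [h]
          exact Dvd.dvd.mul_left (dvd_pow_self q hb.ne') _
        exact hpq ((Nat.prime_dvd_prime_iff_eq hq hp).mp (hq.dvd_of_dvd_pow this)).symm
  · -- the derived subgroup
    refine ⟨(commutator N).map N.subtype, inferInstance, ?_, ?_⟩
    · intro h
      apply hK
      rw [eq_bot_iff]
      intro n hn
      have : N.subtype n ∈ (commutator N).map N.subtype := Subgroup.mem_map_of_mem _ hn
      rw [h, Subgroup.mem_bot] at this
      exact Subgroup.mem_bot.mpr (Subtype.ext this)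
    · rw [Subgroup.card_map_of_injective N.subtype_injective]
      have hlt : commutator N < ⊤ := Group.IsSolvable.commutator_lt_top_of_nontrivial N
      have hle : Nat.card (commutator N) ≤ Nat.card N := Subgroup.card_le_card_group _
      rcases lt_or_eq_of_le hle with h | h
      · exact h
      · exact absurd (Subgroup.eq_top_of_card_eq _ h) hlt.ne

/-- the criterion, for degree `p ^ a * q ^ b` -/
theorem isSimpleGroup_of_prim_pq {G : Type u} [Group G] [Finite G] {Ω : Type*} [MulAction G Ω]
    [Finite Ω] [IsPretransitive G Ω] (x : Ω) (hprim : SimpleCrit.PrimAt G x)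
    [hs : IsSimpleGroup (stabilizer G x)] (hmove : ∃ h ∈ stabilizer G x, ∃ y : Ω, h • y ≠ y)
    (p q a b : ℕ) (hp : p.Prime) (hq : q.Prime) (hpq : p ≠ q) (ha : 0 < a) (hb : 0 < b)
    (hΩ : Nat.card Ω = p ^ a * q ^ b) : IsSimpleGroup G := by
  refine SimpleCrit.isSimpleGroup_of_prim x hprim hmove ?_
  intro N hN hcard
  haveI := hN
  obtain ⟨M, hM, hne, hlt⟩ := exists_smaller_normal p q a b hp hq hpq ha hb N (hcard.trans hΩ)
  haveI := hM
  exact hne (SimpleCrit.small_normal_eq_bot x hprim hmove M (hlt.trans_eq hcard))

end Cfsg.Agent.Helper26.SimpleCritPQ
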