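import Mathlib
import Cfsg.Agent.Lib.Helper26.SimpleCrit

/-! The primitivity hypothesis from the suborbit lengths of a rank 4 action -/

set_option autoImplicit false

namespace Cfsg.Agent.Helper26.SimpleCritR4
open MulAction
open scoped Pointwise

variable {G : Type*} [Group G] {Ω : Type*} [MulAction G Ω] [Finite Ω]

omit [Finite Ω] in
/-- an invariant set contains an orbit of the stabiliser or is disjoint from it -/
theorem orbit_subset_or_disjoint (x : Ω) (B : Set Ω) (hinv : ∀ h ∈ stabilizer G x, h • B = B)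
    (y : Ω) : orbit (stabilizer G x) y ⊆ B ∨ B ∩ orbit (stabilizer G x) y = ∅ := by
  by_cases h : ∃ z ∈ orbit (stabilizer G x) y, z ∈ B
  · left
    obtain ⟨z, ⟨s, rfl⟩, hz⟩ := h
    rintro _ ⟨s', rfl⟩
    have e : s' • y = ((s' * s⁻¹ : stabilizer G x) : G) • ((s : G) • y) := by
      rw [Subgroup.smul_def, smul_smul]
      congr 1
      simp
    show s' • y ∈ B
    have hz' : (s : G) • y ∈ B := hz
    rw [e]
    have hB := hinv ((s' * s⁻¹ : stabilizer G x) : G) (s' * s⁻¹).2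
    rw [← hB]
    exact Set.smul_mem_smul_set hz'
  · right
    rw [Set.eq_empty_iff_forall_notMem]
    rintro z ⟨hzB, hzO⟩
    exact h ⟨z, hzO, hzB⟩

theorem primAt_rank4 (x y1 y2 y3 : Ω) {n1 n2 n3 : ℕ}
    (h1 : (orbit (stabilizer G x) y1).ncard = n1) (h2 : (orbit (stabilizer G x) y2).ncard = n2)
    (h3 : (orbit (stabilizer G x) y3).ncard = n3)
    (hn1 : 1 < n1) (hn2 : 1 < n2) (hn3 : 1 < n3) (h12 : n1 ≠ n2) (h13 : n1 ≠ n3) (h23 : n2 ≠ n3)
    (hsum : 1 + n1 + n2 + n3 = Nat.card Ω)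
    (hdiv : ∀ a b c : ℕ, (a = 0 ∨ a = n1) → (b = 0 ∨ b = n2) → (c = 0 ∨ c = n3) →
      (1 + a + b + c) ∣ Nat.card Ω → (a = 0 ∧ b = 0 ∧ c = 0) ∨ (a = n1 ∧ b = n2 ∧ c = n3)) :
    SimpleCrit.PrimAt G x := by
  intro B hxB hinv hdvd
  have hfin : ∀ s : Set Ω, s.Finite := fun s => Set.toFinite s
  have hox : orbit (stabilizer G x) x = {x} := by
    ext z
    constructor
    · rintro ⟨s, rfl⟩
      exact s.2
    · rintro rfl
      exact mem_orbit_self _
  have hxnot : ∀ y : Ω, 1 < (orbit (stabilizer G x) y).ncard → x ∉ orbit (stabilizer G x) y := by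
    intro y hy hx
    have : orbit (stabilizer G x) x = orbit (stabilizer G x) y := orbit_eq_iff.mpr hx
    rw [← this, hox, Set.ncard_singleton] at hy
    omega
  have hdisj : ∀ y y' : Ω, (orbit (stabilizer G x) y).ncard ≠ (orbit (stabilizer G x) y').ncard →
      Disjoint (orbit (stabilizer G x) y) (orbit (stabilizer G x) y') := by
    intro y y' hne
    rcases orbit.eq_or_disjoint (G := stabilizer G x) y y' with h | h
    · rw [h] at hne; exact absurd rfl hne
    · exact h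
  set O1 := orbit (stabilizer G x) y1 with hO1
  set O2 := orbit (stabilizer G x) y2 with hO2
  set O3 := orbit (stabilizer G x) y3 with hO3
  have hx1 : x ∉ O1 := hxnot y1 (by rw [h1]; exact hn1)
  have hx2 : x ∉ O2 := hxnot y2 (by rw [h2]; exact hn2)
  have hx3 : x ∉ O3 := hxnot y3 (by rw [h3]; exact hn3)
  have d12 : Disjoint O1 O2 := hdisj y1 y2 (by rw [h1, h2]; exact h12)
  have d13 : Disjoint O1 O3 := hdisj y1 y3 (by rw [h1, h3]; exact h13)
  have d23 : Disjoint O2 O3 := hdisj y2 y3 (by rw [h2, h3]; exact h23)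
  -- the four parts cover everything
  have hU : ({x} ∪ O1 ∪ O2 ∪ O3 : Set Ω) = Set.univ := by
    apply Set.eq_univ_of_subset (s := {x} ∪ O1 ∪ O2 ∪ O3) (Set.Subset.refl _) ?_
    apply Set.eq_of_subset_of_ncard_le (Set.subset_univ _) ?_ (hfin _)
    rw [Set.ncard_univ, ← hsum]
    have e1 : ({x} ∪ O1 : Set Ω).ncard = 1 + n1 := by
      rw [Set.ncard_union_eq (Set.disjoint_singleton_left.mpr hx1) (hfin _) (hfin _),
        Set.ncard_singleton, h1]
    have e2 : ({x} ∪ O1 ∪ O2 : Set Ω).ncard = 1 + n1 + n2 := by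
      rw [Set.ncard_union_eq (Set.disjoint_union_left.mpr ⟨Set.disjoint_singleton_left.mpr hx2, d12⟩)
        (hfin _) (hfin _), e1, h2]
    rw [Set.ncard_union_eq (Set.disjoint_union_left.mpr
      ⟨Set.disjoint_union_left.mpr ⟨Set.disjoint_singleton_left.mpr hx3, d13⟩, d23⟩)
      (hfin _) (hfin _), e2, h3]
  have hB : B = {x} ∪ (B ∩ O1) ∪ (B ∩ O2) ∪ (B ∩ O3) := by
    have : B = B ∩ ({x} ∪ O1 ∪ O2 ∪ O3) := by rw [hU, Set.inter_univ]
    conv_lhs => rw [this]
    rw [Set.inter_union_distrib_left, Set.inter_union_distrib_left, Set.inter_union_distrib_left,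
      Set.inter_eq_right.mpr (Set.singleton_subset_iff.mpr hxB)]
  have c1 := orbit_subset_or_disjoint x B hinv y1
  have c2 := orbit_subset_or_disjoint x B hinv y2
  have c3 := orbit_subset_or_disjoint x B hinv y3
  have k1 : (B ∩ O1).ncard = 0 ∨ (B ∩ O1).ncard = n1 := by
    rcases c1 with h | h
    · right; rw [Set.inter_eq_right.mpr h, h1]
    · left; rw [h, Set.ncard_empty]
  have k2 : (B ∩ O2).ncard = 0 ∨ (B ∩ O2).ncard = n2 := by
    rcases c2 with h | h
    · right; rw [Set.inter_eq_right.mpr h, h2]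
    · left; rw [h, Set.ncard_empty]
  have k3 : (B ∩ O3).ncard = 0 ∨ (B ∩ O3).ncard = n3 := by
    rcases c3 with h | h
    · right; rw [Set.inter_eq_right.mpr h, h3]
    · left; rw [h, Set.ncard_empty]
  have hcard : B.ncard = 1 + (B ∩ O1).ncard + (B ∩ O2).ncard + (B ∩ O3).ncard := by
    have dx1 : Disjoint ({x} : Set Ω) (B ∩ O1) :=
      Set.disjoint_singleton_left.mpr (fun h => hx1 h.2)
    have dx2 : Disjoint ({x} : Set Ω) (B ∩ O2) :=
      Set.disjoint_singleton_left.mpr (fun h => hx2 h.2)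
    have dx3 : Disjoint ({x} : Set Ω) (B ∩ O3) :=
      Set.disjoint_singleton_left.mpr (fun h => hx3 h.2)
    have e12 : Disjoint (B ∩ O1) (B ∩ O2) := d12.mono Set.inter_subset_right Set.inter_subset_right
    have e13 : Disjoint (B ∩ O1) (B ∩ O3) := d13.mono Set.inter_subset_right Set.inter_subset_right
    have e23 : Disjoint (B ∩ O2) (B ∩ O3) := d23.mono Set.inter_subset_right Set.inter_subset_right
    conv_lhs => rw [hB]
    rw [Set.ncard_union_eq (Set.disjoint_union_left.mpr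
      ⟨Set.disjoint_union_left.mpr ⟨dx3, e13⟩, e23⟩) (hfin _) (hfin _),
      Set.ncard_union_eq (Set.disjoint_union_left.mpr ⟨dx2, e12⟩) (hfin _) (hfin _),
      Set.ncard_union_eq dx1 (hfin _) (hfin _), Set.ncard_singleton]
  rw [hcard] at hdvd
  rcases hdiv _ _ _ k1 k2 k3 hdvd with ⟨a, b, c⟩ | ⟨a, b, c⟩
  · left
    rw [a, b, c] at hcard
    obtain ⟨z, hz⟩ := Set.ncard_eq_one.mp hcard
    rw [hz] at hxB ⊢
    rw [Set.mem_singleton_iff.mp hxB]
  · right
    rw [a, b, c, hsum] at hcard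
    apply Set.eq_of_subset_of_ncard_le (Set.subset_univ _) ?_ (hfin _)
    rw [Set.ncard_univ, hcard]

end Cfsg.Agent.Helper26.SimpleCritR4
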