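import Mathlib
import Cfsg.Agent.Lib.Helper26.McLPoint
import Cfsg.Agent.Lib.Helper26.SimpleCritPQ
import Cfsg.Agent.Lib.Helper26.SimpleCritR4

/-! The stabiliser of two minimal vectors with inner product `-8` is simple -/

set_option autoImplicit false

namespace Cfsg.Agent.Helper26.McLSimple
open Cfsg Cfsg.Agent.Helper7 Cfsg.Agent.Helper26 Cfsg.Agent.Helper26.McLPoint
open Cfsg.Agent.Helper26.LO1580 (v0 kv0)
open MulAction

/-- the 2025 points as a type -/
abbrev Om : Type := ↥(orbit ↥T2 x1)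

/-- the base point -/
def om : Om := ⟨x1, mem_orbit_self x1⟩

theorem card_Om : Nat.card Om = 2025 := by
  show Nat.card ↥(orbit ↥T2 x1) = 2025
  rw [orbit_T2, Nat.card_coe_set_eq, XS_ncard]

instance : Finite Om := Nat.finite_of_card_ne_zero (by rw [card_Om]; norm_num)

instance : Finite ↥T2 := Nat.finite_of_card_ne_zero (by rw [card_T2]; norm_num)

theorem mem_stab_om {k : ↥T2} : k ∈ stabilizer ↥T2 om ↔ k.1 x1 = x1 := by
  rw [mem_stabilizer_iff]
  constructor
  · intro h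
    exact congrArg Subtype.val h
  · intro h
    exact Subtype.ext h

theorem mem_T3 {g : Equiv.Perm leechLattice} : g ∈ T3 ↔ g ∈ T2 ∧ g x1 = x1 := by
  rw [T3_eq, mem_stabIn]

/-- the point stabiliser in the action on the 2025 points -/
def stabEquivT3 : ↥(stabilizer ↥T2 om) ≃* ↥T3 where
  toFun k := ⟨k.1.1, mem_T3.mpr ⟨k.1.2, mem_stab_om.mp k.2⟩⟩
  invFun t := ⟨⟨t.1, (mem_T3.mp t.2).1⟩, mem_stab_om.mpr (mem_T3.mp t.2).2⟩
  left_inv _ := rfl
  right_inv _ := rfl
  map_mul' _ _ := rfl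

instance stab_simple : IsSimpleGroup ↥(stabilizer ↥T2 om) := by
  haveI := T3_simple
  exact stabEquivT3.isSimpleGroup

/-- comparison of the suborbits -/
theorem orbit_image (y : leechLattice) (hy : y ∈ orbit ↥T2 x1) :
    Subtype.val '' (orbit ↥(stabilizer ↥T2 om) (⟨y, hy⟩ : Om)) =
      orbit ↥(stabilizer ↥Co0 v0 ⊓ stabilizer ↥Co0 w1 ⊓ stabilizer ↥Co0 x1) y := by
  ext z
  constructor
  · rintro ⟨_, ⟨k, rfl⟩, rfl⟩
    obtain ⟨h1, h2, h3⟩ := T2_fix k.1.2
    have h4 : k.1.1 x1 = x1 := mem_stab_om.mp k.2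
    exact ⟨⟨⟨k.1.1, h1⟩, ⟨⟨h2, h3⟩, h4⟩⟩, rfl⟩
  · rintro ⟨h, rfl⟩
    have hv : (h.1.1 : Equiv.Perm leechLattice) v0 = v0 := h.2.1.1
    have hw : (h.1.1 : Equiv.Perm leechLattice) w1 = w1 := h.2.1.2
    have hx : (h.1.1 : Equiv.Perm leechLattice) x1 = x1 := h.2.2
    have hT2 : h.1.1 ∈ T2 := by
      rw [mem_stabL]
      refine ⟨h.1.2, ?_⟩
      intro b hb
      simp only [List.mem_cons, List.not_mem_nil, or_false] at hb
      rcases hb with hb | hb
      · rw [hb]; exact hv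
      · rw [hb]; exact hw
    refine ⟨(⟨⟨h.1.1, hT2⟩, mem_stab_om.mpr hx⟩ : ↥(stabilizer ↥T2 om)) • (⟨y, hy⟩ : Om), ⟨_, rfl⟩, rfl⟩

theorem suborbit_ncard (y : leechLattice) (hy : y ∈ orbit ↥T2 x1) :
    (orbit ↥(stabilizer ↥T2 om) (⟨y, hy⟩ : Om)).ncard =
      (orbit ↥(stabilizer ↥Co0 v0 ⊓ stabilizer ↥Co0 w1 ⊓ stabilizer ↥Co0 x1) y).ncard := by
  rw [← orbit_image y hy, Set.ncard_image_of_injective _ Subtype.val_injective]

/-- the stabiliser of the two vectors is simple -/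
theorem T2_simple : IsSimpleGroup ↥T2 := by
  obtain ⟨y1, hy1, y2, hy2, y3, hy3, e1, e2, e3⟩ :=
    (Cfsg.Agent.S1634.result v0 w1 v0_norm w1_norm dot_v0_w1).2.2 x1 x1_mem
  have m1 : y1 ∈ orbit ↥T2 x1 := by rw [orbit_T2]; exact hy1
  have m2 : y2 ∈ orbit ↥T2 x1 := by rw [orbit_T2]; exact hy2
  have m3 : y3 ∈ orbit ↥T2 x1 := by rw [orbit_T2]; exact hy3
  have f1 : (orbit ↥(stabilizer ↥T2 om) (⟨y1, m1⟩ : Om)).ncard = 330 := by
    rw [suborbit_ncard]; exact e1
  have f2 : (orbit ↥(stabilizer ↥T2 om) (⟨y2, m2⟩ : Om)).ncard = 462 := by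
    rw [suborbit_ncard]; exact e2
  have f3 : (orbit ↥(stabilizer ↥T2 om) (⟨y3, m3⟩ : Om)).ncard = 1232 := by
    rw [suborbit_ncard]; exact e3
  have hprim : SimpleCrit.PrimAt ↥T2 om := by
    apply SimpleCritR4.primAt_rank4 om ⟨y1, m1⟩ ⟨y2, m2⟩ ⟨y3, m3⟩ f1 f2 f3 (by norm_num) (by norm_num)
      (by norm_num) (by norm_num) (by norm_num) (by norm_num) (by rw [card_Om])
    intro a b c ha hb hc hd
    rw [card_Om] at hd
    rcases ha with rfl | rfl <;> rcases hb with rfl | rfl <;> rcases hc with rfl | rfl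
    · left; exact ⟨rfl, rfl, rfl⟩
    · exfalso; revert hd; decide
    · exfalso; revert hd; decide
    · exfalso; revert hd; decide
    · exfalso; revert hd; decide
    · exfalso; revert hd; decide
    · exfalso; revert hd; decide
    · right; exact ⟨rfl, rfl, rfl⟩
  have hmove : ∃ h ∈ stabilizer ↥T2 om, ∃ y : Om, h • y ≠ y := by
    by_contra hcon
    push Not at hcon
    have : orbit ↥(stabilizer ↥T2 om) (⟨y1, m1⟩ : Om) = {⟨y1, m1⟩} := by
      ext z
      constructor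
      · rintro ⟨k, rfl⟩
        exact hcon k.1 k.2 _
      · rintro rfl
        exact mem_orbit_self _
    rw [this, Set.ncard_singleton] at f1
    norm_num at f1
  exact SimpleCritPQ.isSimpleGroup_of_prim_pq om hprim hmove 3 5 4 2 (by norm_num) (by norm_num)
    (by norm_num) (by norm_num) (by norm_num) (by rw [card_Om]; norm_num)

theorem map_subtype_eq :
    (stabilizer ↥Co0 v0 ⊓ stabilizer ↥Co0 w1).map Co0.subtype = T2 := by
  ext g
  rw [Subgroup.mem_map, mem_stabL]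
  constructor
  · rintro ⟨k, hk, rfl⟩
    refine ⟨k.2, ?_⟩
    intro b hb
    simp only [List.mem_cons, List.not_mem_nil, or_false] at hb
    rcases hb with hb | hb
    · rw [hb]; exact hk.1
    · rw [hb]; exact hk.2
  · rintro ⟨h1, h2⟩
    exact ⟨⟨g, h1⟩, ⟨h2 v0 (by simp), h2 w1 (by simp)⟩, rfl⟩

/-- the stabiliser of the special pair, as a subgroup of the automorphism group, is simple -/
theorem special_simple : IsSimpleGroup ↥(stabilizer ↥Co0 v0 ⊓ stabilizer ↥Co0 w1) := by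
  haveI := T2_simple
  exact (((stabilizer ↥Co0 v0 ⊓ stabilizer ↥Co0 w1).equivMapOfInjective Co0.subtype
    Co0.subtype_injective).trans (MulEquiv.subgroupCongr map_subtype_eq)).isSimpleGroup

/-- transport along an automorphism -/
theorem simple_of_move (v w : leechLattice) (c : ↥Co0) (ev : c • v = v0) (ew : c • w = w1) :
    IsSimpleGroup ↥(stabilizer ↥Co0 v ⊓ stabilizer ↥Co0 w) := by
  have h : (stabilizer ↥Co0 v ⊓ stabilizer ↥Co0 w).map (MulAut.conj c).toMonoidHom =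
      stabilizer ↥Co0 v0 ⊓ stabilizer ↥Co0 w1 := by
    rw [Subgroup.map_inf _ _ _ (MulAut.conj c).injective, ← stabilizer_smul_eq_stabilizer_map_conj,
      ← stabilizer_smul_eq_stabilizer_map_conj, ev, ew]
  haveI := special_simple
  exact (((stabilizer ↥Co0 v ⊓ stabilizer ↥Co0 w).equivMapOfInjective (MulAut.conj c).toMonoidHom
    (MulAut.conj c).injective).trans (MulEquiv.subgroupCongr h)).isSimpleGroup

end Cfsg.Agent.Helper26.McLSimple
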