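import Mathlib
import Cfsg.Agent.Lib.Helper32.N5Defs

/-! N5 server (helper32, S1904), piece (Sf) card_invol_eq_three (written by helper26). -/

set_option autoImplicit false

namespace Cfsg.Agent.Helper26.N5

open Cfsg Cfsg.Agent.Helper32.N5
open scoped commutatorElement

universe u

variable {X : Type u} [Group X] [Finite X]

/-! ## (Sf) counting the involutions
PROOF. {x // orderOf x = 2} ≃ {z in Z | z != 1} (orderOf x = 2 iff x^2 = 1 and x != 1), which has 4 - 1 elements. -/
theorem card_invol_eq_three (Z : Subgroup X) (hZe : ∀ z ∈ Z, z ^ 2 = 1) (hZ4 : Nat.card Z = 4)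
    (hinv : ∀ x : X, x ^ 2 = 1 → x ∈ Z) : Nat.card {x : X // orderOf x = 2} = 3 := by
  classical
  have hiff : ∀ x : X, orderOf x = 2 ↔ x ^ 2 = 1 ∧ x ≠ 1 := by
    intro x
    constructor
    · intro h
      refine ⟨by rw [← h]; exact pow_orderOf_eq_one x, ?_⟩
      rintro rfl
      rw [orderOf_one] at h
      exact absurd h (by norm_num)
    · rintro ⟨h2, h1⟩
      exact orderOf_eq_prime h2 h1
  -- the equivalence with the nonidentity elements of `Z`
  let f : {x : X // orderOf x = 2} → {z : Z // z ≠ 1} := fun x =>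
    ⟨⟨x.1, hinv x.1 ((hiff x.1).1 x.2).1⟩, fun h => ((hiff x.1).1 x.2).2 (congrArg Subtype.val h)⟩
  have hf : Function.Bijective f := by
    constructor
    · intro a b hab
      apply Subtype.ext
      exact congrArg (fun t : {z : Z // z ≠ 1} => ((t.1 : Z) : X)) hab
    · rintro ⟨⟨z, hz⟩, hz1⟩
      have hz1' : z ≠ 1 := fun h => hz1 (Subtype.ext h)
      exact ⟨⟨z, (hiff z).2 ⟨hZe z hz, hz1'⟩⟩, rfl⟩
  rw [Nat.card_congr (Equiv.ofBijective f hf)]
  have h1 : Nat.card {z : Z // z ≠ 1} = Nat.card Z - 1 := by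
    haveI : Fintype Z := Fintype.ofFinite Z
    rw [Nat.card_eq_fintype_card, Nat.card_eq_fintype_card]
    rw [Fintype.card_subtype_compl, Fintype.card_subtype_eq]
  rw [h1, hZ4]

end Cfsg.Agent.Helper26.N5
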