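import Mathlib
import Cfsg.Agent.Lib.Helper32.N5Defs
import Cfsg.Agent.Lib.Helper17.Order8Dihedral
import Cfsg.Agent.Lib.Helper95.Sharp2Deg9

/-! N5 server (helper32, S1904), piece (E1c) q8_of_card_eight (written by helper26). -/

set_option autoImplicit false
set_option linter.style.haveILetI false

namespace Cfsg.Agent.Helper26.N5

open Cfsg Cfsg.Agent.Helper32.N5
open scoped commutatorElement

/-- the "rotation character" of `D8` -/
def helper26_chi : DihedralGroup 4 →* ℤˣ where
  toFun d := match d with
    | DihedralGroup.r _ => 1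
    | DihedralGroup.sr _ => -1
  map_one' := rfl
  map_mul' := by
    rintro (a | a) (b | b) <;> rfl

theorem helper26_chi_of_sq_ne : ∀ d : DihedralGroup 4, d ^ 2 ≠ 1 → helper26_chi d = 1 := by
  decide

theorem helper26_chi_pow : ∀ d : DihedralGroup 4, helper26_chi d = 1 →
    ∃ k : Fin 4, d = (DihedralGroup.r 1) ^ k.val := by
  decide

theorem helper26_r1_sq : (DihedralGroup.r 1 : DihedralGroup 4) ^ 2 ≠ 1 := by decide

theorem helper26_chi_sr : helper26_chi (DihedralGroup.sr 0 : DihedralGroup 4) ≠ 1 := by decide

/-- every automorphism of `D8` preserves the rotation character -/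
theorem helper26_chi_aut (ψ : MulAut (DihedralGroup 4)) (d : DihedralGroup 4) :
    helper26_chi (ψ d) = helper26_chi d := by
  have key : ∀ (θ : MulAut (DihedralGroup 4)) (d : DihedralGroup 4),
      helper26_chi d = 1 → helper26_chi (θ d) = 1 := by
    intro θ d hd
    obtain ⟨k, rfl⟩ := helper26_chi_pow d hd
    have h1 : helper26_chi (θ (DihedralGroup.r 1)) = 1 := by
      apply helper26_chi_of_sq_ne
      intro h
      rw [← map_pow] at h
      have h' : θ (DihedralGroup.r 1 ^ 2) = θ 1 := by rw [h, map_one]
      exact helper26_r1_sq (θ.injective h')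
    rw [map_pow, map_pow, h1, one_pow]
  rcases Int.units_eq_one_or (helper26_chi d) with h | h
  · rw [h]; exact key ψ d h
  · rw [h]
    rcases Int.units_eq_one_or (helper26_chi (ψ d)) with h2 | h2
    · exfalso
      have h3 := key ψ⁻¹ (ψ d) h2
      have h4 : ψ⁻¹ (ψ d) = d := by simp
      rw [h4, h] at h3
      exact absurd h3 (by decide)
    · exact h2

universe u

variable {X : Type u} [Group X] [Finite X]

/-! ## (E1c) order 8, nonabelian, [X,A] = X with A odd ==> Q8
PROOF. A nonabelian group of order 8 is D8 or Q8 (on main: e.g. Lib/Helper83/OrderP3, Lib/Helper39/T64F).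
D8 has a characteristic cyclic subgroup C of index 2 (the unique one); every automorphism acts trivially on X/C, so all
x⁻¹ φ(x) lie in C and the closure is not ⊤.  (Or: the three maximal subgroups are permuted by A (odd order) fixed-point
freely unless fixed; Z4 is fixed.)  Note hA is not even needed. -/
theorem q8_of_card_eight (h8 : Nat.card X = 8) (hna : ¬ ∀ a b : X, a * b = b * a)
    (A : Subgroup (MulAut X)) (hXA : ComGen A) : Nonempty (X ≃* QuaternionGroup 2) := by
  rcases Cfsg.Agent.Helper17.order8_dihedral_or_unique_involution h8 hna with ⟨⟨e⟩⟩ | ⟨z, hz, huniq⟩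
  · exfalso
    -- the character `χ ∘ e` kills all `x⁻¹ φ x`
    let f : X →* ℤˣ := helper26_chi.comp e.toMonoidHom
    have hle : Subgroup.closure {g : X | ∃ φ ∈ A, ∃ x : X, g = x⁻¹ * φ x} ≤ f.ker := by
      rw [Subgroup.closure_le]
      rintro g ⟨φ, -, x, rfl⟩
      change f (x⁻¹ * φ x) = 1
      rw [map_mul, map_inv]
      have h1 : f (φ x) = f x := by
        change helper26_chi (e (φ x)) = helper26_chi (e x)
        have := helper26_chi_aut ((e.symm.trans φ).trans e) (e x)
        simpa using this
      rw [h1, inv_mul_cancel]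
    have htop : f.ker = ⊤ := by
      rw [eq_top_iff, ← hXA]
      exact hle
    have h2 : e.symm (DihedralGroup.sr 0) ∈ f.ker := by rw [htop]; exact Subgroup.mem_top _
    have h3 : f (e.symm (DihedralGroup.sr 0)) = 1 := h2
    have h4 : helper26_chi (DihedralGroup.sr 0 : DihedralGroup 4) = 1 := by
      have : f (e.symm (DihedralGroup.sr 0)) = helper26_chi (e (e.symm (DihedralGroup.sr 0))) := rfl
      rw [this, MulEquiv.apply_symm_apply] at h3
      exact h3
    exact helper26_chi_sr h4
  · refine Cfsg.Agent.Helper95.Sharp2.quaternion_of_card_eight h8 ?_ ?_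
    · intro hcyc
      exact hna (fun a b => IsCyclic.commGroup.mul_comm a b)
    · intro u v hu hv
      rw [huniq u hu, huniq v hv]

end Cfsg.Agent.Helper26.N5
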