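import Mathlib
import Cfsg.Agent.Lib.Helper18.O3K1
import Cfsg.Agent.S1067

/-!
# S2363 server piece (TD4): the triality groups `³D₄(q)` (helper26, for helper18's O3K server)
-/

set_option autoImplicit false

namespace Cfsg.Agent.Helper26.O3K

open Cfsg Cfsg.Agent.Helper18.O3K

/-- a prime power `q` whose cube is a power of `p` is a positive power of `p` -/
theorem h26_q_eq_pow {p : ℕ} (hp : p.Prime) {q g : ℕ} (hq : IsPrimePow q) (h : q ^ 3 = p ^ g) :
    ∃ f : ℕ, 1 ≤ f ∧ q = p ^ f := by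
  obtain ⟨r, k, hr, hk, rfl⟩ := (isPrimePow_nat_iff q).1 hq
  have h1 : r ∣ p ^ g := by
    rw [← h]
    exact dvd_pow (dvd_pow_self r hk.ne') (by norm_num)
  have h2 : r = p := (Nat.prime_dvd_prime_iff_eq hr hp).1 (hr.dvd_of_dvd_pow h1)
  exact ⟨k, hk, by rw [h2]⟩

/-- the arithmetic core of (TD4), for any finite group of the order of `³D₄(q)` -/
theorem h26_td4_core {p : ℕ} (hp : p.Prime) {G : Type*} [Group G] [Finite G] (q f : ℕ) (hq : q = p ^ f)
    (hf : 1 ≤ f) (hc : Nat.card G = q ^ 12 * (q ^ 2 - 1) * (q ^ 6 - 1) * (q ^ 8 + q ^ 4 + 1)) :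
    Concl p G := by
  have hq2 : 2 ≤ q := by
    rw [hq]
    calc 2 ≤ p := hp.two_le
      _ = p ^ 1 := (pow_one p).symm
      _ ≤ p ^ f := Nat.pow_le_pow_right hp.pos hf
  have hq1 : 1 ≤ q := by omega
  refine concl_of_q hp q f 12 17 ((q ^ 2 - 1) * (q ^ 6 - 1) * (q ^ 8 + q ^ 4 + 1)) 1 hq ?_
    (by rw [Nat.dvd_one]; exact hp.one_lt.ne') ?_ ?_ (by norm_num)
  · rw [one_mul, hc]
    ring
  · intro h
    rcases (Nat.Prime.dvd_mul hp).mp h with h | h
    · rcases (Nat.Prime.dvd_mul hp).mp h with h | h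
      · exact not_dvd_pow_sub_one hp hq hf (e := 2) (by norm_num) h
      · exact not_dvd_pow_sub_one hp hq hf (e := 6) (by norm_num) h
    · have h1 : p ∣ q ^ 8 + q ^ 4 := by
        have h0 : p ∣ q := by
          rw [hq]
          exact dvd_pow_self p (by omega)
        exact dvd_add (dvd_pow h0 (by norm_num)) (dvd_pow h0 (by norm_num))
      have h3 : p ∣ 1 := (Nat.dvd_add_right h1).mp h
      exact hp.one_lt.ne' (Nat.dvd_one.mp h3)
  · have h1 : q ^ 2 - 1 < q ^ 2 := pow_sub_one_lt hq1 2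
    have h2 : (q ^ 2 - 1) * (q ^ 6 - 1) < q ^ (2 + 6) := mul_lt_pow hq1 h1 (pow_sub_one_le q 6)
    have h3 : q ^ 8 + q ^ 4 + 1 ≤ q ^ 9 := by
      have e1 : q ^ 4 + 1 ≤ q ^ 5 := pow_add_one_le hq2 4
      have e2 : q ^ 5 ≤ q ^ 8 := Nat.pow_le_pow_right hq1 (by norm_num)
      have e3 : 2 * q ^ 8 ≤ q * q ^ 8 := Nat.mul_le_mul_right _ hq2
      have e4 : q * q ^ 8 = q ^ 9 := by ring
      omega
    exact mul_lt_pow hq1 h2 h3

/-- (TD4) of the O3K server: the conclusion of S2363 for `³D₄(q)` -/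
theorem concl_td4 {p : ℕ} (hp : p.Prime) (K : Type) [Field K] [Fintype K] [CharP K p] (q : ℕ) (hq : IsPrimePow q)
    (hK : Fintype.card K = q ^ 3) : Concl p ↥(Lie.twistedD4 K q) := by
  obtain ⟨g, -, hg⟩ := card_eq_pow hp K
  obtain ⟨f, hf, hqf⟩ := h26_q_eq_pow hp hq (hK.symm.trans hg)
  have hc := Cfsg.Agent.S1067.result hq hK
  have : Finite ↥(Lie.twistedD4 K q) := Nat.finite_of_card_ne_zero (by
    rw [hc]
    have hq1 : 1 < q := hq.one_lt
    have h2 : 1 < q ^ 2 := Nat.one_lt_pow (by norm_num) hq1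
    have h6 : 1 < q ^ 6 := Nat.one_lt_pow (by norm_num) hq1
    have : 0 < q ^ 12 * (q ^ 2 - 1) * (q ^ 6 - 1) * (q ^ 8 + q ^ 4 + 1) := by
      apply Nat.mul_pos (Nat.mul_pos (Nat.mul_pos (by positivity) (by omega)) (by omega)) (by positivity)
    omega)
  exact h26_td4_core hp q f hqf hf hc

end Cfsg.Agent.Helper26.O3K
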