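import Mathlib
import Cfsg.Agent.S1017
import Cfsg.Agent.Lib.Helper7.O5760Defs

/-!
# O5760 (B6) hyp_of_ninetysix (helper26, for helper7's server, S0980)
-/

set_option autoImplicit false

namespace Cfsg.Agent.Helper26.O5760

open Cfsg MulAction Cfsg.Agent.Helper7.O5760

universe u v

/-- Conjugation of a stabilizer intersection. -/
theorem h26_card_stab_inf_conj {G : Type u} [Group G] {X : Type v} [MulAction G X]
    (g : G) (a b : X) :
    Nat.card ↥(stabilizer G (g • a) ⊓ stabilizer G (g • b)) =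
      Nat.card ↥(stabilizer G a ⊓ stabilizer G b) := by
  refine Nat.card_congr ?_
  refine
    { toFun := fun h => ⟨g⁻¹ * h.1 * g, ?_⟩
      invFun := fun h => ⟨g * h.1 * g⁻¹, ?_⟩
      left_inv := fun h => by ext; simp [mul_assoc]
      right_inv := fun h => by ext; simp [mul_assoc] }
  · have h1 := (Subgroup.mem_inf.1 h.2).1
    have h2 := (Subgroup.mem_inf.1 h.2).2
    rw [mem_stabilizer_iff] at h1 h2
    refine Subgroup.mem_inf.2 ⟨?_, ?_⟩
    · rw [mem_stabilizer_iff, mul_smul, mul_smul, h1, inv_smul_smul]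
    · rw [mem_stabilizer_iff, mul_smul, mul_smul, h2, inv_smul_smul]
  · have h1 := (Subgroup.mem_inf.1 h.2).1
    have h2 := (Subgroup.mem_inf.1 h.2).2
    rw [mem_stabilizer_iff] at h1 h2
    refine Subgroup.mem_inf.2 ⟨?_, ?_⟩
    · rw [mem_stabilizer_iff, mul_smul, mul_smul, inv_smul_smul, h1]
    · rw [mem_stabilizer_iff, mul_smul, mul_smul, inv_smul_smul, h2]

theorem hyp_of_ninetysix {G : Type u} [Group G] [Finite G] [IsSimpleGroup G] (hG : Nat.card G = 5760)
    (x : G) (hx : orderOf x = 3)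
    (hM : Nat.card (Subgroup.normalizer ((Subgroup.zpowers x : Subgroup G) : Set G)) = 360)
    (hfixx : ∀ a : G ⧸ Subgroup.normalizer ((Subgroup.zpowers x : Subgroup G) : Set G), x • a = a →
      a = ((1 : G) : G ⧸ Subgroup.normalizer ((Subgroup.zpowers x : Subgroup G) : Set G)))
    (htr : ∀ a b : G ⧸ Subgroup.normalizer ((Subgroup.zpowers x : Subgroup G) : Set G),
      a ≠ ((1 : G) : G ⧸ Subgroup.normalizer ((Subgroup.zpowers x : Subgroup G) : Set G)) →
      b ≠ ((1 : G) : G ⧸ Subgroup.normalizer ((Subgroup.zpowers x : Subgroup G) : Set G)) →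
      ∃ m ∈ Subgroup.normalizer ((Subgroup.zpowers x : Subgroup G) : Set G), m • a = b)
    (hgen : ∀ (F : Type u) [MulAction G F] [Finite F], 2 ≤ Nat.card F →
      (∀ a b c d : F, a ≠ b → c ≠ d → ∃ g : G, g • a = c ∧ g • b = d) → ∀ m : ℕ,
      (∀ a b : F, a ≠ b → Nat.card ↥(stabilizer G a ⊓ stabilizer G b) = m) →
      Nat.card G = Nat.card F * (Nat.card F - 1) * m) :
    ∃ z : (G ⧸ Subgroup.normalizer ((Subgroup.zpowers x : Subgroup G) : Set G)) → G,
      Hyp G (G ⧸ Subgroup.normalizer ((Subgroup.zpowers x : Subgroup G) : Set G)) z := by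
  classical
  set M : Subgroup G := Subgroup.normalizer ((Subgroup.zpowers x : Subgroup G) : Set G) with hMdef
  -- basic facts
  have hxM : x ∈ M := Subgroup.le_normalizer (Subgroup.mem_zpowers x)
  have hcardX : Nat.card (G ⧸ M) = 16 := by
    have h1 := M.card_mul_index
    rw [hM, hG, Subgroup.index_eq_card] at h1
    omega
  have hMtop : M ≠ ⊤ := by
    intro h
    have : Nat.card M = Nat.card G := by rw [h]; exact Subgroup.card_top
    rw [hM, hG] at this
    omega
  have hbase : ∀ m ∈ M, m • ((1 : G) : G ⧸ M) = ((1 : G) : G ⧸ M) := fun m hm =>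
    Cfsg.Agent.S1017.coset_fixed M m hm
  have hout : ∀ a : G ⧸ M, (Quotient.out a : G) • ((1 : G) : G ⧸ M) = a := by
    intro a
    rw [MulAction.Quotient.smul_mk, smul_eq_mul, mul_one]
    exact QuotientGroup.out_eq' a
  have hout' : ∀ a : G ⧸ M, (Quotient.out a : G)⁻¹ • a = ((1 : G) : G ⧸ M) := by
    intro a
    rw [inv_smul_eq_iff, hout]
  -- two-transitivity
  have h2t : ∀ a b c d : G ⧸ M, a ≠ b → c ≠ d → ∃ g : G, g • a = c ∧ g • b = d := by
    intro a b c d hab hcd
    set g1 : G := (Quotient.out a : G)⁻¹ with hg1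
    set g2 : G := (Quotient.out c : G)⁻¹ with hg2
    have h1 : g1 • a = ((1 : G) : G ⧸ M) := hout' a
    have h2 : g2 • c = ((1 : G) : G ⧸ M) := hout' c
    have hb : g1 • b ≠ ((1 : G) : G ⧸ M) := by
      intro h
      apply hab
      rw [← h1] at h
      exact (MulAction.injective g1 h).symm
    have hd : g2 • d ≠ ((1 : G) : G ⧸ M) := by
      intro h
      apply hcd
      rw [← h2] at h
      exact (MulAction.injective g2 h).symm
    obtain ⟨m, hmM, hm⟩ := htr (g1 • b) (g2 • d) hb hd
    refine ⟨g2⁻¹ * m * g1, ?_, ?_⟩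
    · rw [mul_smul, mul_smul, h1, hbase m hmM, inv_smul_eq_iff, h2]
    · rw [mul_smul, mul_smul, hm, inv_smul_smul]
  -- the order of two-point stabilizers
  have h2card : 2 ≤ Nat.card (G ⧸ M) := by rw [hcardX]; norm_num
  obtain ⟨a0, b0, hab0⟩ : ∃ a0 b0 : G ⧸ M, a0 ≠ b0 := by
    have : Nontrivial (G ⧸ M) := by
      have : 1 < Nat.card (G ⧸ M) := by omega
      exact (Finite.one_lt_card_iff_nontrivial).1 this
    exact exists_pair_ne _
  have hconst : ∀ a b : G ⧸ M, a ≠ b →
      Nat.card ↥(stabilizer G a ⊓ stabilizer G b) =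
        Nat.card ↥(stabilizer G a0 ⊓ stabilizer G b0) := by
    intro a b hab
    obtain ⟨g, hga, hgb⟩ := h2t a0 b0 a b hab0 hab
    rw [← hga, ← hgb]
    exact h26_card_stab_inf_conj g a0 b0
  have h24 : Nat.card ↥(stabilizer G a0 ⊓ stabilizer G b0) = 24 := by
    have := hgen (G ⧸ M) h2card h2t _ hconst
    rw [hG, hcardX] at this
    omega
  -- the elements z
  refine ⟨fun a => (Quotient.out a : G) * x * (Quotient.out a : G)⁻¹, ?_⟩
  refine
    { cardX := hcardX
      cardG := hG
      faithful := ?_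
      twoTrans := h2t
      card24 := ?_
      zOrder := ?_
      zFix := ?_
      zNorm := ?_ }
  · intro g hg
    exact Cfsg.Agent.S1017.eq_one_of_forall_smul_eq
      (Cfsg.Agent.S1017.coset_action_nontrivial M hMtop) g hg
  · intro a b hab
    rw [hconst a b hab, h24]
  · intro a
    have := (MulAut.conj (Quotient.out a : G)).orderOf_eq x
    rw [MulAut.conj_apply] at this
    rw [this, hx]
  · intro a b
    change ((Quotient.out a : G) * x * (Quotient.out a : G)⁻¹) • b = b ↔ b = a
    constructor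
    · intro h
      have h1 : x • ((Quotient.out a : G)⁻¹ • b) = (Quotient.out a : G)⁻¹ • b := by
        calc x • ((Quotient.out a : G)⁻¹ • b)
            = (Quotient.out a : G)⁻¹ •
                (((Quotient.out a : G) * x * (Quotient.out a : G)⁻¹) • b) := by
              simp only [mul_smul, inv_smul_smul]
          _ = (Quotient.out a : G)⁻¹ • b := by rw [h]
      have h2 := hfixx _ h1
      rw [inv_smul_eq_iff, hout] at h2
      exact h2
    · rintro rfl
      rw [mul_smul, mul_smul, hout', hbase x hxM, hout]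
  · intro a g hg
    change g * ((Quotient.out a : G) * x * (Quotient.out a : G)⁻¹) * g⁻¹ ∈
      Subgroup.zpowers ((Quotient.out a : G) * x * (Quotient.out a : G)⁻¹)
    set o : G := (Quotient.out a : G) with ho
    have hmem : o⁻¹ * g * o ∈ M := by
      have h1 : (o⁻¹ * g * o) • ((1 : G) : G ⧸ M) = ((1 : G) : G ⧸ M) := by
        rw [mul_smul, mul_smul, hout, hg, hout']
      rw [MulAction.Quotient.smul_mk, smul_eq_mul, mul_one] at h1
      have := QuotientGroup.eq.1 h1
      rw [mul_one] at this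
      exact inv_mem_iff.1 this
    have hnorm := (Subgroup.mem_normalizer_iff.1 hmem x).1 (Subgroup.mem_zpowers x)
    obtain ⟨k, hk⟩ := Subgroup.mem_zpowers_iff.1 hnorm
    refine Subgroup.mem_zpowers_iff.2 ⟨k, ?_⟩
    have hconj : (o * x * o⁻¹) ^ k = o * x ^ k * o⁻¹ := by
      rw [conj_zpow]
    rw [hconj, hk]
    group

end Cfsg.Agent.Helper26.O5760
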