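import Mathlib
import Cfsg.Agent.Lib.Helper17.PrimeTIApp
import Cfsg.Agent.Lib.Helper17.PrimeTID

/-!
# O5760X (A2) a_chars (helper26, for helper50's server, S0980)
-/

set_option autoImplicit false

namespace Cfsg.Agent.Helper26.O5760X

open Cfsg MulAction Cfsg.Agent.Helper17.PrimeTI
open scoped ComplexConjugate

universe u

theorem a_chars {G : Type u} [Group G] [Fintype G] (hperf : commutator G = ⊤) (P : Subgroup G)
    (hP : Nat.card P = 5) (hC : Subgroup.centralizer (P : Set G) = P)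
    (hN : Nat.card (Subgroup.normalizer (P : Set G)) = 10) :
    ∃ (X : IrrCharacter G) (E : Finset (IrrCharacter G)) (ε w : ℤ) (x d : ℕ),
      X ∉ E ∧ (X : G → ℂ) ≠ (fun _ => 1) ∧ E.card = 2 ∧
      (∀ ψ ∈ E, charDegree (ψ : G → ℂ) = d) ∧ (∀ ψ ∈ E, (ψ : G → ℂ) ≠ fun _ => 1) ∧
      charDegree (X : G → ℂ) = x ∧ 1 < x ∧ 0 < d ∧
      ((ε = -1 ∧ w = 1 ∧ x = d + 1) ∨ (ε = 1 ∧ w = -1 ∧ d = x + 1)) ∧
      (∀ k ∈ P, k ≠ 1 → (X : G → ℂ) k = (ε : ℂ)) ∧
      (∀ ψ : IrrCharacter G, ψ ∉ E → ψ ≠ X → (ψ : G → ℂ) ≠ (fun _ => 1) →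
        ∀ k ∈ P, k ≠ 1 → (ψ : G → ℂ) k = 0) ∧
      (∀ k ∈ P, k ≠ 1 → ∑ ψ ∈ E, (ψ : G → ℂ) k = (w : ℂ)) ∧
      (∀ ψ ∈ E, ∀ ψ' ∈ E, ∀ g : G, (∀ a : G, a * g * a⁻¹ ∉ P) → (ψ : G → ℂ) g = (ψ' : G → ℂ) g) := by
  classical
  have hp5 : Fact (Nat.Prime 5) := ⟨by norm_num⟩
  obtain ⟨w, d, E, a, hEcard, hEdeg, hEne, haE, haK, hcong, hnorm, hdegeq, hEsum, hEeq⟩ :=
    prime_degree_equation_ext P 5 2 2 hP hC (by rw [hN]) le_rfl (by norm_num) le_rfl
  set ψ1 : IrrCharacter G := ⟨fun _ => 1, Cfsg.Agent.Helper81.isIrrCharacter_one⟩ with hψ1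
  have hψ1E : ψ1 ∉ E := fun h => hEne ψ1 h rfl
  obtain ⟨k, hk, hk1⟩ := exists_ne_one_of_prime_card P hP
  have ha1 : a ψ1 = 1 := by
    have h := haK ψ1 hψ1E k hk hk1
    have h' : ((1 : ℤ) : ℂ) = ((a ψ1 : ℤ) : ℂ) := by
      rw [← h]; simp [hψ1]
    exact_mod_cast h'.symm
  have hdeg1 : charDegree (ψ1 : G → ℂ) = 1 := charDegree_one
  have hdpos : 0 < d := by
    obtain ⟨ψ, hψ⟩ := Finset.card_pos.1 (by omega : 0 < E.card)
    rw [← hEdeg ψ hψ]
    exact (Cfsg.Agent.Helper79.irr_one_eq ψ).2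
  have hsplit1 := Finset.add_sum_erase Finset.univ (fun ψ => (a ψ) ^ 2) (Finset.mem_univ ψ1)
  have hsplit2 := Finset.add_sum_erase Finset.univ
    (fun ψ => a ψ * (charDegree (ψ : G → ℂ) : ℤ)) (Finset.mem_univ ψ1)
  simp only [ha1, hdeg1] at hsplit1 hsplit2
  have hrest : 0 ≤ ∑ ψ ∈ Finset.univ.erase ψ1, (a ψ) ^ 2 :=
    Finset.sum_nonneg (fun i _ => sq_nonneg _)
  rw [← hsplit1] at hnorm
  rw [← hsplit2] at hdegeq
  push_cast at hnorm
  have hle1 : ∑ ψ ∈ Finset.univ.erase ψ1, (a ψ) ^ 2 ≤ 1 := by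
    by_contra hgt
    push Not at hgt
    have h2 : (2 : ℤ) ≤ ∑ ψ ∈ Finset.univ.erase ψ1, (a ψ) ^ 2 := hgt
    nlinarith [sq_nonneg w]
  have hcases : ∑ ψ ∈ Finset.univ.erase ψ1, (a ψ) ^ 2 = 0 ∨
      ∑ ψ ∈ Finset.univ.erase ψ1, (a ψ) ^ 2 = 1 := by omega
  rcases hcases with h0 | h1
  · -- only the trivial character: `w ^ 2 = 3`, impossible
    exfalso
    rw [h0] at hnorm
    have hw3 : w ^ 2 = 3 := by linarith
    have hwle : w ≤ 2 := by nlinarith
    have hwge : -2 ≤ w := by nlinarith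
    have : w = -2 ∨ w = -1 ∨ w = 0 ∨ w = 1 ∨ w = 2 := by omega
    rcases this with h | h | h | h | h <;> rw [h] at hw3 <;> norm_num at hw3
  · -- one more character
    obtain ⟨X, hX, haX, hrest0⟩ := peel (Finset.univ.erase ψ1) a 0 (by norm_num)
      (by rw [h1]; norm_num)
    have hXne : X ≠ ψ1 := (Finset.mem_erase.1 hX).1
    have hz := all_zero _ a (by exact_mod_cast hrest0)
    have hsplit3 := Finset.add_sum_erase (Finset.univ.erase ψ1)
      (fun ψ => a ψ * (charDegree (ψ : G → ℂ) : ℤ)) hX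
    have hs0 : ∑ ψ ∈ (Finset.univ.erase ψ1).erase X, a ψ * (charDegree (ψ : G → ℂ) : ℤ) = 0 :=
      Finset.sum_eq_zero (fun ψ hψ => by rw [hz ψ hψ, zero_mul])
    rw [hs0, add_zero] at hsplit3
    rw [← hsplit3] at hdegeq
    push_cast at hdegeq
    rw [h1] at hnorm
    have hw1 : w ^ 2 = 1 := by nlinarith
    have hw : w = 1 ∨ w = -1 := by
      have h : (w - 1) * (w + 1) = 0 := by ring_nf; linarith
      rcases mul_eq_zero.1 h with h | h
      · left; linarith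
      · right; linarith
    have hXE : X ∉ E := by
      intro h
      have := haE X h
      rcases haX with h' | h' <;> rw [h'] at this <;> norm_num at this
    have hxpos : 0 < charDegree (X : G → ℂ) := (Cfsg.Agent.Helper79.irr_one_eq X).2
    have hx1 : charDegree (X : G → ℂ) ≠ 1 := by
      intro h
      apply hXne
      apply Subtype.ext
      exact linear_trivial_of_perfect hperf X h
    have hXfun : (X : G → ℂ) ≠ (fun _ => 1) := by
      intro h
      apply hXne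
      apply Subtype.ext
      exact h
    have hd0 : (0 : ℤ) < d := by exact_mod_cast hdpos
    refine ⟨X, E, a X, w, charDegree (X : G → ℂ), d, hXE, hXfun, hEcard, hEdeg, hEne, rfl,
      by omega, hdpos, ?_, ?_, ?_, hEsum, hEeq⟩
    · set x := charDegree (X : G → ℂ) with hx
      have hx2 : (2 : ℤ) ≤ x := by omega
      rcases haX with haX | haX
      · -- a X = 1
        right
        rw [haX] at hdegeq
        rcases hw with hw | hw
        · rw [hw] at hdegeq; nlinarith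
        · rw [hw] at hdegeq
          refine ⟨haX, hw, ?_⟩
          omega
      · -- a X = -1
        left
        rw [haX] at hdegeq
        rcases hw with hw | hw
        · rw [hw] at hdegeq
          refine ⟨haX, hw, ?_⟩
          omega
        · rw [hw] at hdegeq; nlinarith
    · intro k hk hk1
      exact haK X hXE k hk hk1
    · intro ψ hψE hψX hψ1' k hk hk1
      have hψne : ψ ≠ ψ1 := by
        intro h
        apply hψ1'
        rw [h]
      have hmem : ψ ∈ (Finset.univ.erase ψ1).erase X :=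
        Finset.mem_erase.2 ⟨hψX, Finset.mem_erase.2 ⟨hψne, Finset.mem_univ ψ⟩⟩
      rw [haK ψ hψE k hk hk1, hz ψ hmem]
      simp

end Cfsg.Agent.Helper26.O5760X
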