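import Mathlib
import Cfsg.Agent.Lib.Helper93.OR0

/-!
# OR3 (Q3a) q3_table (helper26, helper93's server, S2459)

Every matrix over `ZMod 3` of determinant 1 with first column `(1,1,0)` is a product of two
`SL₃`-conjugates of `X3`; table of 216 rows `[a,b,c,d,e,f] ++ U ++ U⁻¹ ++ V ++ V⁻¹` found by machine and
checked by the kernel with explicit 3 x 3 formulas on lists of naturals.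
-/

set_option autoImplicit false

namespace Cfsg.Agent.Helper26.OR

open Matrix Cfsg.Agent.Helper93.OR

local notation "SL3" => Matrix.SpecialLinearGroup (Fin 3)

/-- The matrix over `ZMod 3` with the given nine entries (row by row). -/
def h26_toMat (l : List ℕ) : Matrix (Fin 3) (Fin 3) (ZMod 3) :=
  !![(l.getD 0 0 : ZMod 3), (l.getD 1 0 : ZMod 3), (l.getD 2 0 : ZMod 3);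
     (l.getD 3 0 : ZMod 3), (l.getD 4 0 : ZMod 3), (l.getD 5 0 : ZMod 3);
     (l.getD 6 0 : ZMod 3), (l.getD 7 0 : ZMod 3), (l.getD 8 0 : ZMod 3)]

/-- Product of two 3 x 3 matrices given as lists, modulo 3. -/
def h26_mul9 (A B : List ℕ) : List ℕ :=
  [(A.getD 0 0 * B.getD 0 0 + A.getD 1 0 * B.getD 3 0 + A.getD 2 0 * B.getD 6 0) % 3,
    (A.getD 0 0 * B.getD 1 0 + A.getD 1 0 * B.getD 4 0 + A.getD 2 0 * B.getD 7 0) % 3,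
    (A.getD 0 0 * B.getD 2 0 + A.getD 1 0 * B.getD 5 0 + A.getD 2 0 * B.getD 8 0) % 3,
    (A.getD 3 0 * B.getD 0 0 + A.getD 4 0 * B.getD 3 0 + A.getD 5 0 * B.getD 6 0) % 3,
    (A.getD 3 0 * B.getD 1 0 + A.getD 4 0 * B.getD 4 0 + A.getD 5 0 * B.getD 7 0) % 3,
    (A.getD 3 0 * B.getD 2 0 + A.getD 4 0 * B.getD 5 0 + A.getD 5 0 * B.getD 8 0) % 3,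
    (A.getD 6 0 * B.getD 0 0 + A.getD 7 0 * B.getD 3 0 + A.getD 8 0 * B.getD 6 0) % 3,
    (A.getD 6 0 * B.getD 1 0 + A.getD 7 0 * B.getD 4 0 + A.getD 8 0 * B.getD 7 0) % 3,
    (A.getD 6 0 * B.getD 2 0 + A.getD 7 0 * B.getD 5 0 + A.getD 8 0 * B.getD 8 0) % 3]

/-- Determinant modulo 3 (`-1 = 2`). -/
def h26_det9 (A : List ℕ) : ℕ :=
  (A.getD 0 0 * (A.getD 4 0 * A.getD 8 0 + 2 * (A.getD 5 0 * A.getD 7 0))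
    + 2 * (A.getD 1 0 * (A.getD 3 0 * A.getD 8 0 + 2 * (A.getD 5 0 * A.getD 6 0)))
    + A.getD 2 0 * (A.getD 3 0 * A.getD 7 0 + 2 * (A.getD 4 0 * A.getD 6 0))) % 3

def h26_one9 : List ℕ := [1, 0, 0, 0, 1, 0, 0, 0, 1]

def h26_X9 : List ℕ := [0, 0, 1, 0, 1, 0, 2, 0, 0]

theorem h26_toMat_mul9 (A B : List ℕ) :
    h26_toMat (h26_mul9 A B) = h26_toMat A * h26_toMat B := by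
  ext i j
  fin_cases i <;> fin_cases j <;>
    simp [h26_toMat, h26_mul9, Matrix.mul_apply, Fin.sum_univ_three, ZMod.natCast_mod]

theorem h26_toMat_one9 : h26_toMat h26_one9 = 1 := by
  ext i j
  fin_cases i <;> fin_cases j <;> simp [h26_toMat, h26_one9]

theorem h26_toMat_X9 : h26_toMat h26_X9 = X3mat := by
  ext i j
  fin_cases i <;> fin_cases j <;> simp [h26_toMat, h26_X9, X3mat] <;> decide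

theorem h26_det_toMat (A : List ℕ) : (h26_toMat A).det = ((h26_det9 A : ℕ) : ZMod 3) := by
  have h2 : (2 : ZMod 3) = -1 := by decide
  rw [Matrix.det_fin_three]
  simp only [h26_toMat, h26_det9, ZMod.natCast_mod, Nat.cast_add, Nat.cast_mul, Nat.cast_ofNat,
    Matrix.of_apply, Matrix.cons_val_zero, Matrix.cons_val_one, Matrix.cons_val_two,
    Matrix.cons_val', Matrix.cons_val_fin_one, Matrix.head_cons, Matrix.tail_cons,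
    Matrix.head_fin_const]
  rw [h2]
  ring

def h26_U (r : List ℕ) : List ℕ := (r.drop 6).take 9
def h26_Ui (r : List ℕ) : List ℕ := (r.drop 15).take 9
def h26_V (r : List ℕ) : List ℕ := (r.drop 24).take 9
def h26_Vi (r : List ℕ) : List ℕ := (r.drop 33).take 9

/-- A row of the table is correct. -/
def h26_rowOK (r : List ℕ) : Prop :=
  h26_det9 (h26_U r) = 1 ∧ h26_det9 (h26_V r) = 1 ∧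
  h26_mul9 (h26_U r) (h26_Ui r) = h26_one9 ∧ h26_mul9 (h26_V r) (h26_Vi r) = h26_one9 ∧
  h26_mul9 (h26_mul9 (h26_mul9 (h26_U r) h26_X9) (h26_Ui r))
      (h26_mul9 (h26_mul9 (h26_V r) h26_X9) (h26_Vi r)) =
    [1, r.getD 0 0, r.getD 1 0, 1, r.getD 2 0, r.getD 3 0, 0, r.getD 4 0, r.getD 5 0]

instance (r : List ℕ) : Decidable (h26_rowOK r) := by unfold h26_rowOK; infer_instance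

set_option maxRecDepth 1000000 in
/-- The table. -/
def h26_rows : List (List ℕ) :=
  [[0,0,0,1,2,0,0,0,1,0,1,0,2,0,1,1,0,2,0,1,0,1,0,0,0,1,1,2,0,2,1,2,1,2,1,2,0,2,2,1,1,1],
   [0,0,0,1,2,1,0,0,1,0,1,1,2,0,0,0,0,2,2,1,0,1,0,0,0,1,1,0,2,0,1,1,0,0,1,1,0,2,0,1,1,0],
   [0,0,0,1,2,2,0,0,1,0,2,0,1,0,1,2,0,1,0,2,0,1,0,0,0,1,1,2,1,1,2,0,1,1,2,0,0,1,2,1,2,1],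
   [0,0,0,2,1,0,0,0,1,0,1,1,2,0,2,2,0,2,2,1,0,1,0,0,0,2,1,1,2,2,1,0,2,1,2,2,0,2,1,1,2,1],
   [0,0,0,2,1,1,0,0,1,0,1,2,2,0,2,2,0,2,1,1,0,1,0,0,0,2,1,0,2,0,1,0,2,1,2,1,0,2,0,1,2,0],
   [0,0,0,2,1,2,0,0,1,0,1,0,2,0,2,2,0,2,0,1,0,1,0,0,0,2,1,2,2,1,1,0,2,1,2,0,0,2,2,1,2,2],
   [0,0,1,0,0,1,0,0,1,0,1,0,2,0,0,0,0,2,0,1,0,1,0,0,0,0,1,2,2,1,1,0,0,0,0,1,1,2,2,1,0,0],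
   [0,0,1,0,1,1,0,0,1,2,1,0,1,1,0,0,1,2,0,2,2,1,0,0,0,2,1,0,1,1,1,0,1,1,1,1,1,2,0,2,2,0],
   [0,0,1,0,2,1,0,0,1,2,1,0,0,2,0,0,2,2,0,0,2,1,0,0,0,1,1,0,0,1,1,1,2,2,2,1,1,2,0,0,1,0],
   [0,0,1,1,0,1,0,0,1,0,1,0,2,0,0,0,0,2,0,1,0,1,0,0,0,0,1,0,2,2,1,0,0,0,0,1,2,2,0,1,0,0],
   [0,0,1,1,1,2,0,0,1,0,1,2,2,0,1,1,0,2,1,1,0,1,0,0,0,2,1,2,1,2,1,1,1,2,2,0,0,2,2,1,2,2],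
   [0,0,1,1,2,0,0,0,1,0,1,2,2,0,1,1,0,2,1,1,0,1,0,0,0,1,1,2,0,2,1,2,1,2,1,2,0,2,2,1,1,1],
   [0,0,1,2,0,1,0,0,1,0,1,0,2,0,0,0,0,2,0,1,0,1,0,0,0,0,1,1,2,0,1,0,0,0,0,1,0,2,1,1,0,0],
   [0,0,1,2,1,0,0,0,1,0,1,0,2,0,0,0,0,2,0,1,0,1,0,0,0,2,1,1,1,0,1,2,0,0,2,2,0,2,1,1,2,1],
   [0,0,1,2,2,2,0,0,1,0,1,0,2,0,0,0,0,2,0,1,0,1,0,0,0,1,1,1,0,0,1,1,0,0,1,0,0,2,1,1,1,2],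
   [0,0,2,0,0,2,0,1,0,0,0,1,1,0,0,0,0,1,1,0,0,0,1,0,0,1,0,0,2,1,1,1,0,2,0,1,1,0,0,1,1,0],
   [0,0,2,0,1,2,0,0,1,0,1,0,2,0,1,1,0,2,0,1,0,1,0,0,0,2,1,2,1,2,1,1,1,2,2,0,0,2,2,1,2,2],
   [0,0,2,0,2,2,0,0,1,0,1,1,2,0,2,2,0,2,2,1,0,1,0,0,0,1,1,1,2,2,1,0,2,1,1,0,0,2,1,1,1,2],
   [0,0,2,1,0,2,0,0,1,0,1,0,2,1,2,2,1,2,0,1,0,1,0,0,0,1,1,0,1,2,1,1,1,2,0,1,2,2,0,2,1,0],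
   [0,0,2,1,1,1,0,0,1,0,1,1,2,0,0,0,0,2,2,1,0,1,0,0,0,2,1,0,2,0,1,2,0,0,2,1,0,2,0,1,2,0],
   [0,0,2,1,2,0,0,0,1,0,1,0,2,0,2,2,0,2,0,1,0,1,0,0,0,1,1,2,2,1,1,0,2,1,1,2,0,2,2,1,1,1],
   [0,0,2,2,0,2,0,0,1,0,1,1,2,1,1,0,1,2,2,1,0,1,0,0,0,2,1,1,0,1,2,2,1,1,0,2,1,1,1,2,1,1],
   [0,0,2,2,1,0,0,0,1,0,2,0,1,0,1,2,0,1,0,2,0,1,0,0,0,2,1,2,1,1,2,0,1,1,1,1,0,1,2,1,1,2],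
   [0,0,2,2,2,1,0,0,1,0,1,2,2,0,2,2,0,2,1,1,0,1,0,0,0,1,1,0,2,0,1,0,2,1,1,1,0,2,0,1,1,0],
   [0,1,0,0,1,0,0,0,1,0,1,0,2,0,0,0,0,2,0,1,0,1,0,0,0,0,1,1,0,0,2,1,1,0,1,0,2,1,1,1,0,0],
   [0,1,0,0,1,1,0,0,1,0,1,0,2,2,1,1,2,2,0,1,0,1,0,0,0,0,1,1,0,0,2,1,2,0,1,0,1,1,1,1,0,0],
   [0,1,0,0,1,2,0,0,1,0,1,0,2,1,2,2,1,2,0,1,0,1,0,0,0,0,1,1,0,0,2,1,0,0,1,0,0,1,1,1,0,0],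
   [0,1,0,2,2,0,0,0,1,0,1,0,2,0,2,2,0,2,0,1,0,1,0,0,0,1,1,2,0,0,0,1,2,0,2,0,2,0,2,2,0,1],
   [0,1,0,2,2,1,0,0,1,0,1,2,2,0,1,1,0,2,1,1,0,1,0,0,0,0,1,2,0,2,1,2,0,2,2,0,2,2,2,1,0,0],
   [0,1,0,2,2,2,0,0,1,0,1,0,2,0,0,0,0,2,0,1,0,1,0,0,0,0,1,0,1,2,2,2,1,0,2,2,1,1,0,1,0,0],
   [0,1,1,0,0,1,0,0,1,0,1,0,2,1,1,1,1,2,0,1,0,1,0,0,0,0,1,2,0,1,1,2,1,1,2,0,2,2,2,1,0,0],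
   [0,1,1,0,1,0,0,0,1,0,1,0,2,0,1,1,0,2,0,1,0,1,0,0,0,0,1,2,1,1,1,1,0,2,1,2,1,2,2,1,0,0],
   [0,1,1,0,2,2,0,0,1,0,1,0,2,0,2,2,0,2,0,1,0,1,0,0,0,0,1,2,0,1,0,2,2,1,2,0,2,0,2,1,0,0],
   [0,1,1,1,0,1,0,0,1,0,1,0,2,1,2,2,1,2,0,1,0,1,0,0,0,2,1,1,0,0,2,1,0,0,1,0,0,1,1,1,1,1],
   [0,1,1,1,1,1,0,0,1,0,1,0,2,1,0,0,1,2,0,1,0,1,0,0,0,1,0,1,2,1,1,2,0,1,0,1,1,0,0,0,1,2],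
   [0,1,1,1,2,1,0,0,1,0,1,0,2,1,2,2,1,2,0,1,0,1,0,0,0,1,1,1,0,2,0,2,1,2,1,2,2,0,1,2,0,2],
   [0,1,1,2,0,1,0,0,1,0,1,1,2,1,2,1,1,2,2,1,0,1,0,0,0,2,1,1,2,1,2,1,0,2,1,0,2,1,1,0,1,1],
   [0,1,1,2,1,2,0,0,1,0,1,0,2,0,2,2,0,2,0,1,0,1,0,0,0,2,1,1,2,2,0,2,2,0,1,2,1,0,1,2,0,1],
   [0,1,1,2,2,0,0,0,1,0,1,0,2,2,2,2,2,2,0,1,0,1,0,0,0,1,0,0,0,1,1,1,1,2,2,1,1,0,0,0,1,0],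
   [0,1,2,0,0,2,0,0,1,0,1,0,2,1,0,0,1,2,0,1,0,1,0,0,0,2,1,2,1,2,1,1,1,2,2,0,0,2,2,1,2,2],
   [0,1,2,0,1,0,0,0,1,0,1,0,2,1,0,0,1,2,0,1,0,1,0,0,0,0,1,2,0,2,1,2,1,2,2,0,0,2,2,1,0,0],
   [0,1,2,0,2,1,0,0,1,0,1,0,2,0,1,1,0,2,0,1,0,1,0,0,0,0,1,2,0,2,1,2,0,2,2,0,2,2,2,1,0,0],
   [0,1,2,1,0,2,0,0,1,0,1,1,2,1,2,1,1,2,2,1,0,1,0,0,0,0,1,1,0,2,1,1,2,1,1,0,0,2,1,1,0,0],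
   [0,1,2,1,1,2,0,0,1,0,1,1,2,0,2,2,0,2,2,1,0,1,0,0,0,0,1,1,0,2,0,1,2,1,1,0,1,0,1,1,0,0],
   [0,1,2,1,2,2,0,0,1,0,1,0,2,2,0,0,2,2,0,1,0,1,0,0,0,1,1,1,1,2,2,1,2,0,2,1,2,1,1,2,2,2],
   [0,1,2,2,0,2,0,0,1,1,0,0,0,1,1,0,1,0,2,0,1,1,0,0,0,0,1,1,2,0,0,1,1,2,1,1,2,0,1,1,0,0],
   [0,1,2,2,1,1,0,0,1,0,1,0,2,0,2,2,0,2,0,1,0,1,0,0,0,0,1,1,1,1,0,1,2,1,1,2,1,0,1,1,0,0],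
   [0,1,2,2,2,0,0,0,1,0,1,0,2,1,2,2,1,2,0,1,0,1,0,0,0,1,1,1,0,0,2,1,0,0,1,0,0,1,1,1,2,2],
   [0,2,0,0,2,0,0,0,1,0,1,1,2,2,2,0,2,2,2,1,0,1,0,0,0,1,1,2,2,1,0,1,2,0,2,2,2,0,2,2,0,1],
   [0,2,0,0,2,1,0,0,1,0,1,2,2,2,2,1,2,2,1,1,0,1,0,0,0,2,1,0,0,1,2,2,2,1,1,2,2,1,0,0,1,0],
   [0,2,0,0,2,2,0,0,1,0,1,0,2,2,2,2,2,2,0,1,0,1,0,0,0,1,1,1,1,0,2,1,1,1,0,2,2,1,1,2,2,2],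
   [0,2,0,1,1,0,0,0,1,0,1,1,2,0,0,0,0,2,2,1,0,1,0,0,0,2,1,1,1,0,2,1,2,2,0,2,1,1,1,2,1,1],
   [0,2,0,1,1,1,0,0,1,0,1,0,2,0,2,2,0,2,0,1,0,1,0,0,0,1,1,1,1,2,1,0,0,0,0,1,2,2,1,2,1,2],
   [0,2,0,1,1,2,0,0,1,0,1,0,2,2,2,2,2,2,0,1,0,1,0,0,0,0,1,2,1,2,1,1,1,2,1,2,0,2,2,1,0,0],
   [0,2,1,0,0,1,0,0,1,0,1,0,2,2,1,1,2,2,0,1,0,1,0,0,0,0,1,2,1,1,1,1,1,0,1,2,2,2,2,1,0,0],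
   [0,2,1,0,1,2,0,0,1,0,1,1,2,1,0,2,1,2,2,1,0,1,0,0,0,2,1,0,2,0,1,1,0,0,1,1,0,2,0,1,2,0],
   [0,2,1,0,2,0,0,0,1,0,1,0,2,1,1,1,1,2,0,1,0,1,0,0,0,0,1,2,2,1,2,1,1,1,1,1,0,1,2,1,0,0],
   [0,2,1,1,0,1,0,0,1,0,1,0,2,2,0,0,2,2,0,1,0,1,0,0,0,2,1,2,0,0,1,1,1,0,2,0,1,2,2,2,2,2],
   [0,2,1,1,1,0,0,0,1,0,2,0,1,2,1,2,2,1,0,2,0,1,0,0,0,1,0,1,0,1,1,2,0,1,0,1,1,0,0,2,1,2],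
   [0,2,1,1,2,2,0,0,1,0,1,0,2,2,1,1,2,2,0,1,0,1,0,0,0,1,1,0,1,2,1,2,0,2,2,1,2,2,0,2,1,0],
   [0,2,1,2,0,1,0,0,1,0,1,0,2,2,2,2,2,2,0,1,0,1,0,0,0,1,1,2,1,2,1,1,1,2,0,1,0,2,2,1,1,1],
   [0,2,1,2,1,1,0,0,1,0,1,1,2,2,0,1,2,2,2,1,0,1,0,0,0,0,1,2,2,2,0,2,2,0,2,1,2,0,2,1,0,0],
   [0,2,1,2,2,1,0,0,1,0,2,0,1,1,0,0,1,1,0,2,0,1,0,0,0,1,0,0,2,1,1,1,1,1,2,1,1,0,0,1,1,0],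
   [0,2,2,0,0,2,0,0,1,0,1,1,2,1,0,2,1,2,2,1,0,1,0,0,0,0,1,0,2,0,1,1,0,0,1,1,0,2,0,1,0,0],
   [0,2,2,0,1,1,0,0,1,0,1,1,2,1,2,1,1,2,2,1,0,1,0,0,0,0,1,0,1,2,2,2,2,1,2,2,1,1,0,1,0,0],
   [0,2,2,0,2,0,0,0,1,0,1,0,2,2,2,2,2,2,0,1,0,1,0,0,0,2,1,2,1,2,1,1,1,2,2,0,0,2,2,1,2,2],
   [0,2,2,1,0,2,0,0,1,1,0,0,0,1,2,0,1,0,1,0,1,1,0,0,0,0,1,1,1,0,0,1,2,2,1,2,1,0,1,1,0,0],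
   [0,2,2,1,1,0,0,0,1,0,1,0,2,2,2,2,2,2,0,1,0,1,0,0,0,1,0,1,1,1,0,1,2,1,1,1,1,0,0,1,0,2],
   [0,2,2,1,2,1,0,0,1,0,1,0,2,0,0,0,0,2,0,1,0,1,0,0,0,1,1,1,0,2,2,2,2,2,0,2,2,1,1,2,2,2],
   [0,2,2,2,0,2,0,0,1,0,1,0,2,1,1,1,1,2,0,1,0,1,0,0,0,2,1,2,0,1,2,2,1,1,0,2,0,1,2,1,1,2],
   [0,2,2,2,1,2,0,0,1,0,1,0,2,0,0,0,0,2,0,1,0,1,0,0,0,2,1,0,2,2,2,1,2,2,0,2,1,1,0,2,1,0],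
   [0,2,2,2,2,2,0,0,1,0,1,0,2,0,2,2,0,2,0,1,0,1,0,0,0,2,1,0,1,1,1,0,0,0,0,1,1,2,0,2,2,0],
   [1,0,0,0,0,2,0,0,1,0,1,0,2,1,0,0,1,2,0,1,0,1,0,0,0,2,1,1,2,0,2,0,2,1,2,1,1,1,1,2,1,1],
   [1,0,0,0,1,2,0,0,1,0,1,0,2,0,2,2,0,2,0,1,0,1,0,0,0,2,1,1,2,0,1,2,1,2,0,1,2,2,1,0,2,1],
   [1,0,0,0,2,2,0,0,1,0,1,0,2,2,1,1,2,2,0,1,0,1,0,0,0,2,1,1,2,0,0,1,0,0,1,1,0,0,1,1,0,1],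
   [1,0,0,1,0,2,0,0,1,0,1,0,2,0,2,2,0,2,0,1,0,1,0,0,0,0,1,0,1,1,2,1,2,1,1,2,2,1,0,1,0,0],
   [1,0,0,1,1,1,0,0,1,0,1,0,2,2,0,0,2,2,0,1,0,1,0,0,0,1,1,0,2,1,2,1,2,0,2,2,2,1,0,2,2,0],
   [1,0,0,1,2,0,0,0,1,0,1,0,2,0,1,1,0,2,0,1,0,1,0,0,0,1,1,1,0,1,2,2,0,1,2,1,2,1,1,2,2,2],
   [1,0,0,2,0,2,0,0,1,0,1,1,2,1,2,1,1,2,2,1,0,1,0,0,0,2,1,2,1,1,1,0,0,0,0,1,1,2,2,2,2,2],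
   [1,0,0,2,1,0,0,0,1,0,1,0,2,0,1,1,0,2,0,1,0,1,0,0,0,1,0,0,1,1,1,0,0,0,0,1,1,0,0,2,1,0],
   [1,0,0,2,2,1,0,0,1,0,1,0,2,2,1,1,2,2,0,1,0,1,0,0,0,2,1,1,1,0,0,1,0,0,1,2,0,0,1,1,0,1],
   [1,0,1,1,2,0,0,0,1,0,1,0,2,0,0,0,0,2,0,1,0,1,0,0,0,1,1,2,1,0,1,2,1,1,1,2,1,2,2,0,1,1],
   [1,0,1,1,2,1,0,0,1,0,1,0,2,2,1,1,2,2,0,1,0,1,0,0,0,2,1,1,1,1,1,1,2,1,0,1,2,2,1,0,2,1],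
   [1,0,1,1,2,2,0,0,1,0,1,1,2,0,1,1,0,2,2,1,0,1,0,0,0,0,1,2,1,0,1,1,2,2,1,2,2,2,2,1,0,0],
   [1,0,1,2,1,0,0,0,1,0,1,0,2,2,0,0,2,2,0,1,0,1,0,0,0,2,1,2,2,1,0,2,0,1,2,0,0,0,2,1,0,2],
   [1,0,1,2,1,1,0,0,1,0,1,0,2,2,0,0,2,2,0,1,0,1,0,0,0,2,1,2,1,1,0,2,0,1,2,1,0,0,2,1,0,2],
   [1,0,1,2,1,2,0,0,1,0,1,0,2,0,0,0,0,2,0,1,0,1,0,0,0,2,1,1,0,2,0,2,2,2,1,1,1,0,1,2,0,1],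
   [1,0,2,0,0,1,0,0,1,0,1,0,2,2,2,2,2,2,0,1,0,1,0,0,0,1,1,2,2,2,1,0,1,2,2,0,0,2,2,1,1,1],
   [1,0,2,0,1,1,0,0,1,0,1,0,2,2,0,0,2,2,0,1,0,1,0,0,0,1,1,2,2,2,1,1,2,2,2,0,1,2,2,0,1,1],
   [1,0,2,0,2,1,0,0,1,0,1,0,2,2,1,1,2,2,0,1,0,1,0,0,0,1,1,2,2,2,1,2,0,2,2,0,2,2,2,2,1,1],
   [1,0,2,1,0,1,0,0,1,0,1,0,2,2,2,2,2,2,0,1,0,1,0,0,0,1,1,1,2,2,2,0,2,1,1,0,2,1,1,2,2,2],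
   [1,0,2,1,1,2,0,0,1,0,1,0,2,1,1,1,1,2,0,1,0,1,0,0,0,0,1,1,2,1,0,1,1,1,1,1,2,0,1,1,0,0],
   [1,0,2,1,2,0,0,0,1,0,1,1,2,0,1,1,0,2,2,1,0,1,0,0,0,1,1,1,0,1,2,2,0,1,2,1,2,1,1,2,2,2],
   [1,0,2,2,0,1,0,0,1,0,1,0,2,2,2,2,2,2,0,1,0,1,0,0,0,1,0,0,2,1,1,0,2,1,1,1,1,0,0,1,1,0],
   [1,0,2,2,1,0,0,0,1,0,1,2,2,0,1,1,0,2,1,1,0,1,0,0,0,1,0,0,1,1,1,0,0,0,0,1,1,0,0,2,1,0],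
   [1,0,2,2,2,2,0,0,1,0,1,0,2,0,1,1,0,2,0,1,0,1,0,0,0,0,1,2,1,0,1,1,2,2,1,2,2,2,2,1,0,0],
   [1,1,0,0,0,2,0,0,1,0,1,0,2,0,1,1,0,2,0,1,0,1,0,0,0,1,1,1,1,0,2,1,1,1,0,2,2,1,1,2,2,2],
   [1,1,0,0,1,0,0,0,1,0,1,0,2,0,0,0,0,2,0,1,0,1,0,0,0,0,1,1,0,0,0,1,2,0,1,0,1,0,1,1,0,0],
   [1,1,0,0,2,1,0,0,1,0,1,0,2,2,1,1,2,2,0,1,0,1,0,0,0,0,1,1,0,0,0,1,0,0,1,0,0,0,1,1,0,0],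
   [1,1,0,1,0,2,0,0,1,0,1,0,2,0,0,0,0,2,0,1,0,1,0,0,0,2,1,1,1,1,2,2,0,1,2,1,2,1,1,0,1,1],
   [1,1,0,1,1,2,0,0,1,0,1,0,2,0,1,1,0,2,0,1,0,1,0,0,0,2,1,2,2,2,1,0,1,2,1,2,0,2,2,1,2,2],
   [1,1,0,1,2,2,0,0,1,0,1,0,2,2,1,1,2,2,0,1,0,1,0,0,0,0,1,1,1,0,0,1,0,0,1,2,0,0,1,1,0,0],
   [1,1,0,2,0,2,0,0,1,0,1,0,2,1,0,0,1,2,0,1,0,1,0,0,0,1,0,0,1,1,1,0,0,0,0,1,1,0,0,2,1,0],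
   [1,1,0,2,1,1,0,0,1,0,1,0,2,2,2,2,2,2,0,1,0,1,0,0,0,2,1,1,1,2,2,1,0,1,1,0,1,1,1,2,1,1],
   [1,1,0,2,2,0,0,0,1,0,1,0,2,0,2,2,0,2,0,1,0,1,0,0,0,2,1,2,0,1,1,2,2,1,1,2,0,2,2,1,2,2],
   [1,1,1,0,1,0,0,0,1,0,1,0,2,2,0,0,2,2,0,1,0,1,0,0,0,0,1,2,0,1,0,2,0,1,2,0,0,0,2,1,0,0],
   [1,1,1,0,1,1,0,0,1,0,1,0,2,1,1,1,1,2,0,1,0,1,0,0,0,0,1,2,0,1,2,2,1,1,2,0,0,1,2,1,0,0],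
   [1,1,1,0,1,2,0,0,1,0,1,0,2,0,2,2,0,2,0,1,0,1,0,0,0,0,1,2,0,1,1,2,2,1,2,0,0,2,2,1,0,0],
   [1,1,1,2,2,0,0,0,1,0,1,0,2,0,1,1,0,2,0,1,0,1,0,0,0,1,1,2,1,2,1,1,1,2,0,1,0,2,2,1,1,1],
   [1,1,1,2,2,1,0,0,1,0,2,0,1,2,0,0,2,1,0,2,0,1,0,0,0,2,1,2,0,1,0,2,0,1,2,2,0,0,2,1,0,2],
   [1,1,1,2,2,2,0,0,1,0,1,1,2,2,1,2,2,2,2,1,0,1,0,0,0,0,1,2,1,0,1,1,2,2,1,2,2,2,2,1,0,0],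
   [1,1,2,0,0,1,0,0,1,0,1,0,2,0,1,1,0,2,0,1,0,1,0,0,0,0,1,2,0,2,1,2,1,2,2,0,0,2,2,1,0,0],
   [1,1,2,0,1,0,0,0,1,0,1,0,2,1,0,0,1,2,0,1,0,1,0,0,0,0,1,2,0,2,1,2,2,2,2,0,1,2,2,1,0,0],
   [1,1,2,0,2,2,0,0,1,0,1,0,2,1,1,1,1,2,0,1,0,1,0,0,0,1,1,2,2,2,0,0,1,2,2,0,1,0,2,0,0,1],
   [1,1,2,1,0,1,0,0,1,0,1,0,2,0,2,2,0,2,0,1,0,1,0,0,0,1,1,2,0,1,1,2,2,1,0,1,0,2,2,1,1,1],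
   [1,1,2,1,1,1,0,0,1,0,1,0,2,0,1,1,0,2,0,1,0,1,0,0,0,1,0,1,1,1,0,1,2,1,1,1,1,0,0,1,0,2],
   [1,1,2,1,2,1,0,0,1,0,1,0,2,0,2,2,0,2,0,1,0,1,0,0,0,2,1,2,0,0,2,1,1,0,2,0,1,1,2,2,1,2],
   [1,1,2,2,0,1,0,0,1,0,1,1,2,2,1,2,2,2,2,1,0,1,0,0,0,0,1,2,2,1,1,0,1,2,0,1,2,2,2,1,0,0],
   [1,1,2,2,1,2,0,0,1,0,1,0,2,2,2,2,2,2,0,1,0,1,0,0,0,0,1,2,1,0,1,1,2,2,1,2,2,2,2,1,0,0],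
   [1,1,2,2,2,0,0,0,1,0,1,0,2,1,1,1,1,2,0,1,0,1,0,0,0,2,1,2,1,1,2,0,1,1,1,1,0,1,2,1,1,2],
   [1,2,0,0,0,2,0,0,1,0,1,0,2,2,0,0,2,2,0,1,0,1,0,0,0,2,1,1,2,0,2,1,1,2,2,1,2,1,1,0,1,1],
   [1,2,0,0,1,1,0,0,1,0,1,0,2,0,1,1,0,2,0,1,0,1,0,0,0,2,1,1,2,0,2,0,2,1,2,1,1,1,1,2,1,1],
   [1,2,0,0,2,0,0,0,1,0,1,0,2,1,2,2,1,2,0,1,0,1,0,0,0,2,1,1,2,0,2,2,0,0,2,1,0,1,1,1,1,1],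
   [1,2,0,1,0,2,0,0,1,0,1,0,2,1,0,0,1,2,0,1,0,1,0,0,0,2,1,2,2,2,1,0,1,2,1,2,0,2,2,1,2,2],
   [1,2,0,1,1,0,0,0,1,0,1,0,2,1,0,0,1,2,0,1,0,1,0,0,0,0,1,2,1,2,1,1,1,2,1,2,0,2,2,1,0,0],
   [1,2,0,1,2,1,0,0,1,0,1,0,2,1,0,0,1,2,0,1,0,1,0,0,0,1,1,2,0,2,1,2,1,2,1,2,0,2,2,1,1,1],
   [1,2,0,2,0,2,0,0,1,0,1,0,2,2,1,1,2,2,0,1,0,1,0,0,0,1,1,0,0,2,2,1,1,1,0,2,1,1,0,0,2,0],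
   [1,2,0,2,1,2,0,0,1,0,1,0,2,2,1,1,2,2,0,1,0,1,0,0,0,2,1,1,0,2,2,2,0,2,2,1,1,1,1,2,1,1],
   [1,2,0,2,2,2,0,0,1,0,1,0,2,2,1,1,2,2,0,1,0,1,0,0,0,1,1,1,0,0,0,1,0,0,1,0,0,0,1,1,0,2],
   [1,2,1,0,2,0,0,0,1,0,2,0,1,2,0,0,2,1,0,2,0,1,0,0,0,0,1,2,0,1,0,2,0,1,2,0,0,0,2,1,0,0],
   [1,2,1,0,2,1,0,0,1,0,2,0,1,1,2,1,1,1,0,2,0,1,0,0,0,0,1,2,0,1,1,2,2,1,2,0,0,2,2,1,0,0],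
   [1,2,1,0,2,2,0,0,1,0,1,0,2,1,0,0,1,2,0,1,0,1,0,0,0,0,1,2,1,1,1,1,0,2,1,2,1,2,2,1,0,0],
   [1,2,1,1,1,0,0,0,1,0,1,0,2,2,0,0,2,2,0,1,0,1,0,0,0,1,1,2,1,1,0,2,0,1,2,0,0,0,2,1,0,1],
   [1,2,1,1,1,1,0,0,1,0,1,0,2,2,0,0,2,2,0,1,0,1,0,0,0,1,1,2,0,1,0,2,0,1,2,1,0,0,2,1,0,1],
   [1,2,1,1,1,2,0,0,1,0,1,0,2,0,1,1,0,2,0,1,0,1,0,0,0,1,0,1,2,1,1,2,0,1,0,1,1,0,0,0,1,2],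
   [1,2,2,0,0,1,0,0,1,0,1,1,2,0,2,2,0,2,2,1,0,1,0,0,0,1,1,1,1,2,1,2,2,1,0,1,0,2,1,1,1,2],
   [1,2,2,0,1,2,0,0,1,0,1,0,2,0,0,0,0,2,0,1,0,1,0,0,0,2,1,2,1,2,1,0,2,2,2,0,1,2,2,2,2,2],
   [1,2,2,0,2,0,0,0,1,0,1,1,2,0,2,2,0,2,2,1,0,1,0,0,0,2,1,0,2,2,2,1,1,0,2,2,1,1,0,2,1,0],
   [1,2,2,1,0,1,0,0,1,0,1,0,2,0,0,0,0,2,0,1,0,1,0,0,0,2,1,1,0,0,1,1,0,0,1,0,0,2,1,1,2,1],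
   [1,2,2,1,1,0,0,0,1,0,1,0,2,0,0,0,0,2,0,1,0,1,0,0,0,1,1,1,2,0,1,0,0,0,0,1,0,2,1,1,1,2],
   [1,2,2,1,2,2,0,0,1,0,1,0,2,0,0,0,0,2,0,1,0,1,0,0,0,0,1,1,1,0,1,2,0,0,2,2,0,2,1,1,0,0],
   [1,2,2,2,0,1,0,0,1,0,1,0,2,1,0,0,1,2,0,1,0,1,0,0,0,0,1,2,1,0,1,1,2,2,1,2,2,2,2,1,0,0],
   [1,2,2,2,1,1,0,0,1,0,1,0,2,0,0,0,0,2,0,1,0,1,0,0,0,1,1,1,2,1,0,0,2,1,1,2,1,0,1,0,0,2],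
   [1,2,2,2,2,1,0,0,1,0,1,0,2,2,0,0,2,2,0,1,0,1,0,0,0,2,1,1,2,2,1,1,1,0,2,2,1,2,1,2,2,1],
   [2,0,0,0,0,1,0,0,1,0,1,0,2,1,2,2,1,2,0,1,0,1,0,0,0,1,1,1,1,0,2,0,0,0,0,2,0,1,1,1,2,2],
   [2,0,0,0,1,1,0,0,1,0,1,0,2,1,1,1,1,2,0,1,0,1,0,0,0,1,1,1,1,0,2,2,2,2,0,2,1,1,1,0,2,2],
   [2,0,0,0,2,1,0,0,1,0,1,0,2,1,0,0,1,2,0,1,0,1,0,0,0,1,1,1,1,0,2,1,1,1,0,2,2,1,1,2,2,2],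
   [2,0,0,1,0,1,0,0,1,0,1,0,2,1,2,2,1,2,0,1,0,1,0,0,0,1,1,2,1,0,0,0,1,1,2,2,1,0,2,0,0,1],
   [2,0,0,1,1,2,0,0,1,0,1,1,2,2,1,2,2,2,2,1,0,1,0,0,0,1,0,1,2,1,1,2,0,1,0,1,1,0,0,0,1,2],
   [2,0,0,1,2,0,0,0,1,0,1,0,2,0,1,1,0,2,0,1,0,1,0,0,0,1,0,1,0,1,2,2,1,1,2,1,1,0,0,2,2,2],
   [2,0,0,2,0,1,0,0,1,0,1,0,2,1,2,2,1,2,0,1,0,1,0,0,0,2,1,0,2,2,2,0,1,2,1,2,1,1,0,2,1,0],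
   [2,0,0,2,1,0,0,0,1,0,1,2,2,2,1,0,2,2,1,1,0,1,0,0,0,0,1,1,1,0,0,1,1,1,1,2,2,0,1,1,0,0],
   [2,0,0,2,2,2,0,0,1,0,1,1,2,0,2,2,0,2,2,1,0,1,0,0,0,1,1,2,2,0,1,1,1,2,0,1,1,2,2,0,1,1],
   [2,0,1,0,0,2,0,0,1,0,1,0,2,1,1,1,1,2,0,1,0,1,0,0,0,0,1,2,1,1,2,0,1,1,0,2,0,1,2,1,0,0],
   [2,0,1,0,1,2,0,0,1,0,1,0,2,2,2,2,2,2,0,1,0,1,0,0,0,0,1,2,1,1,1,1,0,2,1,2,1,2,2,1,0,0],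
   [2,0,1,0,2,2,0,0,1,0,1,0,2,0,0,0,0,2,0,1,0,1,0,0,0,0,1,2,1,1,0,2,2,0,2,2,2,0,2,1,0,0],
   [2,0,1,1,0,2,0,0,1,0,1,0,2,2,2,2,2,2,0,1,0,1,0,0,0,1,0,1,2,1,1,2,0,1,0,1,1,0,0,0,1,2],
   [2,0,1,1,1,1,0,0,1,0,1,0,2,1,1,1,1,2,0,1,0,1,0,0,0,1,1,1,1,2,0,2,1,0,1,1,2,0,1,2,0,2],
   [2,0,1,1,2,0,0,0,1,0,1,0,2,1,2,2,1,2,0,1,0,1,0,0,0,0,1,1,1,0,2,0,0,0,0,2,0,1,1,1,0,0],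
   [2,0,1,2,0,2,0,0,1,0,1,0,2,0,0,0,0,2,0,1,0,1,0,0,0,1,1,0,0,2,2,1,0,1,1,2,1,1,0,0,2,0],
   [2,0,1,2,1,0,0,0,1,0,1,0,2,1,0,0,1,2,0,1,0,1,0,0,0,0,1,2,2,2,1,0,1,2,0,1,0,2,2,1,0,0],
   [2,0,1,2,2,1,0,0,1,0,1,0,2,1,0,0,1,2,0,1,0,1,0,0,0,1,1,2,1,2,1,1,1,2,0,1,0,2,2,1,1,1],
   [2,0,2,1,2,0,0,0,1,0,1,1,2,0,0,0,0,2,2,1,0,1,0,0,0,1,1,2,1,0,1,0,2,2,1,2,2,2,2,2,1,1],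
   [2,0,2,1,2,1,0,0,1,0,1,0,2,1,0,0,1,2,0,1,0,1,0,0,0,1,0,1,1,1,0,1,2,1,1,1,1,0,0,1,0,2],
   [2,0,2,1,2,2,0,0,1,0,1,0,2,0,1,1,0,2,0,1,0,1,0,0,0,1,1,1,2,2,2,0,2,1,1,0,2,1,1,2,2,2],
   [2,0,2,2,1,0,0,0,1,0,1,0,2,2,1,1,2,2,0,1,0,1,0,0,0,0,1,0,1,2,2,1,2,0,1,2,1,1,0,1,0,0],
   [2,0,2,2,1,1,0,0,1,0,1,0,2,1,1,1,1,2,0,1,0,1,0,0,0,2,1,2,2,1,2,1,1,1,2,0,0,1,2,1,1,2],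
   [2,0,2,2,1,2,0,0,1,0,1,0,2,1,2,2,1,2,0,1,0,1,0,0,0,2,1,1,1,0,2,0,0,0,0,2,0,1,1,1,1,1],
   [2,1,0,0,0,1,0,0,1,0,1,0,2,0,0,0,0,2,0,1,0,1,0,0,0,1,1,1,1,0,1,2,0,0,2,2,0,2,1,1,1,2],
   [2,1,0,0,1,0,0,0,1,0,1,0,2,0,0,0,0,2,0,1,0,1,0,0,0,0,1,1,0,0,1,1,0,0,1,0,0,2,1,1,0,0],
   [2,1,0,0,2,2,0,0,1,0,1,0,2,0,0,0,0,2,0,1,0,1,0,0,0,2,1,1,2,0,1,0,0,0,0,1,0,2,1,1,2,1],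
   [2,1,0,1,0,1,0,0,1,0,1,0,2,2,2,2,2,2,0,1,0,1,0,0,0,1,1,2,0,2,1,2,1,2,1,2,0,2,2,1,1,1],
   [2,1,0,1,1,1,0,0,1,0,1,0,2,2,2,2,2,2,0,1,0,1,0,0,0,1,0,1,0,1,2,2,1,1,2,1,1,0,0,2,2,2],
   [2,1,0,1,2,1,0,0,1,0,1,0,2,0,0,0,0,2,0,1,0,1,0,0,0,1,1,0,1,2,1,0,2,2,1,1,2,2,0,2,1,0],
   [2,1,0,2,0,1,0,0,1,0,1,0,2,1,1,1,1,2,0,1,0,1,0,0,0,0,1,0,2,1,1,1,1,1,1,1,1,2,0,1,0,0],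
   [2,1,0,2,1,2,0,0,1,0,1,0,2,0,1,1,0,2,0,1,0,1,0,0,0,2,1,1,1,2,2,1,0,1,1,0,1,1,1,2,1,1],
   [2,1,0,2,2,0,0,0,1,0,1,0,2,0,0,0,0,2,0,1,0,1,0,0,0,2,1,2,2,0,0,0,2,1,2,1,2,0,2,0,0,2],
   [2,1,1,0,0,2,0,0,1,0,1,0,2,0,2,2,0,2,0,1,0,1,0,0,0,0,1,2,0,1,2,2,2,1,2,0,1,1,2,1,0,0],
   [2,1,1,0,1,0,0,0,1,0,1,0,2,2,0,0,2,2,0,1,0,1,0,0,0,0,1,2,0,1,1,2,0,1,2,0,1,2,2,1,0,0],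
   [2,1,1,0,2,1,0,0,1,0,1,0,2,1,1,1,1,2,0,1,0,1,0,0,0,0,1,2,0,1,0,2,1,1,2,0,1,0,2,1,0,0],
   [2,1,1,1,0,2,0,0,1,0,1,1,2,2,2,0,2,2,2,1,0,1,0,0,0,0,1,1,0,2,0,1,2,1,1,0,1,0,1,1,0,0],
   [2,1,1,1,1,2,0,0,1,0,1,0,2,1,0,0,1,2,0,1,0,1,0,0,0,0,1,2,2,0,1,0,1,2,0,1,1,2,2,1,0,0],
   [2,1,1,1,2,2,0,0,1,0,1,1,2,0,2,2,0,2,2,1,0,1,0,0,0,0,1,1,0,2,1,1,2,1,1,0,0,2,1,1,0,0],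
   [2,1,1,2,0,2,0,0,1,0,1,0,2,1,1,1,1,2,0,1,0,1,0,0,0,0,1,1,1,1,2,0,1,1,0,2,1,1,1,1,0,0],
   [2,1,1,2,1,1,0,0,1,0,1,0,2,1,2,2,1,2,0,1,0,1,0,0,0,2,1,2,2,0,2,2,2,1,1,1,2,1,2,0,1,2],
   [2,1,1,2,2,0,0,0,1,0,1,0,2,2,2,2,2,2,0,1,0,1,0,0,0,2,1,2,0,2,1,2,1,2,0,1,0,2,2,1,2,2],
   [2,1,2,0,1,0,0,0,1,0,1,0,2,1,0,0,1,2,0,1,0,1,0,0,0,0,1,2,0,2,1,2,0,2,2,0,2,2,2,1,0,0],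
   [2,1,2,0,1,1,0,0,1,0,1,0,2,0,1,1,0,2,0,1,0,1,0,0,0,0,1,2,0,2,1,2,2,2,2,0,1,2,2,1,0,0],
   [2,1,2,0,1,2,0,0,1,0,1,0,2,2,2,2,2,2,0,1,0,1,0,0,0,0,1,2,0,2,1,2,1,2,2,0,0,2,2,1,0,0],
   [2,1,2,2,2,0,0,0,1,0,1,0,2,1,2,2,1,2,0,1,0,1,0,0,0,2,1,1,0,2,1,2,1,2,0,1,1,2,1,2,2,1],
   [2,1,2,2,2,1,0,0,1,0,1,0,2,0,1,1,0,2,0,1,0,1,0,0,0,1,0,0,2,1,1,0,2,1,1,1,1,0,0,1,1,0],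
   [2,1,2,2,2,2,0,0,1,0,1,0,2,2,1,1,2,2,0,1,0,1,0,0,0,2,1,2,2,0,1,1,2,1,0,1,2,2,2,0,2,2],
   [2,2,0,0,0,1,0,0,1,0,1,0,2,2,0,0,2,2,0,1,0,1,0,0,0,1,1,1,1,0,1,1,2,2,2,2,1,2,1,0,1,2],
   [2,2,0,0,1,2,0,0,1,0,1,1,2,1,0,2,1,2,2,1,0,1,0,0,0,0,1,0,2,0,1,0,0,0,0,1,0,2,0,1,0,0],
   [2,2,0,0,2,0,0,0,1,0,1,1,2,1,2,1,1,2,2,1,0,1,0,0,0,0,1,1,2,2,1,0,2,1,0,1,0,2,1,1,0,0],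
   [2,2,0,1,0,1,0,0,1,0,1,0,2,0,1,1,0,2,0,1,0,1,0,0,0,0,1,2,1,2,1,1,1,2,1,2,0,2,2,1,0,0],
   [2,2,0,1,1,0,0,0,1,0,2,0,1,0,0,0,0,1,0,2,0,1,0,0,0,1,1,2,1,0,0,0,1,1,2,2,1,0,2,0,0,1],
   [2,2,0,1,2,2,0,0,1,0,1,1,2,0,1,1,0,2,2,1,0,1,0,0,0,1,0,0,0,1,1,1,1,2,2,1,1,0,0,0,1,0],
   [2,2,0,2,0,1,0,0,1,0,1,0,2,0,2,2,0,2,0,1,0,1,0,0,0,2,1,2,1,1,1,1,2,1,0,1,0,2,2,1,2,2],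
   [2,2,0,2,1,1,0,0,1,0,2,0,1,0,0,0,0,1,0,2,0,1,0,0,0,2,1,0,2,2,2,0,1,2,1,2,1,1,0,2,1,0],
   [2,2,0,2,2,1,0,0,1,0,1,1,2,0,0,0,0,2,2,1,0,1,0,0,0,0,1,2,2,2,0,2,2,0,2,1,2,0,2,1,0,0],
   [2,2,1,0,0,2,0,0,1,0,1,1,2,1,0,2,1,2,2,1,0,1,0,0,0,1,1,0,2,0,1,0,0,0,0,1,0,2,0,1,1,0],
   [2,2,1,0,1,1,0,0,1,0,1,0,2,1,0,0,1,2,0,1,0,1,0,0,0,0,1,2,2,1,1,0,1,2,0,1,2,2,2,1,0,0],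
   [2,2,1,0,2,0,0,0,1,0,1,0,2,0,2,2,0,2,0,1,0,1,0,0,0,0,1,2,1,1,1,1,2,1,1,2,0,2,2,1,0,0],
   [2,2,1,1,0,2,0,0,1,0,1,0,2,1,1,1,1,2,0,1,0,1,0,0,0,0,1,0,1,1,2,0,1,1,0,2,2,1,0,1,0,0],
   [2,2,1,1,1,0,0,0,1,0,1,0,2,0,2,2,0,2,0,1,0,1,0,0,0,1,1,0,2,1,2,2,1,0,1,2,2,1,0,2,2,0],
   [2,2,1,1,2,1,0,0,1,0,1,0,2,2,0,0,2,2,0,1,0,1,0,0,0,2,1,0,0,1,2,1,1,2,2,2,2,1,0,0,1,0],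
   [2,2,1,2,0,2,0,0,1,0,1,0,2,0,1,1,0,2,0,1,0,1,0,0,0,2,1,1,0,1,2,2,1,1,0,2,1,1,1,2,1,1],
   [2,2,1,2,1,2,0,0,1,0,1,0,2,0,1,1,0,2,0,1,0,1,0,0,0,2,1,2,0,2,1,2,1,2,0,1,0,2,2,1,2,2],
   [2,2,1,2,2,2,0,0,1,0,1,0,2,0,1,1,0,2,0,1,0,1,0,0,0,1,0,0,0,1,1,1,1,2,2,1,1,0,0,0,1,0],
   [2,2,2,0,2,0,0,0,1,0,1,0,2,0,1,1,0,2,0,1,0,1,0,0,0,1,1,2,2,2,1,0,1,2,2,0,0,2,2,1,1,1],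
   [2,2,2,0,2,1,0,0,1,0,1,0,2,0,0,0,0,2,0,1,0,1,0,0,0,1,1,2,2,2,0,1,2,2,2,0,2,0,2,2,0,1],
   [2,2,2,0,2,2,0,0,1,0,1,0,2,0,2,2,0,2,0,1,0,1,0,0,0,1,1,2,2,2,2,2,0,2,2,0,1,1,2,0,2,1],
   [2,2,2,1,1,0,0,0,1,0,2,0,1,1,1,2,1,1,0,2,0,1,0,0,0,1,1,1,0,2,2,2,2,2,0,2,2,1,1,2,2,2],
   [2,2,2,1,1,1,0,0,1,0,1,0,2,0,0,0,0,2,0,1,0,1,0,0,0,2,1,0,0,2,1,1,1,1,2,1,2,2,0,0,2,0],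
   [2,2,2,1,1,2,0,0,1,0,1,0,2,0,2,2,0,2,0,1,0,1,0,0,0,1,1,2,1,1,1,1,2,1,2,0,0,2,2,1,1,1]]

set_option maxRecDepth 1000000 in
theorem h26_rows_ok : ∀ r ∈ h26_rows, h26_rowOK r := by decide +kernel

/-- The key `[a,b,c,d,e,f]` with index `k`. -/
def h26_key (k : ℕ) : List ℕ := [k % 3, k / 3 % 3, k / 9 % 3, k / 27 % 3, k / 81 % 3, k / 243 % 3]

/-- The key `t` is covered by the table if its matrix has determinant one. -/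
def h26_coverOK (t : List ℕ) : Prop :=
  h26_det9 [1, t.getD 0 0, t.getD 1 0, 1, t.getD 2 0, t.getD 3 0, 0, t.getD 4 0, t.getD 5 0] = 1 →
    ∃ r ∈ h26_rows, r.getD 0 0 = t.getD 0 0 ∧ r.getD 1 0 = t.getD 1 0 ∧ r.getD 2 0 = t.getD 2 0 ∧
      r.getD 3 0 = t.getD 3 0 ∧ r.getD 4 0 = t.getD 4 0 ∧ r.getD 5 0 = t.getD 5 0

instance (t : List ℕ) : Decidable (h26_coverOK t) := by unfold h26_coverOK; infer_instance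

set_option maxRecDepth 1000000 in
theorem h26_cover_all : ∀ k < 729, h26_coverOK (h26_key k) := by decide +kernel

theorem h26_rows_cover (a b c d e f : ℕ) (ha : a < 3) (hb : b < 3) (hc : c < 3) (hd : d < 3)
    (he : e < 3) (hf : f < 3) (hdet : h26_det9 [1, a, b, 1, c, d, 0, e, f] = 1) :
    ∃ r ∈ h26_rows, r.getD 0 0 = a ∧ r.getD 1 0 = b ∧ r.getD 2 0 = c ∧ r.getD 3 0 = d ∧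
      r.getD 4 0 = e ∧ r.getD 5 0 = f := by
  have hk : a + 3 * b + 9 * c + 27 * d + 81 * e + 243 * f < 729 := by omega
  have h0 : (a + 3 * b + 9 * c + 27 * d + 81 * e + 243 * f) % 3 = a := by omega
  have h1 : (a + 3 * b + 9 * c + 27 * d + 81 * e + 243 * f) / 3 % 3 = b := by omega
  have h2 : (a + 3 * b + 9 * c + 27 * d + 81 * e + 243 * f) / 9 % 3 = c := by omega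
  have h3 : (a + 3 * b + 9 * c + 27 * d + 81 * e + 243 * f) / 27 % 3 = d := by omega
  have h4 : (a + 3 * b + 9 * c + 27 * d + 81 * e + 243 * f) / 81 % 3 = e := by omega
  have h5 : (a + 3 * b + 9 * c + 27 * d + 81 * e + 243 * f) / 243 % 3 = f := by omega
  have h := h26_cover_all _ hk
  unfold h26_coverOK h26_key at h
  simp only [List.getD_cons_zero, List.getD_cons_succ, h0, h1, h2, h3, h4, h5] at h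
  exact h hdet

/-- A right inverse of a matrix of determinant one is its adjugate. -/
theorem h26_adjugate_eq {A B : Matrix (Fin 3) (Fin 3) (ZMod 3)} (hA : A.det = 1) (hAB : A * B = 1) :
    A.adjugate = B := by
  calc A.adjugate = A.adjugate * (A * B) := by rw [hAB, Matrix.mul_one]
    _ = (A.adjugate * A) * B := by rw [Matrix.mul_assoc]
    _ = B := by rw [Matrix.adjugate_mul, hA, one_smul, Matrix.one_mul]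

/-- (Q3a) the table: every matrix over `ZMod 3` of determinant 1 with first column `(1,1,0)` is a product of
two `SL₃`-conjugates of `X3`. -/
theorem q3_table (M : Matrix (Fin 3) (Fin 3) (ZMod 3)) (hdet : M.det = 1)
    (hcol : ∀ i, M i 0 = ![1, 1, 0] i) :
    ∃ u v : SL3 (ZMod 3), M = ((u * X3 * u⁻¹ * (v * X3 * v⁻¹) : SL3 (ZMod 3)) :
      Matrix (Fin 3) (Fin 3) (ZMod 3)) := by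
  have hlt : ∀ z : ZMod 3, z.val < 3 := fun z => ZMod.val_lt z
  have hM : M = h26_toMat [1, (M 0 1).val, (M 0 2).val, 1, (M 1 1).val, (M 1 2).val, 0,
      (M 2 1).val, (M 2 2).val] := by
    ext i j
    have h0 := hcol 0
    have h1 := hcol 1
    have h2 := hcol 2
    fin_cases i <;> fin_cases j <;> simp [h26_toMat, ZMod.natCast_zmod_val] <;> simp_all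
  have hd9 : h26_det9 [1, (M 0 1).val, (M 0 2).val, 1, (M 1 1).val, (M 1 2).val, 0,
      (M 2 1).val, (M 2 2).val] = 1 := by
    rw [hM, h26_det_toMat] at hdet
    have h1 : ((h26_det9 [1, (M 0 1).val, (M 0 2).val, 1, (M 1 1).val, (M 1 2).val, 0,
      (M 2 1).val, (M 2 2).val] : ℕ) : ZMod 3) = ((1 : ℕ) : ZMod 3) := by rw [hdet]; simp
    have h2 := (ZMod.natCast_eq_natCast_iff' _ _ 3).1 h1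
    have h3 : h26_det9 [1, (M 0 1).val, (M 0 2).val, 1, (M 1 1).val, (M 1 2).val, 0,
      (M 2 1).val, (M 2 2).val] % 3 = h26_det9 [1, (M 0 1).val, (M 0 2).val, 1, (M 1 1).val,
      (M 1 2).val, 0, (M 2 1).val, (M 2 2).val] := by
      unfold h26_det9
      exact Nat.mod_mod _ 3
    rw [h3] at h2
    exact h2
  obtain ⟨r, hr, e0, e1, e2, e3, e4, e5⟩ := h26_rows_cover _ _ _ _ _ _ (hlt (M 0 1)) (hlt (M 0 2))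
    (hlt (M 1 1)) (hlt (M 1 2)) (hlt (M 2 1)) (hlt (M 2 2)) hd9
  obtain ⟨hdU, hdV, hUi, hVi, hprod⟩ := h26_rows_ok r hr
  have hUdet : (h26_toMat (h26_U r)).det = 1 := by rw [h26_det_toMat, hdU]; simp
  have hVdet : (h26_toMat (h26_V r)).det = 1 := by rw [h26_det_toMat, hdV]; simp
  have hUinv : (h26_toMat (h26_U r)).adjugate = h26_toMat (h26_Ui r) := by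
    apply h26_adjugate_eq hUdet
    rw [← h26_toMat_mul9, hUi, h26_toMat_one9]
  have hVinv : (h26_toMat (h26_V r)).adjugate = h26_toMat (h26_Vi r) := by
    apply h26_adjugate_eq hVdet
    rw [← h26_toMat_mul9, hVi, h26_toMat_one9]
  refine ⟨⟨h26_toMat (h26_U r), hUdet⟩, ⟨h26_toMat (h26_V r), hVdet⟩, ?_⟩
  simp only [Matrix.SpecialLinearGroup.coe_mul, Matrix.SpecialLinearGroup.coe_inv]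
  change M = h26_toMat (h26_U r) * X3mat * (h26_toMat (h26_U r)).adjugate *
    (h26_toMat (h26_V r) * X3mat * (h26_toMat (h26_V r)).adjugate)
  rw [hUinv, hVinv, ← h26_toMat_X9, ← h26_toMat_mul9, ← h26_toMat_mul9, ← h26_toMat_mul9,
    ← h26_toMat_mul9, ← h26_toMat_mul9, hprod, e0, e1, e2, e3, e4, e5]
  exact hM

end Cfsg.Agent.Helper26.OR
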