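import Mathlib
import Cfsg.Agent.Lib.Helper93.OR0

/-!
# OR3 (SL) sl_conj_of_gl, (SL3) sl_conj_of_gl_three, (C1) two_conj (helper26, helper93's server, S2459)
-/

set_option autoImplicit false

namespace Cfsg.Agent.Helper26.OR

open Matrix Cfsg.Agent.Helper93.OR

local notation "SL3" => Matrix.SpecialLinearGroup (Fin 3)

/-- Conjugating by an `SL₃` element whose matrix is `U`: enough to check after multiplying by `U`. -/
theorem h26_conj_eq {F : Type*} [Field F] (u X : SL3 F) (R : Matrix (Fin 3) (Fin 3) F)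
    (h : R * u.1 = u.1 * X.1) :
    ((u * X * u⁻¹ : SL3 F) : Matrix (Fin 3) (Fin 3) F) = R := by
  have h1 : u.1 * (u⁻¹ : SL3 F).1 = 1 := by
    rw [← Matrix.SpecialLinearGroup.coe_mul, mul_inv_cancel, Matrix.SpecialLinearGroup.coe_one]
  calc ((u * X * u⁻¹ : SL3 F) : Matrix (Fin 3) (Fin 3) F)
      = u.1 * X.1 * (u⁻¹ : SL3 F).1 := by
        rw [Matrix.SpecialLinearGroup.coe_mul, Matrix.SpecialLinearGroup.coe_mul]
    _ = R * u.1 * (u⁻¹ : SL3 F).1 := by rw [h]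
    _ = R := by rw [Matrix.mul_assoc, h1, Matrix.mul_one]

/-- (SL) a `GL₃`-conjugate of a diagonal matrix is an `SL₃`-conjugate. -/
theorem sl_conj_of_gl {F : Type*} [Field F] (X : SL3 F) (β : Fin 3 → F)
    (hX : X.1 = Matrix.diagonal β) (P : GL (Fin 3) F) :
    ∃ u : SL3 F, ((u * X * u⁻¹ : SL3 F) : Matrix (Fin 3) (Fin 3) F)
      = P.1 * X.1 * (P⁻¹ : GL (Fin 3) F).1 := by
  have hdet : P.1.det ≠ 0 := by
    have h := P.isUnit
    have := (Matrix.isUnit_iff_isUnit_det (A := P.1)).1 h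
    exact this.ne_zero
  set Dm : Matrix (Fin 3) (Fin 3) F := Matrix.diagonal ![1, 1, (P.1.det)⁻¹] with hDm
  have hDdet : Dm.det = (P.1.det)⁻¹ := by
    rw [hDm, Matrix.det_diagonal, Fin.prod_univ_three]
    simp
  have hU : (P.1 * Dm).det = 1 := by
    rw [Matrix.det_mul, hDdet, mul_inv_cancel₀ hdet]
  refine ⟨⟨P.1 * Dm, hU⟩, ?_⟩
  apply h26_conj_eq
  have hinv : (P⁻¹ : GL (Fin 3) F).1 * P.1 = 1 := Units.inv_mul P
  have hcomm : X.1 * Dm = Dm * X.1 := by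
    rw [hX, hDm, Matrix.diagonal_mul_diagonal, Matrix.diagonal_mul_diagonal]
    congr 1
    funext i
    exact mul_comm _ _
  change P.1 * X.1 * (P⁻¹ : GL (Fin 3) F).1 * (P.1 * Dm) = P.1 * Dm * X.1
  calc P.1 * X.1 * (P⁻¹ : GL (Fin 3) F).1 * (P.1 * Dm)
      = P.1 * X.1 * ((P⁻¹ : GL (Fin 3) F).1 * P.1) * Dm := by
        simp only [Matrix.mul_assoc]
    _ = P.1 * (X.1 * Dm) := by rw [hinv, Matrix.mul_one, Matrix.mul_assoc]
    _ = P.1 * Dm * X.1 := by rw [hcomm, Matrix.mul_assoc]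

/-- (SL3) over `ZMod 3`, every `GL₃`-conjugate is an `SL₃`-conjugate (use `u = det P • P`). -/
theorem sl_conj_of_gl_three (Y : SL3 (ZMod 3)) (P : GL (Fin 3) (ZMod 3)) :
    ∃ u : SL3 (ZMod 3), ((u * Y * u⁻¹ : SL3 (ZMod 3)) : Matrix (Fin 3) (Fin 3) (ZMod 3))
      = P.1 * Y.1 * (P⁻¹ : GL (Fin 3) (ZMod 3)).1 := by
  have hdet : P.1.det ≠ 0 := by
    have h := P.isUnit
    have := (Matrix.isUnit_iff_isUnit_det (A := P.1)).1 h
    exact this.ne_zero
  have h4 : ∀ c : ZMod 3, c ≠ 0 → c ^ 3 * c = 1 := by decide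
  have hU : ((P.1.det) • P.1).det = 1 := by
    rw [Matrix.det_smul, Fintype.card_fin]
    exact h4 _ hdet
  refine ⟨⟨(P.1.det) • P.1, hU⟩, ?_⟩
  apply h26_conj_eq
  have hinv : (P⁻¹ : GL (Fin 3) (ZMod 3)).1 * P.1 = 1 := Units.inv_mul P
  change P.1 * Y.1 * (P⁻¹ : GL (Fin 3) (ZMod 3)).1 * ((P.1.det) • P.1) = ((P.1.det) • P.1) * Y.1
  rw [Matrix.mul_smul, Matrix.smul_mul, Matrix.mul_assoc (P.1 * Y.1), hinv, Matrix.mul_one]

/-- The `(0,0)` entry of a conjugate, from the first column of `S * T`. -/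
theorem h26_conj00 {F : Type*} [Field F] (S : Matrix (Fin 2) (Fin 2) F) (T : GL (Fin 2) F) (μ : F)
    (h : ∀ k, (S * T.1) k 0 = μ * T.1 k 0 + T.1 k 1) :
    ((T⁻¹ : GL (Fin 2) F).1 * S * T.1) 0 0 = μ := by
  have hinv : (T⁻¹ : GL (Fin 2) F).1 * T.1 = 1 := Units.inv_mul T
  rw [Matrix.mul_assoc, Matrix.mul_apply, Fin.sum_univ_two, h 0, h 1]
  have h00 := congrFun (congrFun hinv 0) 0
  have h01 := congrFun (congrFun hinv 0) 1
  rw [Matrix.mul_apply, Fin.sum_univ_two] at h00 h01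
  simp only [Matrix.one_apply_eq, Matrix.one_apply_ne (show (0 : Fin 2) ≠ 1 by decide)] at h00 h01
  linear_combination μ * h00 + h01

/-- (C1) a non-scalar 2 x 2 matrix is conjugate to one with prescribed (0,0) entry. -/
theorem two_conj {F : Type*} [Field F] (S : Matrix (Fin 2) (Fin 2) F)
    (hS : ∀ c : F, S ≠ c • (1 : Matrix (Fin 2) (Fin 2) F)) (μ : F) :
    ∃ T : GL (Fin 2) F, ((T⁻¹ : GL (Fin 2) F).1 * S * T.1) 0 0 = μ := by
  by_cases hc : S 1 0 ≠ 0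
  · -- w = e0
    have hd : (!![1, S 0 0 - μ; 0, S 1 0] : Matrix (Fin 2) (Fin 2) F).det ≠ 0 := by
      rw [Matrix.det_fin_two_of]; simpa using hc
    refine ⟨Matrix.GeneralLinearGroup.mkOfDetNeZero _ hd, ?_⟩
    apply h26_conj00
    intro k
    fin_cases k <;>
      simp [Matrix.GeneralLinearGroup.mkOfDetNeZero, Matrix.mul_apply, Fin.sum_univ_two]
  push Not at hc
  by_cases hb : S 0 1 ≠ 0
  · -- w = e1
    have hd : (!![0, S 0 1; 1, S 1 1 - μ] : Matrix (Fin 2) (Fin 2) F).det ≠ 0 := by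
      rw [Matrix.det_fin_two_of]; simpa using hb
    refine ⟨Matrix.GeneralLinearGroup.mkOfDetNeZero _ hd, ?_⟩
    apply h26_conj00
    intro k
    fin_cases k <;>
      simp [Matrix.GeneralLinearGroup.mkOfDetNeZero, Matrix.mul_apply, Fin.sum_univ_two]
  push Not at hb
  -- diagonal, non-scalar: w = e0 + e1
  have had : S 0 0 ≠ S 1 1 := by
    intro h
    apply hS (S 0 0)
    ext i j
    fin_cases i <;> fin_cases j <;> simp [hb, hc, h]
  have hd : (!![1, S 0 0 - μ; 1, S 1 1 - μ] : Matrix (Fin 2) (Fin 2) F).det ≠ 0 := by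
    rw [Matrix.det_fin_two_of]
    intro h
    apply had
    linear_combination -h
  refine ⟨Matrix.GeneralLinearGroup.mkOfDetNeZero _ hd, ?_⟩
  apply h26_conj00
  intro k
  fin_cases k <;>
    simp [Matrix.GeneralLinearGroup.mkOfDetNeZero, Matrix.mul_apply, Fin.sum_univ_two, hb, hc]

end Cfsg.Agent.Helper26.OR
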