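import Mathlib
import Cfsg.Agent.Lib.Helper7.K0

set_option autoImplicit false
open scoped Pointwise
open Cfsg

namespace Cfsg.Agent.Helper26

open Cfsg.Agent.Helper7

/-- The setwise stabiliser of a finset in `M24`, as a subgroup of `Perm GolayPt`. -/
abbrev setStabM (o : Finset GolayPt) : Subgroup (Equiv.Perm GolayPt) :=
  M24 ⊓ MulAction.stabilizer (Equiv.Perm GolayPt) o

theorem mem_setStabM {o : Finset GolayPt} {g : Equiv.Perm GolayPt} :
    g ∈ setStabM o ↔ g ∈ M24 ∧ ∀ x, g x ∈ o ↔ x ∈ o := by
  rw [Subgroup.mem_inf, MulAction.mem_stabilizer_finset]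
  rfl

theorem setStabM_map (o : Finset GolayPt) :
    (MulAction.stabilizer ↥M24 o).map M24.subtype = setStabM o := by
  ext g
  rw [Subgroup.mem_map, Subgroup.mem_inf]
  constructor
  · rintro ⟨x, hx, rfl⟩
    refine ⟨x.2, ?_⟩
    rw [MulAction.mem_stabilizer_iff] at hx ⊢
    exact hx
  · rintro ⟨h1, h2⟩
    refine ⟨⟨g, h1⟩, ?_, rfl⟩
    rw [MulAction.mem_stabilizer_iff] at h2 ⊢
    exact h2

theorem card_setStabM_octad {o : Finset GolayPt} (ho : o ∈ octads) :
    Nat.card ↥(setStabM o) = 322560 := by
  rw [← setStabM_map, ← card_stab_octad ho]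
  exact (Nat.card_congr ((MulAction.stabilizer ↥M24 o).equivMapOfInjective _
      M24.subtype_injective).toEquiv).symm

/-- The restriction homomorphism from the setwise stabiliser to the permutations of the set. -/
def resHom (o : Finset GolayPt) : ↥(setStabM o) →* Equiv.Perm ↥o where
  toFun g := (g : Equiv.Perm GolayPt).subtypePerm (mem_setStabM.mp g.2).2
  map_one' := rfl
  map_mul' _ _ := rfl

theorem resHom_apply (o : Finset GolayPt) (g : ↥(setStabM o)) (x : ↥o) :
    ((resHom o g) x : GolayPt) = (g : Equiv.Perm GolayPt) x := rfl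

theorem octFix_le_setStabM (o : Finset GolayPt) : octFix o ≤ setStabM o := by
  intro g hg
  rw [mem_octFix] at hg
  rw [mem_setStabM]
  refine ⟨hg.1, fun x => ?_⟩
  constructor
  · intro h
    have h2 := hg.2 _ h
    have : g x = x := g.injective h2
    rwa [this] at h
  · intro h
    rw [hg.2 _ h]; exact h

theorem resHom_ker (o : Finset GolayPt) :
    (resHom o).ker = (octFix o).subgroupOf (setStabM o) := by
  ext g
  rw [MonoidHom.mem_ker, Subgroup.mem_subgroupOf, mem_octFix]
  constructor
  · intro h
    refine ⟨(mem_setStabM.mp g.2).1, fun p hp => ?_⟩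
    have := congrArg (fun e : Equiv.Perm ↥o => ((e ⟨p, hp⟩ : ↥o) : GolayPt)) h
    simpa [resHom_apply] using this
  · rintro ⟨_, h⟩
    apply Equiv.ext
    intro x
    apply Subtype.ext
    rw [resHom_apply]
    exact h x.1 x.2

theorem card_resHom_ker {o : Finset GolayPt} (ho : o ∈ octads) :
    Nat.card ↥(resHom o).ker = 16 := by
  rw [resHom_ker, ← (octFix_spec ho).1]
  exact Nat.card_congr (Subgroup.subgroupOfEquivOfLe (octFix_le_setStabM o)).toEquiv

theorem card_resHom_range {o : Finset GolayPt} (ho : o ∈ octads) :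
    Nat.card ↥(resHom o).range = 20160 := by
  have h1 := Subgroup.card_eq_card_quotient_mul_card_subgroup (resHom o).ker
  rw [card_setStabM_octad ho, card_resHom_ker ho,
    Nat.card_congr (QuotientGroup.quotientKerEquivRange (resHom o)).toEquiv] at h1
  omega

theorem card_of_mem_octads {o : Finset GolayPt} (ho : o ∈ octads) : o.card = 8 := ho.2

theorem resHom_range_eq {o : Finset GolayPt} (ho : o ∈ octads) :
    (resHom o).range = alternatingGroup ↥o := by
  apply Equiv.Perm.eq_alternatingGroup_of_index_eq_two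
  have h1 := Subgroup.card_mul_index (resHom o).range
  rw [card_resHom_range ho, Nat.card_perm, Nat.card_eq_fintype_card, Fintype.card_coe,
    card_of_mem_octads ho] at h1
  have : Nat.factorial 8 = 40320 := by decide
  rw [this] at h1
  omega

end Cfsg.Agent.Helper26
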