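import Mathlib
import Cfsg.Agent.Lib.Helper26.OctadStab

set_option autoImplicit false
open scoped Pointwise
open Cfsg

namespace Cfsg.Agent.Helper26

open Cfsg.Agent.Helper7

theorem k0_trans_base {q : GolayPt} (hq : q ∉ O0) : ∃ σ ∈ octFix O0, σ (pt 4) = q := by
  rw [mem_ofMask] at hq
  obtain ⟨l, hl, hl4⟩ := k0_targets (idx q) (idx_lt _) (by simpa using hq)
  obtain ⟨σ, hσ, ht, _⟩ := goodTabs_k0 l hl
  exact ⟨σ, hσ, by rw [ht.apply 4 (by norm_num), hl4, pt_idx]⟩

theorem k0_semiregular {g : Equiv.Perm GolayPt} (hg : g ∈ octFix O0) {q : GolayPt} (hq : q ∉ O0)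
    (h : g q = q) : g = 1 := by
  obtain ⟨σ, hσ, rfl⟩ := k0_trans_base hq
  have : σ⁻¹ * g * σ ∈ stabIn (octFix O0) (pt 4) := by
    rw [mem_stabIn]
    refine ⟨Subgroup.mul_mem _ (Subgroup.mul_mem _ (Subgroup.inv_mem _ hσ) hg) hσ, ?_⟩
    simp only [Equiv.Perm.mul_apply]
    rw [h]
    simp
  rw [k0_stab_eq_bot, Subgroup.mem_bot] at this
  have h2 : g = σ * (σ⁻¹ * g * σ) * σ⁻¹ := by group
  rw [h2, this]
  group

theorem k0_trans {q q' : GolayPt} (hq : q ∉ O0) (hq' : q' ∉ O0) : ∃ σ ∈ octFix O0, σ q = q' := by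
  obtain ⟨σ, hσ, rfl⟩ := k0_trans_base hq
  obtain ⟨τ, hτ, rfl⟩ := k0_trans_base hq'
  refine ⟨τ * σ⁻¹, Subgroup.mul_mem _ hτ (Subgroup.inv_mem _ hσ), ?_⟩
  simp

theorem not_mem_smul_iff (h : Equiv.Perm GolayPt) (o : Finset GolayPt) (p : GolayPt) :
    p ∈ h • o ↔ h⁻¹ p ∈ o := by
  rw [← Finset.inv_smul_mem_iff]
  rfl

/-- The pointwise stabiliser of an octad acts semiregularly on the complement. -/
theorem octFix_semiregular {o : Finset GolayPt} (ho : o ∈ octads) {g : Equiv.Perm GolayPt}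
    (hg : g ∈ octFix o) {p : GolayPt} (hp : p ∉ o) (h : g p = p) : g = 1 := by
  obtain ⟨t, ht, rfl⟩ := octad_trans O0_mem ho
  rw [← octFix_conj O0 ht, Subgroup.mem_map] at hg
  obtain ⟨x, hx, rfl⟩ := hg
  rw [not_mem_smul_iff] at hp
  have hx1 : x = 1 := by
    apply k0_semiregular hx hp
    have : (t * x * t⁻¹) p = p := h
    simp only [Equiv.Perm.mul_apply] at this
    apply t.injective
    rw [this]
    simp
  rw [hx1, map_one]

/-- The pointwise stabiliser of an octad acts transitively on the complement. -/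
theorem octFix_trans {o : Finset GolayPt} (ho : o ∈ octads) {p p' : GolayPt} (hp : p ∉ o)
    (hp' : p' ∉ o) : ∃ k ∈ octFix o, k p = p' := by
  obtain ⟨t, ht, rfl⟩ := octad_trans O0_mem ho
  rw [not_mem_smul_iff] at hp hp'
  obtain ⟨σ, hσ, h⟩ := k0_trans hp hp'
  refine ⟨t * σ * t⁻¹, ?_, ?_⟩
  · rw [← octFix_conj O0 ht, Subgroup.mem_map]
    exact ⟨σ, hσ, rfl⟩
  · simp only [Equiv.Perm.mul_apply]
    rw [h]
    simp

/-- The joint stabiliser of a finset and a point in `M24`. -/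
abbrev flagStabM (o : Finset GolayPt) (p : GolayPt) : Subgroup (Equiv.Perm GolayPt) :=
  M24 ⊓ MulAction.stabilizer (Equiv.Perm GolayPt) o ⊓ MulAction.stabilizer (Equiv.Perm GolayPt) p

theorem mem_flagStabM {o : Finset GolayPt} {p : GolayPt} {g : Equiv.Perm GolayPt} :
    g ∈ flagStabM o p ↔ g ∈ setStabM o ∧ g p = p := by
  rw [Subgroup.mem_inf, MulAction.mem_stabilizer_iff]
  rfl

theorem octFix_inf_flagStabM {o : Finset GolayPt} (ho : o ∈ octads) {p : GolayPt} (hp : p ∉ o) :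
    octFix o ⊓ flagStabM o p = ⊥ := by
  rw [eq_bot_iff]
  intro g hg
  rw [Subgroup.mem_inf, mem_flagStabM] at hg
  rw [Subgroup.mem_bot]
  exact octFix_semiregular ho hg.1 hp hg.2.2

theorem exists_mul_of_mem_setStabM {o : Finset GolayPt} (ho : o ∈ octads) {p : GolayPt}
    (hp : p ∉ o) {s : Equiv.Perm GolayPt} (hs : s ∈ setStabM o) :
    ∃ k ∈ octFix o, ∃ t ∈ flagStabM o p, s = k * t := by
  have hsp : s p ∉ o := by
    intro h
    exact hp (((mem_setStabM.mp hs).2 p).mp h)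
  obtain ⟨k, hk, hkp⟩ := octFix_trans ho hp hsp
  refine ⟨k, hk, k⁻¹ * s, ?_, by group⟩
  rw [mem_flagStabM]
  refine ⟨Subgroup.mul_mem _ (Subgroup.inv_mem _ (octFix_le_setStabM o hk)) hs, ?_⟩
  rw [Equiv.Perm.mul_apply, ← hkp]
  simp

theorem octFix_sup_flagStabM {o : Finset GolayPt} (ho : o ∈ octads) {p : GolayPt} (hp : p ∉ o) :
    octFix o ⊔ flagStabM o p = setStabM o := by
  apply le_antisymm
  · apply sup_le (octFix_le_setStabM o)
    exact inf_le_left
  · intro s hs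
    obtain ⟨k, hk, t, ht, rfl⟩ := exists_mul_of_mem_setStabM ho hp hs
    exact Subgroup.mul_mem _ (Subgroup.mem_sup_left hk) (Subgroup.mem_sup_right ht)

theorem flagStabM_le (o : Finset GolayPt) (p : GolayPt) : flagStabM o p ≤ setStabM o := inf_le_left

/-- Restriction to the octad, on the flag stabiliser. -/
def flagRes (o : Finset GolayPt) (p : GolayPt) : ↥(flagStabM o p) →* Equiv.Perm ↥o :=
  (resHom o).comp (Subgroup.inclusion (flagStabM_le o p))

theorem flagRes_injective {o : Finset GolayPt} (ho : o ∈ octads) {p : GolayPt} (hp : p ∉ o) :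
    Function.Injective (flagRes o p) := by
  rw [injective_iff_map_eq_one]
  intro g hg
  have h1 : Subgroup.inclusion (flagStabM_le o p) g ∈ (resHom o).ker := hg
  rw [resHom_ker, Subgroup.mem_subgroupOf] at h1
  have h2 : (g : Equiv.Perm GolayPt) ∈ octFix o ⊓ flagStabM o p := ⟨h1, g.2⟩
  rw [octFix_inf_flagStabM ho hp, Subgroup.mem_bot] at h2
  exact Subtype.ext h2

theorem flagRes_range {o : Finset GolayPt} (ho : o ∈ octads) {p : GolayPt} (hp : p ∉ o) :
    (flagRes o p).range = alternatingGroup ↥o := by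
  rw [← resHom_range_eq ho]
  apply le_antisymm
  · rintro _ ⟨g, rfl⟩
    exact ⟨_, rfl⟩
  · rintro _ ⟨s, rfl⟩
    obtain ⟨k, hk, t, ht, hs⟩ := exists_mul_of_mem_setStabM ho hp s.2
    refine ⟨⟨t, ht⟩, ?_⟩
    have hk' : (⟨k, octFix_le_setStabM o hk⟩ : ↥(setStabM o)) ∈ (resHom o).ker := by
      rw [resHom_ker, Subgroup.mem_subgroupOf]
      exact hk
    have : s = ⟨k, octFix_le_setStabM o hk⟩ * Subgroup.inclusion (flagStabM_le o p) ⟨t, ht⟩ :=
      Subtype.ext hs
    rw [this, map_mul, MonoidHom.mem_ker.mp hk', one_mul]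
    rfl

theorem flagStabM_equiv {o : Finset GolayPt} (ho : o ∈ octads) {p : GolayPt} (hp : p ∉ o) :
    Nonempty (↥(flagStabM o p) ≃* alternatingGroup (Fin 8)) := by
  have e1 : ↥(flagStabM o p) ≃* ↥(flagRes o p).range :=
    MonoidHom.ofInjective (flagRes_injective ho hp)
  have e2 : ↥(flagRes o p).range ≃* ↥(alternatingGroup ↥o) :=
    MulEquiv.subgroupCongr (flagRes_range ho hp)
  have e3 : ↥o ≃ Fin 8 := Fintype.equivFinOfCardEq (by
    rw [Fintype.card_coe]; exact card_of_mem_octads ho)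
  exact ⟨(e1.trans e2).trans (Equiv.altCongrHom e3)⟩

end Cfsg.Agent.Helper26
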