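import Mathlib
import Cfsg.Prelude.Def_FusionSystem
import Cfsg.Agent.Lib.Helper87.Om7Defs
import Cfsg.Agent.Lib.Helper19.Om7C4a

/-!
# OM7 (C4) `fusion` for helper87's lemma server (row S2647), second seat (helper26)

`D 0 1 = r_{f 0} r_{f 1}` is `Ω`-conjugate to `W a b p q = r_{f a - f b} r_{f p - f q}`:
Witt (`Helper14.Witt.witt_aux`) gives an isometry `g₀` with `g₀ (f 0) = (u + v) / 2`,
`g₀ (f 1) = (v - u) / 2` (`u = f a - f b`, `v = f p - f q`), so `g₀ D01 g₀⁻¹ = r_{u'} r_{v'} = W`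
by (C4a); then `adjust_odd` corrects `g₀` inside the centraliser of `W` into `Ω`.
-/

set_option autoImplicit false
set_option linter.unusedSectionVars false

namespace Cfsg.Agent.Helper26.Om7

open Matrix QuadraticMap Cfsg.Agent.Helper36.QuadInv Cfsg.Agent.Helper36.OmegaTrans
  Cfsg.Agent.Helper43 Cfsg.Agent.Helper87.Om7

variable {F : Type*} [Field F] [Fintype F] [DecidableEq F] {ι : Type} [Fintype ι] [DecidableEq ι]
variable {Q : QuadraticForm F (ι → F)} {c : F} {f : Fin 7 → ι → F}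

theorem c4_Q_act (g : OG F ⇑Q) (v : ι → F) : Q (actHom (⇑Q) g v) = Q v := Q_act g v

theorem c4_polar_act (g : OG F ⇑Q) (u v : ι → F) :
    polar Q (actHom (⇑Q) g u) (actHom (⇑Q) g v) = polar Q u v := by
  unfold polar
  rw [← map_add, c4_Q_act, c4_Q_act, c4_Q_act]

theorem c4_act_refl' {v : ι → F} (hv : Q v ≠ 0) (x : ι → F) :
    actHom (⇑Q) (reflIso' Q v) x = x - ((Q v)⁻¹ * polar Q v x) • v := by
  rw [reflIso'_of_ne Q hv, act_reflIso]

theorem c4_act_act_inv (g : OG F ⇑Q) (v : ι → F) :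
    actHom (⇑Q) g (actHom (⇑Q) g⁻¹ v) = v := by
  rw [← act_mul, mul_inv_cancel, act_one]

theorem c4_conj_refl (g : OG F ⇑Q) {v : ι → F} (hv : Q v ≠ 0) :
    g * reflIso' Q v * g⁻¹ = reflIso' Q (actHom (⇑Q) g v) := by
  have hv' : Q (actHom (⇑Q) g v) ≠ 0 := by rw [c4_Q_act]; exact hv
  apply act_ext
  intro x
  rw [act_mul, act_mul, c4_act_refl' hv, c4_act_refl' hv', map_sub, map_smul, c4_act_act_inv,
    c4_Q_act]
  congr 3
  conv_rhs => rw [← c4_act_act_inv g x]
  rw [c4_polar_act]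

theorem c4_Q_sub (x y : ι → F) : Q (x - y) = Q x + Q y - polar Q x y := by
  rw [sub_eq_add_neg, QuadraticMap.map_add Q, QuadraticMap.map_neg, polar_neg_right]
  ring

theorem c4_Q_comb (α β : F) (x y : ι → F) :
    Q (α • x + β • y) = α * α * Q x + β * β * Q y + α * β * polar Q x y := by
  rw [QuadraticMap.map_add Q, QuadraticMap.map_smul, QuadraticMap.map_smul, polar_smul_left,
    polar_smul_right]
  simp only [smul_eq_mul]
  ring

theorem c4_comm_refl {z u : ι → F} (hz : Q z ≠ 0) (hu : Q u ≠ 0) (h : polar Q z u = 0) :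
    reflIso' Q z * reflIso' Q u * (reflIso' Q z)⁻¹ = reflIso' Q u := by
  rw [c4_conj_refl _ hu, c4_act_refl' hz, h, mul_zero, zero_smul, sub_zero]

theorem c4_polar_frame (hF : Frame Q c f) (i j : Fin 7) :
    polar Q (f i) (f j) = if i = j then 2 * c else 0 := by
  split_ifs with h
  · subst h; rw [polar_self, hF.norm, two_smul, two_mul]
  · exact hF.orth i j h

theorem c4_exists_two (a b p q : Fin 7) :
    ∃ k l : Fin 7, k ≠ l ∧ k ≠ a ∧ k ≠ b ∧ k ≠ p ∧ k ≠ q ∧ l ≠ a ∧ l ≠ b ∧ l ≠ p ∧ l ≠ q := by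
  have h1 : (({a, b, p, q} : Finset (Fin 7))).card ≤ 4 := Finset.card_le_four
  have h2 : (Finset.univ \ ({a, b, p, q} : Finset (Fin 7))).card = 7 - ({a, b, p, q} : Finset (Fin 7)).card := by
    rw [Finset.card_univ_sdiff]; simp
  have h3 : 1 < (Finset.univ \ ({a, b, p, q} : Finset (Fin 7))).card := by omega
  obtain ⟨k, hk, l, hl, hkl⟩ := Finset.one_lt_card.mp h3
  simp only [Finset.mem_sdiff, Finset.mem_univ, true_and, Finset.mem_insert, Finset.mem_singleton,
    not_or] at hk hl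
  exact ⟨k, l, hkl, hk.1, hk.2.1, hk.2.2.1, hk.2.2.2, hl.1, hl.2.1, hl.2.2.1, hl.2.2.2⟩

theorem fusion (hF : Frame Q c f) (h2 : ¬ IsSquare (2 : F)) {a b p q : Fin 7} (hab : a ≠ b)
    (hpq : p ≠ q) (hap : a ≠ p) (haq : a ≠ q) (hbp : b ≠ p) (hbq : b ≠ q) :
    ∃ g, g ∈ Cfsg.Omega F ⇑Q ∧ g * D Q f 0 1 * g⁻¹ = W Q f a b p q := by
  classical
  have h20 : (2 : F) ≠ 0 := hF.two
  have hc : c ≠ 0 := hF.c0
  have hQ := hF.nd
  have h2c : (2 : F) * c ≠ 0 := mul_ne_zero h20 hc
  have hpol := c4_polar_frame hF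
  -- the vectors
  set u : ι → F := f a - f b with hu
  set v : ι → F := f p - f q with hv
  have hQu : Q u = 2 * c := by
    rw [hu, c4_Q_sub, hF.norm, hF.norm, hF.orth a b hab]; ring
  have hQv : Q v = 2 * c := by
    rw [hv, c4_Q_sub, hF.norm, hF.norm, hF.orth p q hpq]; ring
  have huv : polar Q u v = 0 := by
    rw [hu, hv, polar_sub_left, polar_sub_right, polar_sub_right, hF.orth a p hap, hF.orth a q haq,
      hF.orth b p hbp, hF.orth b q hbq]; ring
  have hvu : polar Q v u = 0 := by rw [polar_comm]; exact huv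
  have huu : polar Q u u = 2 * (2 * c) := by rw [polar_self, hQu, two_smul]; ring
  have hvv : polar Q v v = 2 * (2 * c) := by rw [polar_self, hQv, two_smul]; ring
  set u' : ι → F := (2 : F)⁻¹ • u + (2 : F)⁻¹ • v with hu'
  set v' : ι → F := (-(2 : F)⁻¹) • u + (2 : F)⁻¹ • v with hv'
  have hQu' : Q u' = c := by
    rw [hu', c4_Q_comb, hQu, hQv, huv]; field_simp; ring
  have hQv' : Q v' = c := by
    rw [hv', c4_Q_comb, hQu, hQv, huv]; field_simp; ring
  have hu'v' : polar Q u' v' = 0 := by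
    rw [hu', hv']
    simp only [polar_add_left, polar_add_right, polar_smul_left, polar_smul_right, huv, hvu, huu,
      hvv, smul_eq_mul]
    ring
  have hv'u' : polar Q v' u' = 0 := by rw [polar_comm]; exact hu'v'
  have hu'u' : polar Q u' u' = 2 * c := by rw [polar_self, hQu', two_smul]; ring
  have hv'v' : polar Q v' v' = 2 * c := by rw [polar_self, hQv', two_smul]; ring
  have hhalf : (2 : F)⁻¹ + (2 : F)⁻¹ = 1 := by field_simp; norm_num
  have hu_eq : u = u' - v' := by
    rw [hu', hv']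
    calc u = ((2 : F)⁻¹ + (2 : F)⁻¹) • u := by rw [hhalf, one_smul]
      _ = _ := by module
  have hv_eq : v = u' + v' := by
    rw [hu', hv']
    calc v = ((2 : F)⁻¹ + (2 : F)⁻¹) • v := by rw [hhalf, one_smul]
      _ = _ := by module
  have hspan : Submodule.span F {u', v'} = Submodule.span F {u, v} := by
    apply le_antisymm
    · rw [Submodule.span_le]
      intro x hx
      simp only [Set.mem_insert_iff, Set.mem_singleton_iff] at hx
      rcases hx with rfl | rfl
      · exact Submodule.add_mem _ (Submodule.smul_mem _ _ (Submodule.subset_span (by simp)))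
          (Submodule.smul_mem _ _ (Submodule.subset_span (by simp)))
      · exact Submodule.add_mem _ (Submodule.smul_mem _ _ (Submodule.subset_span (by simp)))
          (Submodule.smul_mem _ _ (Submodule.subset_span (by simp)))
    · rw [Submodule.span_le]
      intro x hx
      simp only [Set.mem_insert_iff, Set.mem_singleton_iff] at hx
      rcases hx with rfl | rfl
      · rw [hu_eq]
        exact Submodule.sub_mem _ (Submodule.subset_span (by simp)) (Submodule.subset_span (by simp))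
      · rw [hv_eq]
        exact Submodule.add_mem _ (Submodule.subset_span (by simp)) (Submodule.subset_span (by simp))
  -- the linear map
  let T : (ι → F) →ₗ[F] (ι → F) :=
    (((2 * c)⁻¹ : F) • (polarBilin Q (f 0))).smulRight u' +
      (((2 * c)⁻¹ : F) • (polarBilin Q (f 1))).smulRight v'
  have hT : ∀ x, T x = ((2 * c)⁻¹ * polar Q (f 0) x) • u' + ((2 * c)⁻¹ * polar Q (f 1) x) • v' := by
    intro x
    simp only [T, LinearMap.add_apply, LinearMap.smulRight_apply, LinearMap.smul_apply,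
      polarBilin_apply_apply, smul_eq_mul]
  have h01 : (0 : Fin 7) ≠ 1 := by decide
  have hTcomb : ∀ α β : F, T (α • f 0 + β • f 1) = α • u' + β • v' := by
    intro α β
    rw [hT, polar_add_right, polar_add_right, polar_smul_right, polar_smul_right,
      polar_smul_right, polar_smul_right, hpol 0 0, hpol 0 1, hpol 1 0, hpol 1 1]
    simp only [if_true, if_neg h01, if_neg h01.symm, smul_eq_mul, mul_zero, add_zero, zero_add]
    congr 1
    · congr 1; field_simp
    · congr 1; field_simp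
  set U : Submodule F (ι → F) := Submodule.span F {f 0, f 1} with hU
  have hmemU : ∀ x ∈ U, ∃ α β : F, α • f 0 + β • f 1 = x := fun x hx =>
    Submodule.mem_span_pair.mp hx
  have hzero : ∀ α β : F, α • u' + β • v' = 0 → α = 0 ∧ β = 0 := by
    intro α β h
    have h1 : polar Q u' (α • u' + β • v') = 0 := by rw [h]; simp
    have h2' : polar Q v' (α • u' + β • v') = 0 := by rw [h]; simp
    rw [polar_add_right, polar_smul_right, polar_smul_right, hu'u', hu'v', smul_eq_mul,
      smul_eq_mul, mul_zero, add_zero] at h1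
    rw [polar_add_right, polar_smul_right, polar_smul_right, hv'v', hv'u', smul_eq_mul,
      smul_eq_mul, mul_zero, zero_add] at h2'
    exact ⟨(mul_eq_zero.mp h1).resolve_right h2c, (mul_eq_zero.mp h2').resolve_right h2c⟩
  have hinj : Function.Injective (T.domRestrict U) := by
    rw [← LinearMap.ker_eq_bot, LinearMap.ker_eq_bot']
    intro x hx
    obtain ⟨α, β, hαβ⟩ := hmemU x.1 x.2
    rw [LinearMap.domRestrict_apply, ← hαβ, hTcomb] at hx
    obtain ⟨rfl, rfl⟩ := hzero α β hx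
    apply Subtype.ext
    rw [← hαβ]; simp
  have hiso : ∀ x : U, Q ((T.domRestrict U) x) = Q (x : ι → F) := by
    intro x
    obtain ⟨α, β, hαβ⟩ := hmemU x.1 x.2
    rw [LinearMap.domRestrict_apply, ← hαβ, hTcomb, c4_Q_comb α β u' v',
      c4_Q_comb α β (f 0) (f 1), hQu', hQv', hu'v', hF.norm, hF.norm, hF.orth 0 1 h01]
  obtain ⟨E, hE, hEU⟩ := Cfsg.Agent.Helper14.Witt.witt_aux Q hQ _ U rfl (T.domRestrict U) hinj hiso
  set g₀ : OG F ⇑Q := mkO E hE with hg₀
  have hg0f0 : actHom (⇑Q) g₀ (f 0) = u' := by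
    rw [hg₀, actHom_mkO]
    have := hEU ⟨f 0, Submodule.subset_span (by simp)⟩
    rw [LinearMap.domRestrict_apply] at this
    rw [this]
    have := hTcomb 1 0
    simpa using this
  have hg0f1 : actHom (⇑Q) g₀ (f 1) = v' := by
    rw [hg₀, actHom_mkO]
    have := hEU ⟨f 1, Submodule.subset_span (by simp)⟩
    rw [LinearMap.domRestrict_apply] at this
    rw [this]
    have := hTcomb 0 1
    simpa using this
  have hQf : ∀ i, Q (f i) ≠ 0 := fun i => by rw [hF.norm]; exact hc
  have hQu0 : Q u ≠ 0 := by rw [hQu]; exact h2c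
  have hQv0 : Q v ≠ 0 := by rw [hQv]; exact h2c
  have hQu'0 : Q u' ≠ 0 := by rw [hQu']; exact hc
  have hQv'0 : Q v' ≠ 0 := by rw [hQv']; exact hc
  have hconj0 : g₀ * D Q f 0 1 * g₀⁻¹ = W Q f a b p q := by
    have : g₀ * D Q f 0 1 * g₀⁻¹ =
        (g₀ * reflIso' Q (f 0) * g₀⁻¹) * (g₀ * reflIso' Q (f 1) * g₀⁻¹) := by
      unfold D; group
    rw [this, c4_conj_refl _ (hQf 0), c4_conj_refl _ (hQf 1), hg0f0, hg0f1]
    unfold W
    exact Cfsg.Agent.Helper19.Om7.refl_pair_eq h20 hQ hQu'0 hQv'0 hQu0 hQv0 hu'v' huv hspan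
  obtain ⟨k, l, hkl, hka, hkb, hkp, hkq, hla, hlb, hlp, hlq⟩ := c4_exists_two a b p q
  have hku : polar Q (f k) u = 0 := by
    rw [hu, polar_sub_right, hF.orth k a hka, hF.orth k b hkb, sub_zero]
  have hkv : polar Q (f k) v = 0 := by
    rw [hv, polar_sub_right, hF.orth k p hkp, hF.orth k q hkq, sub_zero]
  have hlu : polar Q (f l) u = 0 := by
    rw [hu, polar_sub_right, hF.orth l a hla, hF.orth l b hlb, sub_zero]
  have hlv : polar Q (f l) v = 0 := by
    rw [hv, polar_sub_right, hF.orth l p hlp, hF.orth l q hlq, sub_zero]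
  set w : ι → F := f k - f l with hw
  have hQw : Q w = 2 * c := by
    rw [hw, c4_Q_sub, hF.norm, hF.norm, hF.orth k l hkl]; ring
  have hwu : polar Q w u = 0 := by rw [hw, polar_sub_left, hku, hlu, sub_zero]
  have hwv : polar Q w v = 0 := by rw [hw, polar_sub_left, hkv, hlv, sub_zero]
  have hQw0 : Q w ≠ 0 := by rw [hQw]; exact h2c
  let P : OG F ⇑Q → Prop := fun s => s * W Q f a b p q * s⁻¹ = W Q f a b p q
  have hP1 : P 1 := by simp [P]
  have hPmul : ∀ g h, P g → P h → P (g * h) := by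
    intro g h hg hh
    show g * h * W Q f a b p q * (g * h)⁻¹ = _
    have : g * h * W Q f a b p q * (g * h)⁻¹ = g * (h * W Q f a b p q * h⁻¹) * g⁻¹ := by group
    rw [this, hh, hg]
  have hPrefl : ∀ z : ι → F, Q z ≠ 0 → polar Q z u = 0 → polar Q z v = 0 →
      P (reflIso' Q z) := by
    intro z hz hzu hzv
    show reflIso' Q z * W Q f a b p q * (reflIso' Q z)⁻¹ = _
    unfold W
    have : reflIso' Q z * (reflIso' Q u * reflIso' Q v) * (reflIso' Q z)⁻¹ =
        (reflIso' Q z * reflIso' Q u * (reflIso' Q z)⁻¹) *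
          (reflIso' Q z * reflIso' Q v * (reflIso' Q z)⁻¹) := by group
    rw [this, c4_comm_refl hz hQu0 hzu, c4_comm_refl hz hQv0 hzv]
  have hns : ¬ IsSquare (Q (f k) * Q w) := by
    rw [hF.norm, hQw]
    rintro ⟨r, hr⟩
    apply h2
    refine ⟨r / c, ?_⟩
    field_simp
    linear_combination hr
  obtain ⟨s, hPs, hs⟩ := adjust_odd Q h20 hQ P hP1 hPmul (hQf k) (hQf k) hQw0
    (by rw [← reflIso'_of_ne]; exact hPrefl _ (hQf k) hku hkv)
    (by
      rw [← reflIso'_of_ne, ← reflIso'_of_ne]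
      exact hPmul _ _ (hPrefl _ (hQf k) hku hkv) (hPrefl _ hQw0 hwu hwv)) hns g₀
  refine ⟨s * g₀, hs, ?_⟩
  have : s * g₀ * D Q f 0 1 * (s * g₀)⁻¹ = s * (g₀ * D Q f 0 1 * g₀⁻¹) * s⁻¹ := by group
  rw [this, hconj0]
  exact hPs

end Cfsg.Agent.Helper26.Om7
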