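import Mathlib
import Cfsg.Prelude.Def_SporadicCombinatorics
import Cfsg.Agent.Lib.Helper27.Orbit

set_option autoImplicit false
open scoped Pointwise
open Cfsg

namespace Cfsg.Agent.Helper26

open Cfsg.Agent.Helper27

/-- The family of subsets encoded by a list of masks. -/
def toQ (c : List ℕ) : Finset (Finset GolayPt) := (c.map toFinset).toFinset

theorem mem_toQ {c : List ℕ} {t : Finset GolayPt} : t ∈ toQ c ↔ ∃ m ∈ c, toFinset m = t := by
  unfold toQ
  rw [List.mem_toFinset, List.mem_map]

/-- The intersection pattern of a family `X` relative to a family `Q`. -/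
def pat (Q X : Finset (Finset GolayPt)) : ℕ := ∑ x ∈ X, ∑ q ∈ Q, 10 ^ (x ∩ q).card

theorem pat_smul (g : Equiv.Perm GolayPt) (Q X : Finset (Finset GolayPt)) :
    pat (g • Q) (g • X) = pat Q X := by
  unfold pat
  have hinj : Function.Injective (fun s : Finset GolayPt => g • s) := MulAction.injective g
  change ∑ x ∈ X.image (fun s => g • s), ∑ q ∈ Q.image (fun s => g • s), _ = _
  rw [Finset.sum_image (fun a _ b _ e => hinj e)]
  apply Finset.sum_congr rfl
  intro x _
  rw [Finset.sum_image (fun a _ b _ e => hinj e)]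
  apply Finset.sum_congr rfl
  intro q _
  rw [← Finset.smul_finset_inter, Finset.card_smul_finset]

/-- Mask-level intersection pattern. -/
def patL (q x : List ℕ) : ℕ := (x.map fun a => (q.map fun b => 10 ^ pop (a &&& b)).sum).sum

theorem pat_toQ {q x : List ℕ} (hq : (q.map toFinset).Nodup) (hx : (x.map toFinset).Nodup) :
    pat (toQ q) (toQ x) = patL q x := by
  unfold pat patL toQ
  rw [List.sum_toFinset _ hx, List.map_map]
  congr 1
  apply List.map_congr_left
  intro a _
  simp only [Function.comp]
  rw [List.sum_toFinset _ hq, List.map_map]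
  congr 1
  apply List.map_congr_left
  intro b _
  simp only [Function.comp]
  rw [← toFinset_and, card_toFinset]

theorem nodup_map_toFinset {L : List ℕ} (hnd : L.Nodup) (hlt : ∀ m ∈ L, m < 2 ^ 24) :
    (L.map toFinset).Nodup := by
  refine (List.nodup_map_iff_inj_on hnd).mpr ?_
  intro a ha b hb hab
  exact toFinset_inj (hlt a ha) (hlt b hb) hab

theorem card_toQ {L : List ℕ} (hnd : L.Nodup) (hlt : ∀ m ∈ L, m < 2 ^ 24) :
    (toQ L).card = L.length := by
  unfold toQ
  rw [List.toFinset_card_of_nodup (nodup_map_toFinset hnd hlt), List.length_map]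

/-! ### Certificates relative to an arbitrary subgroup -/

/-- All generators are valid tables of elements of `H`. -/
def GensIn (H : Subgroup (Equiv.Perm GolayPt)) (gens : List (ℕ × ℕ)) : Prop :=
  ∀ g ∈ gens, checkInv g.1 g.2 = true ∧ permOf g ∈ H

/-- The state `x` is the image of the state `x0` under an element of `H`. -/
def ReachH (H : Subgroup (Equiv.Perm GolayPt)) (x0 x : List ℕ) : Prop :=
  ∃ g ∈ H, x.map toFinset = x0.map (fun m => g • toFinset m)

theorem reachH_refl (H : Subgroup (Equiv.Perm GolayPt)) (x0 : List ℕ) : ReachH H x0 x0 :=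
  ⟨1, H.one_mem, by simp⟩

theorem reachH_act {H : Subgroup (Equiv.Perm GolayPt)} {x0 x : List ℕ} {g : ℕ × ℕ}
    (h0 : checkInv g.1 g.2 = true) (hg : permOf g ∈ H)
    (h : ReachH H x0 x) : ReachH H x0 (actState g x) := by
  obtain ⟨a, ha, hx⟩ := h
  refine ⟨permOf g * a, H.mul_mem hg ha, ?_⟩
  unfold actState
  rw [List.map_map]
  have : (toFinset ∘ permMask g.2) = (fun s => permOf g • s) ∘ toFinset := by
    funext m
    simp only [Function.comp, toFinset_permMask' h0]
  rw [this, ← List.map_map, hx, List.map_map]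
  apply List.map_congr_left
  intro m _
  simp only [Function.comp, mul_smul]

theorem reachH_word {H : Subgroup (Equiv.Perm GolayPt)} {gens : List (ℕ × ℕ)}
    (hgens : GensIn H gens) (w : List ℕ) {x0 x : List ℕ} (h : ReachH H x0 x) :
    ReachH H x0 (applyWord gens w x) := by
  induction w generalizing x with
  | nil => exact h
  | cons i w ih =>
    rw [applyWord]
    cases hi : gens[i]? with
    | none => exact ih h
    | some g =>
      have := hgens g (List.mem_of_getElem? hi)
      exact ih (reachH_act this.1 this.2 h)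

/-- Certificate check with a general acceptance predicate: for each item `a` of the list with its
word `w`, the word maps the state `start a` to a state accepted by `ok a`. -/
def certCheckP (gens : List (ℕ × ℕ)) (ok : ℕ → List ℕ → Bool) (start : ℕ → List ℕ) :
    List ℕ → List (List ℕ) → Bool
  | [], [] => true
  | a :: L, w :: W => ok a (applyWord gens w (start a)) && certCheckP gens ok start L W
  | _, _ => false

theorem certCheckP_spec {H : Subgroup (Equiv.Perm GolayPt)} {gens : List (ℕ × ℕ)}
    (hgens : GensIn H gens) (ok : ℕ → List ℕ → Bool) (start : ℕ → List ℕ) :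
    ∀ (L : List ℕ) (W : List (List ℕ)), certCheckP gens ok start L W = true →
      ∀ a ∈ L, ∃ x, ok a x = true ∧ ReachH H (start a) x
  | [], _, _ => by simp
  | a :: L, [], h => by simp [certCheckP] at h
  | a :: L, w :: W, h => by
    rw [certCheckP, Bool.and_eq_true] at h
    intro b hb
    rcases List.mem_cons.mp hb with rfl | hb
    · exact ⟨_, h.1, reachH_word hgens w (reachH_refl _ _)⟩
    · exact certCheckP_spec hgens ok start L W h.2 b hb

/-! ### Generators preserving a family of subsets -/

/-- The subgroup of `M24` preserving the family `Q`. -/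
abbrev famStab (Q : Finset (Finset GolayPt)) : Subgroup (Equiv.Perm GolayPt) :=
  M24 ⊓ MulAction.stabilizer (Equiv.Perm GolayPt) Q

theorem mem_famStab {Q : Finset (Finset GolayPt)} {g : Equiv.Perm GolayPt} :
    g ∈ famStab Q ↔ g ∈ M24 ∧ g • Q = Q := Iff.rfl

/-- Kernel-checkable validity of a generator preserving the family encoded by `Q`. -/
def famOK (Q : List ℕ) (g : ℕ × ℕ) : Bool :=
  checkInv g.1 g.2 && inM24 g.2 && Q.all (fun m => Q.contains (permMask g.2 m))

theorem famOK_spec {Q : List ℕ} {g : ℕ × ℕ} (h : famOK Q g = true) :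
    checkInv g.1 g.2 = true ∧ permOf g ∈ famStab (toQ Q) := by
  unfold famOK at h
  simp only [Bool.and_eq_true, List.all_eq_true, List.contains_iff_mem] at h
  obtain ⟨⟨h1, h2⟩, h3⟩ := h
  refine ⟨h1, ?_, ?_⟩
  · rw [permOf_eq h1]; exact mkPerm_mem_M24 _ _ h1 h2
  · show permOf g • toQ Q = toQ Q
    apply Finset.eq_of_subset_of_card_le
    · intro t ht
      obtain ⟨t', ht', rfl⟩ := Finset.mem_smul_finset.mp ht
      obtain ⟨m, hm, rfl⟩ := mem_toQ.mp ht'
      rw [mem_toQ]
      exact ⟨permMask g.2 m, h3 m hm, toFinset_permMask' h1 m⟩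
    · rw [Finset.card_smul_finset]

theorem gensIn_of_famOK {Q : List ℕ} {gens : List (ℕ × ℕ)}
    (h : ∀ g ∈ gens, famOK Q g = true) : GensIn (famStab (toQ Q)) gens :=
  fun g hg => famOK_spec (h g hg)

/-- Mask-level test for an octad. -/
def isOctM (m : ℕ) : Bool := isCode m && Nat.beq (pop m) 8

theorem toFinset_mem_octads_of_isOctM {m : ℕ} (h : isOctM m = true) : toFinset m ∈ octads := by
  unfold isOctM at h
  rw [Bool.and_eq_true] at h
  refine ⟨⟨ofMask m, (mem_golayCode_iff m).mpr h.1, support₂_ofMask m⟩, ?_⟩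
  rw [card_toFinset]
  exact Nat.eq_of_beq_eq_true h.2

end Cfsg.Agent.Helper26
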