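import Mathlib
import Cfsg.Agent.Lib.Helper83.Ord7920Defs
import Cfsg.Agent.Lib.Helper52.CoprimeSylow
import Cfsg.Agent.Lib.Helper80.WinterA

/-!
# Order 7920, piece (E): 144 Sylow 11-subgroups force simplicity (for helper83's S2490)
-/

set_option autoImplicit false

namespace Cfsg.Agent.Helper26.Ord7920

open Subgroup

/-- arithmetic: a prime power dividing 720 divides 16, 9 or 5 -/
theorem prime_pow_dvd_720 {r e : ℕ} (hr : r.Prime) (h : r ^ e ∣ 720) :
    r ^ e ∣ 16 ∨ r ^ e ∣ 9 ∨ r ^ e ∣ 5 := by
  rcases Nat.eq_zero_or_pos e with rfl | he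
  · left; simp
  have hr720 : r ∣ 720 := (dvd_pow_self r he.ne').trans h
  have h1 : r ∣ 16 * 45 := by norm_num; exact hr720
  rcases (Nat.Prime.dvd_mul hr).1 h1 with h16 | h45
  · have h2 : r ∣ 2 ^ 4 := by norm_num; exact h16
    have hr2 : r = 2 := (Nat.prime_dvd_prime_iff_eq hr Nat.prime_two).1 (hr.dvd_of_dvd_pow h2)
    subst hr2
    left
    have hc : Nat.Coprime (2 ^ e) 45 := Nat.Coprime.pow_left _ (by norm_num)
    have h3 : 2 ^ e ∣ 16 * 45 := by norm_num; exact h
    exact hc.dvd_of_dvd_mul_right h3
  · have h2 : r ∣ 9 * 5 := by norm_num; exact h45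
    rcases (Nat.Prime.dvd_mul hr).1 h2 with h9 | h5
    · have h3 : r ∣ 3 ^ 2 := by norm_num; exact h9
      have hr3 : r = 3 := (Nat.prime_dvd_prime_iff_eq hr Nat.prime_three).1 (hr.dvd_of_dvd_pow h3)
      subst hr3
      right; left
      have hc : Nat.Coprime (3 ^ e) 80 := Nat.Coprime.pow_left _ (by norm_num)
      have h4 : 3 ^ e ∣ 9 * 80 := by norm_num; exact h
      exact hc.dvd_of_dvd_mul_right h4
    · have hr5 : r = 5 := (Nat.prime_dvd_prime_iff_eq hr Nat.prime_five).1 h5
      subst hr5
      right; right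
      have hc : Nat.Coprime (5 ^ e) 144 := Nat.Coprime.pow_left _ (by norm_num)
      have h4 : 5 ^ e ∣ 5 * 144 := by norm_num; exact h
      exact hc.dvd_of_dvd_mul_right h4

/-- arithmetic: a divisor `c` of `s ∈ {1,2,4,8,16,3,9,5}` congruent to `s` modulo 11 is `s` -/
theorem eq_of_dvd_of_modEq {s c : ℕ} (hs : s ∣ 16 ∨ s ∣ 9 ∨ s ∣ 5) (hc : c ∣ s)
    (h : s ≡ c [MOD 11]) : c = s := by
  have key : ∀ s ∈ Finset.range 17, ∀ c ∈ Finset.range 17,
      (s ∣ 16 ∨ s ∣ 9 ∨ s ∣ 5) → c ∣ s → s % 11 = c % 11 → c = s := by decide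
  have hs16 : s ≤ 16 := by
    rcases hs with h1 | h1 | h1
    · exact Nat.le_of_dvd (by norm_num) h1
    · exact (Nat.le_of_dvd (by norm_num) h1).trans (by norm_num)
    · exact (Nat.le_of_dvd (by norm_num) h1).trans (by norm_num)
  have hs0 : 0 < s := by
    rcases hs with h1 | h1 | h1 <;> exact Nat.pos_of_dvd_of_pos h1 (by norm_num)
  have hcs : c ≤ s := Nat.le_of_dvd hs0 hc
  exact key s (Finset.mem_range.2 (by omega)) c (Finset.mem_range.2 (by omega)) hs hc h

section LemmaA

variable {H : Type*} [Group H] [Finite H]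

/-- LEMMA A: a normal subgroup of order dividing 720 is centralized by every subgroup of
order 11. -/
theorem le_centralizer_of_card_dvd_720 (P : Subgroup H) (hP : Nat.card P = 11) (K : Subgroup H)
    [K.Normal] (hK : Nat.card K ∣ 720) : K ≤ centralizer (P : Set H) := by
  have : Fact (Nat.Prime 11) := ⟨by norm_num⟩
  -- a generator of `P`
  have : IsCyclic P := isCyclic_of_prime_card (p := 11) hP
  obtain ⟨⟨x, hxP⟩, hx⟩ := IsCyclic.exists_generator (α := P)
  have hPz : ∀ y ∈ P, y ∈ zpowers x := by
    intro y hy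
    obtain ⟨n, hn⟩ := Subgroup.mem_zpowers_iff.1 (hx ⟨y, hy⟩)
    rw [Subgroup.mem_zpowers_iff]
    refine ⟨n, ?_⟩
    have := congrArg Subtype.val hn
    simpa using this
  have hx11 : x ^ 11 = 1 := by
    have h1 : (⟨x, hxP⟩ : P) ^ Nat.card P = 1 := pow_card_eq_one'
    rw [hP] at h1
    have := congrArg Subtype.val h1
    simpa using this
  have hPp : IsPGroup 11 P := IsPGroup.of_card (n := 1) (by rw [hP]; norm_num)
  have hzp : IsPGroup 11 (zpowers x) := hPp.to_le (zpowers_le.2 hxP)
  have hcop : (Nat.card P).Coprime (Nat.card K) := by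
    rw [hP]
    have h720 : Nat.Coprime 11 720 := by norm_num
    exact Nat.Coprime.coprime_dvd_right hK h720
  have hPK : P ≤ normalizer (K : Set H) := by
    rw [normalizer_eq_top]
    exact le_top
  have hsolvP : Group.IsSolvable P := by
    apply Group.isSolvable_of_comm
    intro a b
    exact (IsCyclic.isMulCommutative (α := P)).is_comm.comm a b
  -- the centralizer of `x` in `K` has order divisible by every Sylow order of `K`
  have key : ∀ r : ℕ, r.Prime → r ^ (Nat.card K).factorization r ∣
      Nat.card (K ⊓ centralizer ({x} : Set H) : Subgroup H) := by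
    intro r hr
    have : Fact r.Prime := ⟨hr⟩
    obtain ⟨Q, hQK, hQc, hPQ⟩ :=
      Cfsg.Agent.Helper52.exists_invariant_sylow P K hPK hcop (Or.inl hsolvP) r
    have hxQ : x ∈ normalizer (Q : Set H) := hPQ hxP
    have h1 := Cfsg.Agent.Helper80.WinterA.card_modEq_card_inf_centralizer Q x hxQ 11 hzp
    have hQc' : Nat.card Q = r ^ (Nat.card K).factorization r := hQc
    have hdvd720 : r ^ (Nat.card K).factorization r ∣ 720 := (Nat.ordProj_dvd _ _).trans hK
    have hs := prime_pow_dvd_720 hr hdvd720
    have hcdvd : Nat.card (Q ⊓ centralizer ({x} : Set H) : Subgroup H) ∣ Nat.card Q :=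
      Subgroup.card_dvd_of_le inf_le_left
    rw [hQc'] at h1 hcdvd
    have heq := eq_of_dvd_of_modEq hs hcdvd h1
    have hle : (Q ⊓ centralizer ({x} : Set H) : Subgroup H) ≤ K ⊓ centralizer ({x} : Set H) :=
      inf_le_inf_right _ hQK
    rw [← heq]
    exact Subgroup.card_dvd_of_le hle
  have hKdvd : Nat.card K ∣ Nat.card (K ⊓ centralizer ({x} : Set H) : Subgroup H) := by
    have hK0 : Nat.card K ≠ 0 := Nat.card_pos.ne'
    have hm0 : Nat.card (K ⊓ centralizer ({x} : Set H) : Subgroup H) ≠ 0 := Nat.card_pos.ne'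
    rw [← Nat.factorization_prime_le_iff_dvd hK0 hm0]
    intro r hr
    exact (hr.pow_dvd_iff_le_factorization hm0).1 (key r hr)
  have hKC : K ≤ centralizer ({x} : Set H) := by
    have h1 : (K ⊓ centralizer ({x} : Set H) : Subgroup H) = K := by
      apply Subgroup.eq_of_le_of_card_ge inf_le_left
      exact Nat.le_of_dvd Nat.card_pos hKdvd
    rw [← h1]; exact inf_le_right
  intro k hk
  rw [mem_centralizer_iff]
  intro y hy
  obtain ⟨n, rfl⟩ := Subgroup.mem_zpowers_iff.1 (hPz y hy)
  have hkx : x * k = k * x := (mem_centralizer_iff.1 (hKC hk)) x (Set.mem_singleton x)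
  exact (Commute.zpow_left hkx n).eq

end LemmaA


section Main

variable {G : Type*} [Group G]

theorem card_mul_relIndex_of_le {H K : Subgroup G} (h : H ≤ K) :
    Nat.card H * H.relIndex K = Nat.card K := by
  have := Subgroup.relIndex_mul_relIndex ⊥ H K bot_le h
  rwa [Subgroup.relIndex_bot_left, Subgroup.relIndex_bot_left] at this

/-- `|HN| |H ∩ N| = |H| |N|` for `N` normal -/
theorem card_sup_mul_card_inf_of_normal (H N : Subgroup G) [N.Normal] :
    Nat.card (H ⊔ N : Subgroup G) * Nat.card (H ⊓ N : Subgroup G) = Nat.card H * Nat.card N := by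
  have h1 : Nat.card N * N.relIndex (H ⊔ N) = Nat.card (H ⊔ N : Subgroup G) :=
    card_mul_relIndex_of_le le_sup_right
  have h2 : Nat.card (H ⊓ N : Subgroup G) * (H ⊓ N).relIndex H = Nat.card H :=
    card_mul_relIndex_of_le inf_le_left
  rw [Subgroup.relIndex_sup_right] at h1
  rw [inf_comm, Subgroup.inf_relIndex_right] at h2
  rw [inf_comm, ← h1, ← h2]
  ring

/-- a subgroup of prime order 11 is commutative -/
theorem comm_of_card_eleven (P : Subgroup G) (hP : Nat.card P = 11) :
    ∀ a ∈ P, ∀ b ∈ P, a * b = b * a := by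
  have : Fact (Nat.Prime 11) := ⟨by norm_num⟩
  have : IsCyclic P := isCyclic_of_prime_card (p := 11) hP
  intro a ha b hb
  have := (IsCyclic.isMulCommutative (α := P)).is_comm.comm ⟨a, ha⟩ ⟨b, hb⟩
  exact congrArg Subtype.val this

theorem le_centralizer_self_of_card_eleven (P : Subgroup G) (hP : Nat.card P = 11) :
    P ≤ centralizer (P : Set G) := by
  intro a ha
  rw [mem_centralizer_iff]
  intro b hb
  exact comm_of_card_eleven P hP b hb a ha

/-- (E) 144 Sylow 11-subgroups: `G` is simple. -/
theorem simple_of_144 {G : Type*} [Group G] [Finite G] (hord : Nat.card G = 7920)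
    (h : Nat.card (Sylow 11 G) = 144) : IsSimpleGroup G := by
  have : Fact (Nat.Prime 11) := ⟨by norm_num⟩
  obtain ⟨P⟩ : Nonempty (Sylow 11 G) := inferInstance
  -- `|P| = 11`
  have hP : Nat.card (P : Subgroup G) = 11 := by
    obtain ⟨k, hk⟩ := IsPGroup.iff_card.1 P.isPGroup'
    have h1 := (P : Subgroup G).card_mul_index
    have h2 := P.not_dvd_index
    rw [hord, hk] at h1
    rcases k with _ | _ | k
    · exfalso
      apply h2
      rw [pow_zero, one_mul] at h1
      rw [h1]; norm_num
    · rw [hk]; norm_num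
    · exfalso
      have h3 : 121 ∣ 7920 := by
        rw [← h1]
        refine Dvd.dvd.mul_right ?_ _
        rw [show k + 1 + 1 = 2 + k by ring, pow_add]
        exact Dvd.intro _ rfl
      norm_num at h3
  set N := normalizer ((P : Subgroup G) : Set G) with hN
  have hNidx : N.index = 144 := by rw [← h]; exact (P.card_eq_index_normalizer).symm
  have hNcard : Nat.card N = 55 := by
    have := N.card_mul_index
    rw [hNidx, hord] at this
    omega
  have hPN : (P : Subgroup G) ≤ N := le_normalizer
  have hnt : Nontrivial G := by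
    rw [← Finite.one_lt_card_iff_nontrivial, hord]; norm_num
  refine { exists_pair_ne := hnt.exists_pair_ne, eq_bot_or_eq_top_of_normal := fun M hM => ?_ }
  by_contra hcon
  obtain ⟨hMbot, hMtop⟩ := not_or.1 hcon
  have hMcard := M.card_mul_index
  rw [hord] at hMcard
  have hM1 : Nat.card M ≠ 1 := fun h1 => hMbot (Subgroup.eq_bot_of_card_eq M h1)
  have hM7920 : Nat.card M ≠ 7920 := fun h1 =>
    hMtop ((Subgroup.card_eq_iff_eq_top M).1 (h1.trans hord.symm))
  by_cases h11 : 11 ∣ Nat.card M
  · -- `P ≤ M`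
    have hidx : ¬ 11 ∣ M.index := by
      intro h2
      obtain ⟨a, ha⟩ := h11
      obtain ⟨b, hb⟩ := h2
      rw [ha, hb] at hMcard
      have h3 : 121 ∣ 7920 := ⟨a * b, by rw [← hMcard]; ring⟩
      norm_num at h3
    have hPM : (P : Subgroup G) ≤ M := by
      intro x hx
      have hx11 : x ^ 11 = 1 := by
        have h1 : (⟨x, hx⟩ : (P : Subgroup G)) ^ Nat.card (P : Subgroup G) = 1 := pow_card_eq_one'
        rw [hP] at h1
        have := congrArg Subtype.val h1
        simpa using this
      have hq11 : ((x : G) : G ⧸ M) ^ 11 = 1 := by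
        rw [← QuotientGroup.mk_pow, hx11]; rfl
      have hd1 : orderOf ((x : G) : G ⧸ M) ∣ 11 := orderOf_dvd_of_pow_eq_one hq11
      have hd2 : orderOf ((x : G) : G ⧸ M) ∣ M.index := by
        rw [Subgroup.index_eq_card]; exact orderOf_dvd_natCard _
      have hone : orderOf ((x : G) : G ⧸ M) = 1 := by
        rcases (Nat.dvd_prime (by norm_num : Nat.Prime 11)).1 hd1 with h1 | h1
        · exact h1
        · exfalso; apply hidx; rw [← h1]; exact hd2
      rw [orderOf_eq_one_iff] at hone
      exact (QuotientGroup.eq_one_iff x).1 hone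
    -- Frattini
    have hfr : N ⊔ M = ⊤ := Sylow.normalizer_sup_eq_top' P hPM
    have hcf := card_sup_mul_card_inf_of_normal N M
    rw [hfr, Subgroup.card_top, hord, hNcard] at hcf
    have hPle : (P : Subgroup G) ≤ N ⊓ M := le_inf hPN hPM
    have hc11 : 11 ∣ Nat.card (N ⊓ M : Subgroup G) := by
      rw [← hP]; exact Subgroup.card_dvd_of_le hPle
    have hc55 : Nat.card (N ⊓ M : Subgroup G) ∣ 55 := by
      rw [← hNcard]; exact Subgroup.card_dvd_of_le inf_le_left
    obtain ⟨k, hk⟩ := hc11
    have hk5 : k ∣ 5 := by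
      rw [hk, show (55 : ℕ) = 11 * 5 by norm_num] at hc55
      exact (Nat.mul_dvd_mul_iff_left (by norm_num)).1 hc55
    have hk15 : k = 1 ∨ k = 5 := (Nat.dvd_prime Nat.prime_five).1 hk5
    have hc : Nat.card (N ⊓ M : Subgroup G) = 11 := by
      rcases hk15 with rfl | rfl
      · rw [hk]
      · exfalso
        rw [hk] at hcf
        apply hM7920
        omega
    have hMc : Nat.card M = 1584 := by
      rw [hc] at hcf; omega
    have hNMP : N ⊓ M = (P : Subgroup G) := by
      symm
      apply Subgroup.eq_of_le_of_card_ge hPle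
      rw [hc, hP]
    -- Burnside transfer inside `M`
    set P' : Sylow 11 M := P.subtype hPM with hP'
    have hP'coe : (P' : Subgroup M) = (P : Subgroup G).subgroupOf M := rfl
    have hP'card : Nat.card (P' : Subgroup M) = 11 := by
      rw [hP'coe, Nat.card_congr (Subgroup.subgroupOfEquivOfLe hPM).toEquiv, hP]
    have hnorm : normalizer ((P' : Subgroup M) : Set M) = (P' : Subgroup M) := by
      rw [hP'coe, ← Subgroup.subgroupOf_normalizer_eq hPM, ← Subgroup.inf_subgroupOf_right,
        ← hN, hNMP]
    have hPc' : normalizer ((P' : Subgroup M) : Set M) ≤ centralizer ((P' : Subgroup M) : Set M) := by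
      rw [hnorm]
      exact le_centralizer_self_of_card_eleven _ hP'card
    have hcompl := MonoidHom.ker_transferSylow_isComplement' P' hPc'
    set K := (MonoidHom.transferSylow P' hPc').ker with hK
    have hKcard : Nat.card K = 144 := by
      have := hcompl.card_mul_card
      rw [hP'card, hMc] at this
      omega
    have hKn : K.Normal := by rw [hK]; infer_instance
    have hKC : K ≤ centralizer ((P' : Subgroup M) : Set M) :=
      le_centralizer_of_card_dvd_720 _ hP'card K (by rw [hKcard]; norm_num)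
    have hKP : K ≤ (P' : Subgroup M) := by
      rw [← hnorm]
      exact hKC.trans (Subgroup.centralizer_le_normalizer _)
    have hKbot : K = ⊥ := hcompl.disjoint.eq_bot_of_le hKP
    rw [hKbot, Subgroup.card_bot] at hKcard
    norm_num at hKcard
  · have hcop : Nat.Coprime (Nat.card M) 11 := by
      rw [Nat.coprime_comm]; exact (Nat.Prime.coprime_iff_not_dvd (by norm_num)).2 h11
    have hM720 : Nat.card M ∣ 720 := by
      have h1 : Nat.card M ∣ 11 * 720 := by norm_num; exact ⟨_, hMcard.symm⟩
      exact hcop.dvd_of_dvd_mul_left h1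
    have hMn : M.Normal := hM
    have hMC : M ≤ centralizer ((P : Subgroup G) : Set G) :=
      le_centralizer_of_card_dvd_720 _ hP M hM720
    have hCN : centralizer ((P : Subgroup G) : Set G) ≤ N :=
      Subgroup.centralizer_le_normalizer _
    have hM55 : Nat.card M ∣ 55 := by
      rw [← hNcard]; exact Subgroup.card_dvd_of_le (hMC.trans hCN)
    have hM5 : Nat.card M ∣ 5 := by
      have := Nat.dvd_gcd hM720 hM55
      norm_num at this
      exact this
    have hMc : Nat.card M = 5 := by
      rcases (Nat.dvd_prime Nat.prime_five).1 hM5 with h1 | h1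
      · exact absurd h1 hM1
      · exact h1
    set C := centralizer ((P : Subgroup G) : Set G) with hC
    have hPC : (P : Subgroup G) ≤ C := le_centralizer_self_of_card_eleven _ hP
    have h5C : 5 ∣ Nat.card C := by rw [← hMc]; exact Subgroup.card_dvd_of_le hMC
    have h11C : 11 ∣ Nat.card C := by rw [← hP]; exact Subgroup.card_dvd_of_le hPC
    have h55C : 55 ∣ Nat.card C := by
      have hc : Nat.Coprime 5 11 := by norm_num
      have := hc.mul_dvd_of_dvd_of_dvd h5C h11C
      norm_num at this
      exact this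
    have hCeq : C = N := by
      apply Subgroup.eq_of_le_of_card_ge hCN
      rw [hNcard]; exact Nat.le_of_dvd Nat.card_pos h55C
    have hPc : normalizer ((P : Subgroup G) : Set G) ≤ centralizer ((P : Subgroup G) : Set G) := by
      rw [← hN, ← hC, hCeq]
    have hcompl := MonoidHom.ker_transferSylow_isComplement' P hPc
    set K := (MonoidHom.transferSylow P hPc).ker with hK
    have hKcard : Nat.card K = 720 := by
      have := hcompl.card_mul_card
      rw [hP, hord] at this
      omega
    have hKn : K.Normal := by rw [hK]; infer_instance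
    have hKC : K ≤ C := le_centralizer_of_card_dvd_720 _ hP K (by rw [hKcard])
    have h55 : Nat.card K ∣ 55 := by
      rw [← hNcard]; exact Subgroup.card_dvd_of_le (hKC.trans hCN)
    rw [hKcard] at h55
    norm_num at h55

end Main

end Cfsg.Agent.Helper26.Ord7920
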