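import Mathlib

/-!
A maximality criterion for point stabilisers from suborbit sizes: if the orbit of `a` has `N`
elements and splits as `{a}` together with suborbits `O i` (each contained in one orbit of the
stabiliser of `a`) of sizes `n i`, and no sum `1 + ∑_{i ∈ I} n i` over a proper nonempty family
divides `N`, then the stabiliser of `a` is a maximal subgroup.
-/

set_option autoImplicit false

namespace Cfsg.Agent.Helper26

open MulAction

variable {G Y : Type*} [Group G] [MulAction G Y]

lemma stabilizer_subgroup_eq (K : Subgroup G) (a : Y) :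
    stabilizer K a = (stabilizer G a).subgroupOf K := by
  ext ⟨k, hk⟩
  simp only [mem_stabilizer_iff, Subgroup.mem_subgroupOf]
  rfl

lemma ncard_orbit_subgroup (K : Subgroup G) (a : Y) :
    (orbit K a).ncard = (stabilizer G a).relIndex K := by
  rw [← index_stabilizer, stabilizer_subgroup_eq]
  rfl

theorem isCoatom_stabilizer_of_suborbits [Finite Y] (a : Y)
    (k : ℕ) (O : Fin k → Set Y) (n : Fin k → ℕ) (N : ℕ)
    (hN : (orbit G a).ncard = N)
    (hcover : ∀ y ∈ orbit G a, y = a ∨ ∃ i, y ∈ O i)
    (hO : ∀ i, ∀ x ∈ O i, ∀ y ∈ O i, ∃ g ∈ stabilizer G a, g • x = y)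
    (ha : ∀ i, a ∉ O i)
    (hdisj : ∀ i j, i ≠ j → Disjoint (O i) (O j))
    (hn : ∀ i, (O i).ncard = n i)
    (harith : ∀ I : Finset (Fin k), (1 + ∑ i ∈ I, n i) ∣ N → I = ∅ ∨ 1 + ∑ i ∈ I, n i = N)
    (hne : 1 < N) :
    IsCoatom (stabilizer G a) := by
  classical
  have hidx : (stabilizer G a).index = N := by rw [index_stabilizer, hN]
  constructor
  · intro htop
    rw [htop, Subgroup.index_top] at hidx
    omega
  · intro K hK
    -- the K-orbit of a
    set B : Set Y := orbit K a with hB
    have hBsub : B ⊆ orbit G a := orbit_subgroup_subset K a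
    have haB : a ∈ B := mem_orbit_self a
    let I : Finset (Fin k) := Finset.univ.filter (fun i => (O i ∩ B).Nonempty)
    have hOB : ∀ i ∈ I, O i ⊆ B := by
      intro i hi y hy
      obtain ⟨x, hxO, hxB⟩ := (Finset.mem_filter.mp hi).2
      obtain ⟨g, hg, rfl⟩ := hO i x hxO y hy
      obtain ⟨⟨κ, hκ⟩, rfl⟩ := hxB
      exact ⟨⟨g * κ, K.mul_mem (hK.le hg) hκ⟩, by simp [Subgroup.smul_def, mul_smul]⟩
    have hBeq : B = {a} ∪ ⋃ i ∈ I, O i := by
      ext y
      simp only [Set.mem_union, Set.mem_singleton_iff, Set.mem_iUnion]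
      constructor
      · intro hy
        rcases hcover y (hBsub hy) with rfl | ⟨i, hi⟩
        · exact Or.inl rfl
        · exact Or.inr ⟨i, Finset.mem_filter.mpr ⟨Finset.mem_univ _, ⟨y, hi, hy⟩⟩, hi⟩
      · rintro (rfl | ⟨i, hi, hy⟩)
        · exact haB
        · exact hOB i hi hy
    have hcardU : (⋃ i ∈ I, O i).ncard = ∑ i ∈ I, n i := by
      have h1 : (⋃ i ∈ I, O i) = ↑(I.biUnion (fun i => (Set.toFinite (O i)).toFinset)) := by
        ext y; simp
      rw [h1, Set.ncard_coe_finset, Finset.card_biUnion]
      · apply Finset.sum_congr rfl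
        intro i _
        rw [← hn i, Set.ncard_eq_toFinset_card (O i) (Set.toFinite (O i))]
      · intro i _ j _ hij
        show Disjoint (Set.toFinite (O i)).toFinset (Set.toFinite (O j)).toFinset
        rw [Finset.disjoint_left]
        intro y hy hy'
        simp only [Set.Finite.mem_toFinset] at hy hy'
        exact Set.disjoint_left.mp (hdisj i j hij) hy hy'
    have hcardB : B.ncard = 1 + ∑ i ∈ I, n i := by
      rw [hBeq, Set.ncard_union_eq, Set.ncard_singleton, hcardU]
      · rw [Set.disjoint_left]
        intro y hy hy'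
        rw [Set.mem_singleton_iff] at hy
        subst hy
        simp only [Set.mem_iUnion] at hy'
        obtain ⟨i, _, hi⟩ := hy'
        exact ha i hi
    have hrel : B.ncard = (stabilizer G a).relIndex K := ncard_orbit_subgroup K a
    have hmul := Subgroup.relIndex_mul_index hK.le
    rw [hidx, ← hrel, hcardB] at hmul
    rcases harith I (Dvd.intro _ hmul) with hI | hI
    · -- B = {a}, so K ≤ stabilizer
      exfalso
      have hBa : B = {a} := by
        rw [hBeq, hI]; simp
      apply lt_irrefl (stabilizer G a)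
      apply lt_of_lt_of_le hK
      intro κ hκ
      have : (⟨κ, hκ⟩ : K) • a ∈ B := mem_orbit a _
      rw [hBa, Set.mem_singleton_iff] at this
      exact this
    · rw [hI] at hmul
      have hK1 : K.index = 1 := by
        have hN0 : 0 < N := by omega
        exact Nat.eq_of_mul_eq_mul_left hN0 (by rw [hmul, mul_one])
      exact Subgroup.index_eq_one.mp hK1

end Cfsg.Agent.Helper26
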