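import Mathlib
import Cfsg.Prelude.Def_Characters
import Cfsg.Prelude.Def_Blocks
import Cfsg.Agent.Lib.Helper80.RPDDefs
import Cfsg.Agent.Lib.Helper79.Inflation

/-! RPD server (helper80, S4861), piece (HQ) hyp_quotient (written by helper26). -/

set_option autoImplicit false

namespace Cfsg.Agent.Helper26.RPD

open Cfsg Cfsg.Agent.Helper80.RPD
open scoped ComplexConjugate

universe u

/-- (HQ) the hypothesis package passes to quotients -/
theorem hyp_quotient (p : ℕ) {G : Type u} [Group G] [Finite G] (N : Subgroup G) [N.Normal]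
    (h : Hyp p G) : Hyp p (G ⧸ N) := by
  obtain ⟨h2, ⟨L, hLn, hLs, hLi⟩, hreal⟩ := h
  have hsurj := QuotientGroup.mk'_surjective N
  refine ⟨?_, ?_, ?_⟩
  · -- the `2`-elements generate
    have hmap : (Subgroup.closure {g : G | ∃ k : ℕ, orderOf g = 2 ^ k}).map
        (QuotientGroup.mk' N) = ⊤ := by
      rw [h2, ← MonoidHom.range_eq_map, MonoidHom.range_eq_top]
      exact hsurj
    rw [MonoidHom.map_closure] at hmap
    rw [eq_top_iff, ← hmap]
    apply Subgroup.closure_mono
    rintro _ ⟨g, ⟨k, hk⟩, rfl⟩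
    have hdvd : orderOf (QuotientGroup.mk' N g) ∣ 2 ^ k := by
      rw [← hk]
      exact orderOf_map_dvd _ g
    obtain ⟨j, -, hj⟩ := (Nat.dvd_prime_pow Nat.prime_two).1 hdvd
    exact ⟨j, hj⟩
  · refine ⟨L.map (QuotientGroup.mk' N), ?_, ?_, ?_⟩
    · exact Subgroup.Normal.map hLn _ hsurj
    · have := hLs
      exact Group.isSolvable_of_surjective (f := (QuotientGroup.mk' N).subgroupMap L)
        ((QuotientGroup.mk' N).subgroupMap_surjective L)
    · intro hp
      exact hLi (dvd_trans hp (Subgroup.index_map_dvd L hsurj))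
  · intro χ hχ
    have hinf := hreal (Cfsg.Agent.Helper79.inflate N χ) (fun g => by
      rw [Cfsg.Agent.Helper79.inflate_apply]
      exact hχ _)
    rwa [Cfsg.Agent.Helper79.charDegree_inflate] at hinf

end Cfsg.Agent.Helper26.RPD
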