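import Mathlib
import Cfsg.Agent.Lib.Helper4.SFC.Defs

set_option autoImplicit false
set_option linter.style.haveILetI false

/-! SFC server (helper4, S4291), piece (N3): an element of order 8 (written by helper26). -/

namespace Cfsg.Agent.Helper26.SFC

open Cfsg.Agent.Helper4.SFC

variable {G : Type*} [Group G] [Finite G]

theorem helper26_exists_orderOf_of_dvd {K : Type*} [Group K] (x : K) (hx : orderOf x ≠ 0)
    (d : ℕ) (h : d ∣ orderOf x) : ∃ y : K, orderOf y = d := by
  obtain ⟨c, hc⟩ := h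
  have hc0 : c ≠ 0 := by
    rintro rfl
    rw [mul_zero] at hc
    exact hx hc
  have hd0 : d ≠ 0 := by
    rintro rfl
    rw [zero_mul] at hc
    exact hx hc
  refine ⟨x ^ c, ?_⟩
  rw [orderOf_pow_of_dvd hc0 ⟨d, by rw [hc, mul_comm]⟩, hc]
  exact Nat.mul_div_cancel d (Nat.pos_of_ne_zero hc0)

/-- (N3) a Sylow 2-subgroup P has order 2^m, m ≥ 4. By `pq_two`: cyclic (generator g of order
2^m, g^(2^(m-3)) has order 8) or QuaternionGroup (2^k) with 4*2^k = 2^m, k = m-2 ≥ 2, and
`QuaternionGroup.a 1` has order 2*2^k (QuaternionGroup.orderOf_a_one), a power has order 8. -/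
theorem exists_order_eight (hPQ : PQ G) (h16 : 16 ∣ Nat.card G) : ∃ x : G, orderOf x = 8 := by
  haveI : Fact (Nat.Prime 2) := ⟨Nat.prime_two⟩
  obtain ⟨P⟩ : Nonempty (Sylow 2 G) := inferInstance
  have hcard : Nat.card P = 2 ^ (Nat.card G).factorization 2 := Sylow.card_eq_multiplicity P
  have h4 : 4 ≤ (Nat.card G).factorization 2 := by
    have h : 2 ^ 4 ∣ Nat.card G := by norm_num; exact h16
    exact (Nat.Prime.pow_dvd_iff_le_factorization Nat.prime_two Nat.card_pos.ne').1 h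
  have h16P : 16 ∣ Nat.card P := by
    rw [hcard]
    exact (by norm_num : (16 : ℕ) = 2 ^ 4) ▸ pow_dvd_pow 2 h4
  -- it suffices to find an element of order 8 in `P`
  suffices h : ∃ y : (P : Subgroup G), orderOf y = 8 by
    obtain ⟨y, hy⟩ := h
    exact ⟨(y : G), by rw [Subgroup.orderOf_coe, hy]⟩
  rcases pq_two hPQ (P : Subgroup G) P.2 with hc | ⟨k, hk, ⟨e⟩⟩
  · haveI := hc
    obtain ⟨g, hg⟩ := IsCyclic.exists_ofOrder_eq_natCard (α := (P : Subgroup G))
    have hg0 : orderOf g ≠ 0 := by rw [hg]; exact Nat.card_pos.ne'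
    exact helper26_exists_orderOf_of_dvd g hg0 8 (by
      rw [hg]; exact dvd_trans (by norm_num) h16P)
  · -- quaternion case
    have hcardQ : Nat.card (P : Subgroup G) = 4 * 2 ^ k := by
      haveI : NeZero (2 ^ k) := ⟨by positivity⟩
      rw [Nat.card_congr e.toEquiv, Nat.card_eq_fintype_card, QuaternionGroup.card]
    have hk2 : 2 ≤ k := by
      by_contra hlt
      have hk1 : k = 1 := by omega
      rw [hcardQ, hk1] at h16P
      norm_num at h16P
    have ha : orderOf (QuaternionGroup.a (1 : ZMod (2 * 2 ^ k)) : QuaternionGroup (2 ^ k))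
        = 2 * 2 ^ k := QuaternionGroup.orderOf_a_one
    have h8 : 8 ∣ 2 * 2 ^ k := by
      obtain ⟨j, rfl⟩ : ∃ j, k = 2 + j := ⟨k - 2, by omega⟩
      rw [pow_add]
      exact ⟨2 ^ j, by ring⟩
    have ha0 : orderOf (QuaternionGroup.a (1 : ZMod (2 * 2 ^ k)) : QuaternionGroup (2 ^ k)) ≠ 0 := by
      rw [ha]; positivity
    obtain ⟨z, hz⟩ := helper26_exists_orderOf_of_dvd _ ha0 8 (by rw [ha]; exact h8)
    exact ⟨e.symm z, by rw [MulEquiv.orderOf_eq, hz]⟩

end Cfsg.Agent.Helper26.SFC
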