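import Mathlib
import Cfsg.Agent.Lib.Helper7.M24Trans

set_option autoImplicit false
open scoped Pointwise
open Cfsg

namespace Cfsg.Agent.Helper26

open Cfsg.Agent.Helper7

theorem smul_eq_of_map_toList (g : Equiv.Perm GolayPt) (X X' : Finset GolayPt)
    (h : X.toList.map g = X'.toList) : g • X = X' := by
  have h1 : g • X = X.image g := rfl
  rw [h1]
  ext y
  rw [Finset.mem_image, ← Finset.mem_toList, ← h, List.mem_map]
  simp only [Finset.mem_toList]

/-- `M24` is transitive on pairs `(s, t)` of subsets with given intersection pattern, as long as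
`s ∪ t` has at most five points. -/
theorem m24_trans_pair (s t t' : Finset GolayPt)
    (h1 : (s \ t).card = (s \ t').card) (h2 : (s ∩ t).card = (s ∩ t').card)
    (h3 : (t \ s).card = (t' \ s).card) (h5 : (s ∪ t).card ≤ 5) :
    ∃ g ∈ M24, g • s = s ∧ g • t = t' := by
  have hAB : ∀ u : Finset GolayPt, Disjoint (s \ u) (s ∩ u) := by
    intro u
    rw [Finset.disjoint_left]
    intro x hx hx'
    exact (Finset.mem_sdiff.mp hx).2 (Finset.mem_inter.mp hx').2
  have hAC : ∀ u : Finset GolayPt, Disjoint (s \ u) (u \ s) := by
    intro u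
    rw [Finset.disjoint_left]
    intro x hx hx'
    exact (Finset.mem_sdiff.mp hx').2 (Finset.mem_sdiff.mp hx).1
  have hBC : ∀ u : Finset GolayPt, Disjoint (s ∩ u) (u \ s) := by
    intro u
    rw [Finset.disjoint_left]
    intro x hx hx'
    exact (Finset.mem_sdiff.mp hx').2 (Finset.mem_inter.mp hx).1
  have hnd : ∀ u : Finset GolayPt,
      ((s \ u).toList ++ (s ∩ u).toList ++ (u \ s).toList).Nodup := by
    intro u
    refine List.Nodup.append (List.Nodup.append (Finset.nodup_toList _) (Finset.nodup_toList _) ?_)
      (Finset.nodup_toList _) ?_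
    · intro x hx hx'
      rw [Finset.mem_toList] at hx hx'
      exact Finset.disjoint_left.mp (hAB u) hx hx'
    · intro x hx hx'
      rw [List.mem_append, Finset.mem_toList, Finset.mem_toList] at hx
      rw [Finset.mem_toList] at hx'
      rcases hx with hx | hx
      · exact Finset.disjoint_left.mp (hAC u) hx hx'
      · exact Finset.disjoint_left.mp (hBC u) hx hx'
  have hlen : ∀ u : Finset GolayPt,
      ((s \ u).toList ++ (s ∩ u).toList ++ (u \ s).toList).length =
        (s \ u).card + (s ∩ u).card + (u \ s).card := by
    intro u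
    simp only [List.length_append, Finset.length_toList]
  have hsu : ∀ u : Finset GolayPt, s \ u ∪ s ∩ u = s := by
    intro u
    ext x
    simp only [Finset.mem_union, Finset.mem_sdiff, Finset.mem_inter]
    tauto
  have hus : ∀ u : Finset GolayPt, s ∩ u ∪ u \ s = u := by
    intro u
    ext x
    simp only [Finset.mem_union, Finset.mem_sdiff, Finset.mem_inter]
    tauto
  have hcard : (s \ t).card + (s ∩ t).card + (t \ s).card = (s ∪ t).card := by
    rw [← Finset.card_union_of_disjoint (hAB t), hsu, ← Finset.card_union_of_disjoint]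
    · congr 1
      ext x
      simp only [Finset.mem_union, Finset.mem_sdiff]
      tauto
    · rw [Finset.disjoint_left]
      intro x hx hx'
      exact (Finset.mem_sdiff.mp hx').2 hx
  obtain ⟨g, hg, hmap⟩ := m24_five_trans _ _ (hnd t) (hnd t')
    (by rw [hlen, hlen, h1, h2, h3]) (by rw [hlen, hcard]; exact h5)
  rw [List.map_append, List.map_append] at hmap
  obtain ⟨hm12, hm3⟩ := List.append_inj hmap (by
    simp only [List.length_append, List.length_map, Finset.length_toList, h1, h2])
  obtain ⟨hm1, hm2⟩ := List.append_inj hm12 (by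
    simp only [List.length_map, Finset.length_toList, h1])
  have e1 := smul_eq_of_map_toList g _ _ hm1
  have e2 := smul_eq_of_map_toList g _ _ hm2
  have e3 := smul_eq_of_map_toList g _ _ hm3
  refine ⟨g, hg, ?_, ?_⟩
  · conv_lhs => rw [← hsu t]
    rw [Finset.smul_finset_union, e1, e2, hsu]
  · conv_lhs => rw [← hus t]
    rw [Finset.smul_finset_union, e2, e3, hus]

/-- Number of `k`-subsets meeting a fixed set `s` in exactly `j` points. -/
theorem card_filter_inter_card {α : Type*} [Fintype α] [DecidableEq α] (s : Finset α) (k j : ℕ)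
    (hjk : j ≤ k) :
    ((Finset.univ : Finset (Finset α)).filter (fun t => t.card = k ∧ (s ∩ t).card = j)).card =
      (s.card.choose j) * ((Fintype.card α - s.card).choose (k - j)) := by
  rw [← Finset.card_powersetCard, ← Finset.card_compl, ← Finset.card_powersetCard (k - j) sᶜ,
    ← Finset.card_product]
  symm
  apply Finset.card_bij (fun p _ => p.1 ∪ p.2)
  · rintro ⟨u, v⟩ h
    simp only [Finset.mem_product, Finset.mem_powersetCard] at h
    obtain ⟨⟨hu, huc⟩, hv, hvc⟩ := h
    have hd : Disjoint u v := by
      rw [Finset.disjoint_left]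
      intro x hx hx'
      exact Finset.mem_compl.mp (hv hx') (hu hx)
    have hi : s ∩ (u ∪ v) = u := by
      ext x
      simp only [Finset.mem_inter, Finset.mem_union]
      constructor
      · rintro ⟨hxs, hx | hx⟩
        · exact hx
        · exact absurd hxs (Finset.mem_compl.mp (hv hx))
      · intro hx
        exact ⟨hu hx, Or.inl hx⟩
    simp only [Finset.mem_filter, Finset.mem_univ, true_and]
    refine ⟨?_, ?_⟩
    · rw [Finset.card_union_of_disjoint hd, huc, hvc]; omega
    · rw [hi, huc]
  · rintro ⟨u, v⟩ h ⟨u', v'⟩ h' heq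
    simp only [Finset.mem_product, Finset.mem_powersetCard] at h h'
    obtain ⟨⟨hu, _⟩, hv, _⟩ := h
    obtain ⟨⟨hu', _⟩, hv', _⟩ := h'
    simp only at heq
    have key : ∀ (a b : Finset α), a ⊆ s → b ⊆ sᶜ → s ∩ (a ∪ b) = a ∧ (a ∪ b) \ s = b := by
      intro a b ha hb
      constructor
      · ext x
        simp only [Finset.mem_inter, Finset.mem_union]
        constructor
        · rintro ⟨hxs, hx | hx⟩
          · exact hx
          · exact absurd hxs (Finset.mem_compl.mp (hb hx))
        · intro hx
          exact ⟨ha hx, Or.inl hx⟩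
      · ext x
        simp only [Finset.mem_sdiff, Finset.mem_union]
        constructor
        · rintro ⟨hx | hx, hxs⟩
          · exact absurd (ha hx) hxs
          · exact hx
        · intro hx
          exact ⟨Or.inr hx, Finset.mem_compl.mp (hb hx)⟩
    have k1 := key u v hu hv
    have k2 := key u' v' hu' hv'
    rw [heq] at k1
    rw [Prod.mk.injEq]
    exact ⟨k1.1.symm.trans k2.1, k1.2.symm.trans k2.2⟩
  · intro t ht
    simp only [Finset.mem_filter, Finset.mem_univ, true_and] at ht
    refine ⟨(s ∩ t, t \ s), ?_, ?_⟩
    · simp only [Finset.mem_product, Finset.mem_powersetCard]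
      refine ⟨⟨Finset.inter_subset_left, ht.2⟩, ?_, ?_⟩
      · intro x hx
        exact Finset.mem_compl.mpr (Finset.mem_sdiff.mp hx).2
      · have : (t \ s).card + (s ∩ t).card = t.card := by
          rw [Finset.inter_comm]
          exact Finset.card_sdiff_add_card_inter t s
        omega
    · ext x
      simp only [Finset.mem_union, Finset.mem_sdiff, Finset.mem_inter]
      tauto

theorem ncard_inter_card {α : Type*} [Fintype α] [DecidableEq α] (s : Finset α) (k j : ℕ)
    (hjk : j ≤ k) :
    {t : Finset α | t.card = k ∧ (s ∩ t).card = j}.ncard =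
      (s.card.choose j) * ((Fintype.card α - s.card).choose (k - j)) := by
  rw [← card_filter_inter_card s k j hjk, ← Set.ncard_coe_finset]
  congr 1
  ext t
  simp

theorem ncard_card_eq {α : Type*} [Fintype α] [DecidableEq α] (k : ℕ) :
    {t : Finset α | t.card = k}.ncard = (Fintype.card α).choose k := by
  rw [← Finset.card_univ, ← Finset.card_powersetCard, ← Set.ncard_coe_finset]
  congr 1
  ext t
  simp

theorem card_golayPt' : Fintype.card GolayPt = 24 := by decide

/-- The `M24`-orbit of a `k`-set for `k ≤ 5` consists of all `k`-sets. -/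
theorem orbit_of_card_le_five (s : Finset GolayPt) (hs : s.card ≤ 5) :
    MulAction.orbit M24 s = {t : Finset GolayPt | t.card = s.card} := by
  ext t
  constructor
  · rintro ⟨g, rfl⟩
    show (g • s).card = s.card
    exact Finset.card_smul_finset _ _
  · intro ht
    have ht' : t.card = s.card := ht
    obtain ⟨g, hg, -, h⟩ := m24_trans_pair ∅ s t (by simp) (by simp) (by simpa using ht'.symm)
      (by simpa using hs)
    exact ⟨⟨g, hg⟩, h⟩

end Cfsg.Agent.Helper26
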