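import Mathlib
import Cfsg.Prelude.Def_SporadicCombinatorics
import Cfsg.Agent.Lib.Helper26.GolayFacts
import Cfsg.Agent.Lib.Helper26.SubsetTrans

set_option autoImplicit false
open scoped Pointwise
open Cfsg

namespace Cfsg.Agent.Helper26

/-- The octads containing a given set. -/
noncomputable def octsOver (t : Finset GolayPt) : Finset (Finset GolayPt) :=
  octadFinset.filter (fun o => t ⊆ o)

theorem mem_octsOver {t o : Finset GolayPt} : o ∈ octsOver t ↔ o ∈ octads ∧ t ⊆ o := by
  unfold octsOver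
  rw [Finset.mem_filter, mem_octadFinset]

/-- The sextet determined by a tetrad. -/
noncomputable def sx (t : Finset GolayPt) : Finset (Finset GolayPt) :=
  insert t ((octsOver t).image (fun o => o \ t))

theorem mem_sx {t u : Finset GolayPt} : u ∈ sx t ↔ u = t ∨ ∃ o ∈ octsOver t, o \ t = u := by
  unfold sx
  rw [Finset.mem_insert, Finset.mem_image]

theorem mem_sx_self (t : Finset GolayPt) : t ∈ sx t := mem_sx.mpr (Or.inl rfl)

theorem inter_eq_of_mem_octsOver {t o o' : Finset GolayPt} (ht : t.card = 4)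
    (ho : o ∈ octsOver t) (ho' : o' ∈ octsOver t) (hne : o ≠ o') : o ∩ o' = t := by
  rw [mem_octsOver] at ho ho'
  have h1 := card_inter_le_four ho.1 ho'.1 hne
  have h2 : t ⊆ o ∩ o' := Finset.subset_inter ho.2 ho'.2
  exact (Finset.eq_of_subset_of_card_le h2 (by rw [ht]; exact h1)).symm

theorem existsUnique_octsOver {t : Finset GolayPt} (ht : t.card = 4) {x : GolayPt} (hx : x ∉ t) :
    ∃! o, o ∈ octsOver t ∧ x ∈ o := by
  have h5 : (insert x t).card = 5 := by rw [Finset.card_insert_of_notMem hx, ht]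
  obtain ⟨o, ⟨ho, hso⟩, huniq⟩ := octads_isSteinerSystem.2 (insert x t) h5
  refine ⟨o, ⟨mem_octsOver.mpr ⟨ho, (Finset.subset_insert x t).trans hso⟩,
    hso (Finset.mem_insert_self x t)⟩, ?_⟩
  rintro o' ⟨ho', hxo'⟩
  rw [mem_octsOver] at ho'
  apply huniq
  refine ⟨ho'.1, ?_⟩
  intro y hy
  rcases Finset.mem_insert.mp hy with rfl | hy
  · exact hxo'
  · exact ho'.2 hy

theorem card_sdiff_of_mem_octsOver {t o : Finset GolayPt} (ht : t.card = 4)
    (ho : o ∈ octsOver t) : (o \ t).card = 4 := by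
  rw [mem_octsOver] at ho
  rw [Finset.card_sdiff_of_subset ho.2, ho.1.2, ht]

theorem sdiff_disjoint {t o o' : Finset GolayPt} (ht : t.card = 4)
    (ho : o ∈ octsOver t) (ho' : o' ∈ octsOver t) (hne : o ≠ o') : Disjoint (o \ t) (o' \ t) := by
  rw [Finset.disjoint_left]
  intro x hx hx'
  rw [Finset.mem_sdiff] at hx hx'
  have : x ∈ o ∩ o' := Finset.mem_inter.mpr ⟨hx.1, hx'.1⟩
  rw [inter_eq_of_mem_octsOver ht ho ho' hne] at this
  exact hx.2 this

theorem biUnion_octsOver {t : Finset GolayPt} (ht : t.card = 4) :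
    (octsOver t).biUnion (fun o => o \ t) = tᶜ := by
  ext x
  rw [Finset.mem_biUnion, Finset.mem_compl]
  constructor
  · rintro ⟨o, _, hx⟩
    exact (Finset.mem_sdiff.mp hx).2
  · intro hx
    obtain ⟨o, ⟨ho, hxo⟩, _⟩ := existsUnique_octsOver ht hx
    exact ⟨o, ho, Finset.mem_sdiff.mpr ⟨hxo, hx⟩⟩

theorem card_octsOver {t : Finset GolayPt} (ht : t.card = 4) : (octsOver t).card = 5 := by
  have h1 := congrArg Finset.card (biUnion_octsOver ht)
  rw [Finset.card_biUnion (fun o ho o' ho' hne => sdiff_disjoint ht ho ho' hne),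
    Finset.sum_congr rfl (fun o ho => card_sdiff_of_mem_octsOver ht ho), Finset.sum_const,
    Finset.card_compl, ht, card_golayPt'] at h1
  simp only [smul_eq_mul] at h1
  omega

theorem sdiff_injOn {t : Finset GolayPt} (ht : t.card = 4) :
    Set.InjOn (fun o : Finset GolayPt => o \ t) (octsOver t : Set (Finset GolayPt)) := by
  intro o ho o' ho' heq
  by_contra hne
  have hd := sdiff_disjoint ht ho ho' hne
  simp only at heq
  rw [heq, Finset.disjoint_self_iff_empty] at hd
  have := card_sdiff_of_mem_octsOver ht ho'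
  rw [hd] at this
  simp at this

theorem card_sx {t : Finset GolayPt} (ht : t.card = 4) : (sx t).card = 6 := by
  unfold sx
  rw [Finset.card_insert_of_notMem, Finset.card_image_of_injOn (sdiff_injOn ht), card_octsOver ht]
  intro h
  rw [Finset.mem_image] at h
  obtain ⟨o, ho, heq⟩ := h
  have h1 : (o \ t) \ t = o \ t := by simp
  rw [heq, Finset.sdiff_self] at h1
  rw [← h1] at ht
  simp at ht

theorem card_of_mem_sx {t u : Finset GolayPt} (ht : t.card = 4) (hu : u ∈ sx t) : u.card = 4 := by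
  rcases mem_sx.mp hu with rfl | ⟨o, ho, rfl⟩
  · exact ht
  · exact card_sdiff_of_mem_octsOver ht ho

theorem union_mem_octads_of_mem_sx {t u v : Finset GolayPt} (ht : t.card = 4) (hu : u ∈ sx t)
    (hv : v ∈ sx t) (hne : u ≠ v) : u ∪ v ∈ octads := by
  have key1 : ∀ o ∈ octsOver t, t ∪ o \ t ∈ octads := by
    intro o ho
    have ho' := mem_octsOver.mp ho
    rw [Finset.union_sdiff_of_subset ho'.2]
    exact ho'.1
  rcases mem_sx.mp hu with rfl | ⟨o, ho, rfl⟩
  · rcases mem_sx.mp hv with rfl | ⟨o', ho', rfl⟩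
    · exact absurd rfl hne
    · exact key1 o' ho'
  · rcases mem_sx.mp hv with rfl | ⟨o', ho', rfl⟩
    · rw [Finset.union_comm]
      exact key1 o ho
    · have hoo : o ≠ o' := by
        rintro rfl
        exact hne rfl
      have hi := inter_eq_of_mem_octsOver ht ho ho' hoo
      have hsd : o \ t ∪ o' \ t = symmDiff o o' := by
        ext x
        simp only [Finset.mem_union, Finset.mem_sdiff, Finset.mem_symmDiff, ← hi,
          Finset.mem_inter]
        tauto
      rw [hsd]
      refine ⟨codeSets_symmDiff (mem_octsOver.mp ho).1.1 (mem_octsOver.mp ho').1.1, ?_⟩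
      rw [← hsd, Finset.card_union_of_disjoint (sdiff_disjoint ht ho ho' hoo),
        card_sdiff_of_mem_octsOver ht ho, card_sdiff_of_mem_octsOver ht ho']

/-- The sextet of a tetrad is a sextet. -/
theorem sx_mem_sextets {t : Finset GolayPt} (ht : t.card = 4) : sx t ∈ sextets :=
  ⟨card_sx ht, fun _ hu => card_of_mem_sx ht hu,
    fun _ hu _ hv hne => union_mem_octads_of_mem_sx ht hu hv hne⟩

theorem card_of_mem_sextet {S : Finset (Finset GolayPt)} (hS : S ∈ sextets) {t : Finset GolayPt}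
    (ht : t ∈ S) : t.card = 4 := hS.2.1 t ht

theorem disjoint_of_mem_sextet {S : Finset (Finset GolayPt)} (hS : S ∈ sextets)
    {t u : Finset GolayPt} (ht : t ∈ S) (hu : u ∈ S) (hne : t ≠ u) : Disjoint t u := by
  have h8 := (hS.2.2 t ht u hu hne).2
  have h1 := Finset.card_union_add_card_inter t u
  rw [h8, card_of_mem_sextet hS ht, card_of_mem_sextet hS hu] at h1
  rw [Finset.disjoint_iff_inter_eq_empty, ← Finset.card_eq_zero]
  omega

/-- A sextet is determined by any of its tetrads. -/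
theorem sextet_eq_sx {S : Finset (Finset GolayPt)} (hS : S ∈ sextets) {t : Finset GolayPt}
    (ht : t ∈ S) : S = sx t := by
  have ht4 := card_of_mem_sextet hS ht
  apply Finset.eq_of_subset_of_card_le
  · intro u hu
    by_cases hne : u = t
    · rw [hne]; exact mem_sx_self t
    · have hne' : t ≠ u := fun h => hne h.symm
      have hoct := hS.2.2 t ht u hu hne'
      have hd := disjoint_of_mem_sextet hS ht hu hne'
      rw [mem_sx]
      right
      refine ⟨t ∪ u, mem_octsOver.mpr ⟨hoct, Finset.subset_union_left⟩, ?_⟩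
      rw [Finset.union_sdiff_cancel_left hd]
  · rw [card_sx ht4, hS.1]

theorem sx_eq_of_mem {t u : Finset GolayPt} (ht : t.card = 4) (hu : u ∈ sx t) : sx u = sx t :=
  (sextet_eq_sx (sx_mem_sextets ht) hu).symm

/-- Every tetrad lies in exactly one sextet. -/
theorem existsUnique_sextet {t : Finset GolayPt} (ht : t.card = 4) :
    ∃! S : Finset (Finset GolayPt), S ∈ sextets ∧ t ∈ S :=
  ⟨sx t, ⟨sx_mem_sextets ht, mem_sx_self t⟩, fun _ hS => sextet_eq_sx hS.1 hS.2⟩

theorem sextet_nonempty {S : Finset (Finset GolayPt)} (hS : S ∈ sextets) : ∃ t, t ∈ S := by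
  have : S.Nonempty := by
    rw [← Finset.card_pos, hS.1]; norm_num
  exact this

/-- The tetrads of a sextet cover the 24 points. -/
theorem exists_mem_of_sextet {S : Finset (Finset GolayPt)} (hS : S ∈ sextets) (p : GolayPt) :
    ∃ t ∈ S, p ∈ t := by
  obtain ⟨t, ht⟩ := sextet_nonempty hS
  have ht4 := card_of_mem_sextet hS ht
  by_cases hp : p ∈ t
  · exact ⟨t, ht, hp⟩
  · obtain ⟨o, ⟨ho, hpo⟩, _⟩ := existsUnique_octsOver ht4 hp
    refine ⟨o \ t, ?_, Finset.mem_sdiff.mpr ⟨hpo, hp⟩⟩
    rw [sextet_eq_sx hS ht, mem_sx]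
    exact Or.inr ⟨o, ho, rfl⟩

theorem eq_of_mem_of_mem_sextet {S : Finset (Finset GolayPt)} (hS : S ∈ sextets) {p : GolayPt}
    {t u : Finset GolayPt} (ht : t ∈ S) (hu : u ∈ S) (hpt : p ∈ t) (hpu : p ∈ u) : t = u := by
  by_contra hne
  exact Finset.disjoint_left.mp (disjoint_of_mem_sextet hS ht hu hne) hpt hpu

/-! ### The action of `M24` -/

theorem smul_mem_octads' {g : Equiv.Perm GolayPt} (hg : g ∈ M24) {o : Finset GolayPt}
    (ho : o ∈ octads) : g • o ∈ octads := by
  refine ⟨?_, ?_⟩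
  · have hg2 : g • supports (golayCode : Set (GolayPt → ZMod 2)) =
        supports (golayCode : Set (GolayPt → ZMod 2)) := hg
    rw [← hg2]
    exact Set.smul_mem_smul_set ho.1
  · rw [Finset.card_smul_finset]; exact ho.2

theorem smul_mem_sextets {g : Equiv.Perm GolayPt} (hg : g ∈ M24) {S : Finset (Finset GolayPt)}
    (hS : S ∈ sextets) : g • S ∈ sextets := by
  refine ⟨?_, ?_, ?_⟩
  · rw [Finset.card_smul_finset]; exact hS.1
  · intro t ht
    obtain ⟨t', ht', rfl⟩ := Finset.mem_smul_finset.mp ht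
    rw [Finset.card_smul_finset]
    exact hS.2.1 t' ht'
  · intro t ht u hu hne
    obtain ⟨t', ht', rfl⟩ := Finset.mem_smul_finset.mp ht
    obtain ⟨u', hu', rfl⟩ := Finset.mem_smul_finset.mp hu
    rw [← Finset.smul_finset_union]
    apply smul_mem_octads' hg
    apply hS.2.2 t' ht' u' hu'
    rintro rfl
    exact hne rfl

theorem smul_mem_sextets_iff {g : Equiv.Perm GolayPt} (hg : g ∈ M24)
    {S : Finset (Finset GolayPt)} : g • S ∈ sextets ↔ S ∈ sextets := by
  constructor
  · intro h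
    have := smul_mem_sextets (M24.inv_mem hg) h
    rwa [inv_smul_smul] at this
  · exact smul_mem_sextets hg

theorem smul_sx {g : Equiv.Perm GolayPt} (hg : g ∈ M24) {t : Finset GolayPt} (ht : t.card = 4) :
    g • sx t = sx (g • t) :=
  sextet_eq_sx (smul_mem_sextets hg (sx_mem_sextets ht))
    (Finset.smul_mem_smul_finset (mem_sx_self t))

/-- `M24` is transitive on sextets. -/
theorem sextets_transitive {S S' : Finset (Finset GolayPt)} (hS : S ∈ sextets)
    (hS' : S' ∈ sextets) : ∃ g ∈ M24, g • S = S' := by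
  obtain ⟨t, ht⟩ := sextet_nonempty hS
  obtain ⟨t', ht'⟩ := sextet_nonempty hS'
  have ht4 := card_of_mem_sextet hS ht
  have ht4' := card_of_mem_sextet hS' ht'
  obtain ⟨g, hg, -, h⟩ := m24_trans_pair ∅ t t' (by simp) (by simp)
    (by simp [ht4, ht4']) (by simp [ht4])
  refine ⟨g, hg, ?_⟩
  rw [sextet_eq_sx hS ht, smul_sx hg ht4, h, ← sextet_eq_sx hS' ht']

/-! ### Counting -/

theorem sextets_eq_image (p : GolayPt) :
    sextets = sx '' {t : Finset GolayPt | t.card = 4 ∧ ({p} ∩ t).card = 1} := by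
  ext S
  constructor
  · intro hS
    obtain ⟨t, ht, hpt⟩ := exists_mem_of_sextet hS p
    refine ⟨t, ⟨card_of_mem_sextet hS ht, ?_⟩, (sextet_eq_sx hS ht).symm⟩
    rw [Finset.singleton_inter_of_mem hpt, Finset.card_singleton]
  · rintro ⟨t, ⟨ht, _⟩, rfl⟩
    exact sx_mem_sextets ht

theorem sx_injOn (p : GolayPt) :
    Set.InjOn sx {t : Finset GolayPt | t.card = 4 ∧ ({p} ∩ t).card = 1} := by
  rintro t ⟨ht, hpt⟩ u ⟨hu, hpu⟩ heq
  have hmem : ∀ v : Finset GolayPt, ({p} ∩ v).card = 1 → p ∈ v := by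
    intro v hv
    by_contra hp
    rw [Finset.singleton_inter_of_notMem hp] at hv
    simp at hv
  have h1 : u ∈ sx t := by rw [heq]; exact mem_sx_self u
  exact eq_of_mem_of_mem_sextet (sx_mem_sextets ht) (mem_sx_self t) h1 (hmem t hpt) (hmem u hpu)

/-- There are exactly 1771 sextets. -/
theorem ncard_sextets : sextets.ncard = 1771 := by
  rw [sextets_eq_image none, Set.InjOn.ncard_image (sx_injOn none),
    ncard_inter_card {none} 4 1 (by norm_num), card_golayPt']
  decide

end Cfsg.Agent.Helper26
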