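import Mathlib
import Cfsg.Agent.Lib.Helper26.SextetData
import Cfsg.Agent.Lib.Helper26.Sextets

set_option autoImplicit false
open scoped Pointwise
open Cfsg

namespace Cfsg.Agent.Helper26

open Cfsg.Agent.Helper27

/-! ### Mask-level sextets -/

theorem sextetOK_spec {L : List ℕ} (h : sextetOK L = true) :
    L.length = 6 ∧ L.Nodup ∧ (∀ a ∈ L, pop a = 4 ∧ a < 2 ^ 24) ∧
      ∀ a ∈ L, ∀ b ∈ L, a = b ∨ isOctM (a ||| b) = true := by
  unfold sextetOK at h
  simp only [Bool.and_eq_true, List.all_eq_true, Bool.or_eq_true] at h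
  obtain ⟨⟨⟨h1, h2⟩, h3⟩, h4⟩ := h
  refine ⟨Nat.eq_of_beq_eq_true h1, nodup_of_incrBy _ _ h2, ?_, ?_⟩
  · intro a ha
    have := h3 a ha
    refine ⟨Nat.eq_of_beq_eq_true this.1, ?_⟩
    have h5 := this.2
    simp only [Nat.blt_eq] at h5
    exact h5
  · intro a ha b hb
    rcases h4 a ha b hb with h5 | h5
    · exact Or.inl (Nat.eq_of_beq_eq_true h5)
    · exact Or.inr h5

theorem toQ_mem_sextets {L : List ℕ} (h : sextetOK L = true) : toQ L ∈ sextets := by
  obtain ⟨h1, h2, h3, h4⟩ := sextetOK_spec h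
  refine ⟨?_, ?_, ?_⟩
  · rw [card_toQ h2 (fun m hm => (h3 m hm).2), h1]
  · intro t ht
    obtain ⟨m, hm, rfl⟩ := mem_toQ.mp ht
    rw [card_toFinset, (h3 m hm).1]
  · intro t ht u hu hne
    obtain ⟨a, ha, rfl⟩ := mem_toQ.mp ht
    obtain ⟨b, hb, rfl⟩ := mem_toQ.mp hu
    rcases h4 a ha b hb with rfl | h5
    · exact absurd rfl hne
    · rw [← toFinset_or]
      exact toFinset_mem_octads_of_isOctM h5

theorem sextetOK_nodup {L : List ℕ} (h : sextetOK L = true) : (L.map toFinset).Nodup := by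
  obtain ⟨_, h2, h3, _⟩ := sextetOK_spec h
  exact nodup_map_toFinset h2 (fun m hm => (h3 m hm).2)

/-- The base sextet. -/
def sxS0 : Finset (Finset GolayPt) := toQ sxS0L

/-- The representatives of the four orbits. -/
def sxX (i : ℕ) : Finset (Finset GolayPt) := toQ (sxXL i)

theorem sxX_zero : sxX 0 = sxS0 := rfl

theorem sxX_mem {i : ℕ} (hi : i < 4) : sxX i ∈ sextets := toQ_mem_sextets (sxXL_ok i hi).1

theorem sxS0_mem : sxS0 ∈ sextets := sxX_mem (i := 0) (by norm_num)

theorem sxRep_mem {i : ℕ} (hi : i < 4) : toFinset (sxRep i) ∈ sxX i :=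
  mem_toQ.mpr ⟨sxRep i, (sxXL_ok i hi).2, rfl⟩

theorem sxRep_card {i : ℕ} (hi : i < 4) : (toFinset (sxRep i)).card = 4 :=
  card_of_mem_sextet (sxX_mem hi) (sxRep_mem hi)

theorem sxX_eq {i : ℕ} (hi : i < 4) : sxX i = sx (toFinset (sxRep i)) :=
  sextet_eq_sx (sxX_mem hi) (sxRep_mem hi)

theorem pat_sxX {i : ℕ} (hi : i < 4) : pat sxS0 (sxX i) = sxPat i := by
  show pat (toQ (sxXL 0)) (toQ (sxXL i)) = sxPat i
  rw [pat_toQ (sextetOK_nodup (sxXL_ok 0 (by norm_num)).1) (sextetOK_nodup (sxXL_ok i hi).1)]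
  exact sxPat_ok i hi

theorem sx_eq_of_sameSx {t a : ℕ} (ha : pop a = 4) (h : sameSx t a = true) :
    sx (toFinset t) = sx (toFinset a) := by
  unfold sameSx at h
  rw [Bool.or_eq_true, Bool.and_eq_true] at h
  rcases h with h | ⟨h1, h2⟩
  · rw [Nat.eq_of_beq_eq_true h]
  · have h1' : t &&& a = 0 := Nat.eq_of_beq_eq_true h1
    have hoct : toFinset (t ||| a) ∈ octads := toFinset_mem_octads_of_isOctM h2
    have hdisj : toFinset t ∩ toFinset a = ∅ := by
      rw [← toFinset_and, h1', toFinset_zero]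
    have ha4 : (toFinset a).card = 4 := by rw [card_toFinset, ha]
    apply sx_eq_of_mem ha4
    rw [mem_sx]
    right
    refine ⟨toFinset (t ||| a), mem_octsOver.mpr ⟨hoct, ?_⟩, ?_⟩
    · rw [toFinset_or]; exact Finset.subset_union_right
    · rw [toFinset_or, Finset.union_sdiff_cancel_right
        (Finset.disjoint_iff_inter_eq_empty.mpr hdisj)]

theorem sxItems_spec {it : ℕ} (hit : it ∈ sxItems) :
    pop (it / 4) = 4 ∧ (it / 4) % 2 = 1 ∧ it / 4 < 2 ^ 24 := by
  have := List.all_eq_true.mp sxItems_ok it hit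
  simp only [Bool.and_eq_true, Nat.blt_eq] at this
  exact ⟨Nat.eq_of_beq_eq_true this.1.1, Nat.eq_of_beq_eq_true this.1.2, this.2⟩

/-- Every listed sextet is in the orbit of the representative of its class. -/
theorem sx_reach {it : ℕ} (hit : it ∈ sxItems) :
    ∃ g ∈ famStab sxS0, g • sxX (it % 4) = sx (toFinset (it / 4)) := by
  obtain ⟨x, hok, g, hg, hx⟩ := certCheckP_spec (gensIn_of_famOK sxGens_ok) sxOk
    (fun it => [sxRep (it % 4)]) sxItems sxWords sxCert it hit
  have hi : it % 4 < 4 := Nat.mod_lt _ (by norm_num)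
  refine ⟨g, hg, ?_⟩
  match x, hok, hx with
  | [t], hok, hx =>
    have hsame : sameSx t (it / 4) = true := hok
    have ht : toFinset t = g • toFinset (sxRep (it % 4)) := by
      simpa using hx
    rw [sxX_eq hi, smul_sx hg.1 (sxRep_card hi), ← ht]
    exact sx_eq_of_sameSx (sxItems_spec hit).1 hsame

/-! ### The listed masks are all 4-sets containing the point `0` -/

theorem sxMasks_nodup : (sxItems.map (fun it => it / 4)).Nodup := by
  have h := incrBy_pairwise (fun it => it / 4) sxItems sxItems_incr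
  have h2 : (sxItems.map (fun it => it / 4)).Pairwise (· < ·) := List.pairwise_map.mpr h
  exact h2.imp (fun hab => ne_of_lt hab)

/-- The point `0`. -/
def p0 : GolayPt := some 0

theorem pt0_mem_iff (m : ℕ) : p0 ∈ toFinset m ↔ m % 2 = 1 := by
  rw [mem_toFinset]
  have : Helper27.idx p0 = 0 := by decide
  rw [this, Nat.testBit_zero]
  simp

theorem exists_item_of_tetrad {t : Finset GolayPt} (ht : t.card = 4) (h0 : p0 ∈ t) :
    ∃ it ∈ sxItems, t = toFinset (it / 4) := by
  have hC : {t : Finset GolayPt | t.card = 4 ∧ ({p0} ∩ t).card = 1}.ncard = 1771 := by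
    rw [ncard_inter_card {p0} 4 1 (by norm_num), card_golayPt']
    decide
  have hlt : ∀ m ∈ sxItems.map (fun it => it / 4), m < 2 ^ 24 := by
    intro m hm
    obtain ⟨it, hit, rfl⟩ := List.mem_map.mp hm
    exact (sxItems_spec hit).2.2
  have hL := ncard_of_list (sxItems.map (fun it => it / 4)) sxMasks_nodup hlt
  rw [List.length_map, sxItems_length] at hL
  have hsub : {s : Finset GolayPt | ∃ m ∈ sxItems.map (fun it => it / 4), s = toFinset m} ⊆
      {t : Finset GolayPt | t.card = 4 ∧ ({p0} ∩ t).card = 1} := by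
    rintro s ⟨m, hm, rfl⟩
    obtain ⟨it, hit, rfl⟩ := List.mem_map.mp hm
    obtain ⟨h1, h2, _⟩ := sxItems_spec hit
    refine ⟨by rw [card_toFinset, h1], ?_⟩
    rw [Finset.singleton_inter_of_mem ((pt0_mem_iff _).mpr h2), Finset.card_singleton]
  have heq := Set.eq_of_subset_of_ncard_le hsub (by rw [hC, hL]) (Set.toFinite _)
  have hmem : t ∈ {t : Finset GolayPt | t.card = 4 ∧ ({p0} ∩ t).card = 1} := by
    refine ⟨ht, ?_⟩
    rw [Finset.singleton_inter_of_mem h0, Finset.card_singleton]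
  rw [← heq] at hmem
  obtain ⟨m, hm, rfl⟩ := hmem
  obtain ⟨it, hit, rfl⟩ := List.mem_map.mp hm
  exact ⟨it, hit, rfl⟩

theorem exists_item_of_sextet {X : Finset (Finset GolayPt)} (hX : X ∈ sextets) :
    ∃ it ∈ sxItems, X = sx (toFinset (it / 4)) := by
  obtain ⟨t, ht, h0⟩ := exists_mem_of_sextet hX (p0)
  obtain ⟨it, hit, rfl⟩ := exists_item_of_tetrad (card_of_mem_sextet hX ht) h0
  exact ⟨it, hit, sextet_eq_sx hX ht⟩

/-! ### Base facts -/

theorem pat_famStab {Q : Finset (Finset GolayPt)} {g : Equiv.Perm GolayPt} (hg : g ∈ famStab Q)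
    (X : Finset (Finset GolayPt)) : pat Q (g • X) = pat Q X := by
  conv_lhs => rw [← hg.2]
  exact pat_smul g Q X

theorem base_class {X : Finset (Finset GolayPt)} (hX : X ∈ sextets) :
    ∃ i < 4, pat sxS0 X = sxPat i ∧ ∃ g ∈ famStab sxS0, g • sxX i = X := by
  obtain ⟨it, hit, rfl⟩ := exists_item_of_sextet hX
  obtain ⟨g, hg, h⟩ := sx_reach hit
  have hi : it % 4 < 4 := Nat.mod_lt _ (by norm_num)
  refine ⟨it % 4, hi, ?_, g, hg, h⟩
  rw [← h, pat_famStab hg, pat_sxX hi]

theorem base_pat_zero {X : Finset (Finset GolayPt)} (hX : X ∈ sextets) :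
    pat sxS0 X = sxPat 0 ↔ X = sxS0 := by
  constructor
  · intro h
    obtain ⟨i, hi, hp, g, hg, rfl⟩ := base_class hX
    have : i = 0 := sxPat_inj i hi 0 (by norm_num) (hp.symm.trans h)
    subst this
    exact hg.2
  · rintro rfl
    exact pat_sxX (i := 0) (by norm_num)

theorem base_trans {X X' : Finset (Finset GolayPt)} (hX : X ∈ sextets) (hX' : X' ∈ sextets)
    (h : pat sxS0 X = pat sxS0 X') : ∃ g ∈ famStab sxS0, g • X = X' := by
  obtain ⟨i, hi, hp, g, hg, rfl⟩ := base_class hX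
  obtain ⟨j, hj, hp', g', hg', rfl⟩ := base_class hX'
  have : i = j := sxPat_inj i hi j hj (hp.symm.trans (h.trans hp'))
  subst this
  refine ⟨g' * g⁻¹, (famStab sxS0).mul_mem hg' ((famStab sxS0).inv_mem hg), ?_⟩
  rw [mul_smul, inv_smul_smul]

theorem ncard_image_list {β : Type*} (f : ℕ → β) (L : List ℕ) (hnd : L.Nodup)
    (hinj : ∀ a ∈ L, ∀ b ∈ L, f a = f b → a = b) : (f '' {a | a ∈ L}).ncard = L.length := by
  have h1 := Set.InjOn.ncard_image (f := f) (s := {a | a ∈ L}) (fun a ha b hb => hinj a ha b hb)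
  rw [h1]
  have : {a | a ∈ L} = (↑L.toFinset : Set ℕ) := by
    ext a; simp
  rw [this, Set.ncard_coe_finset, List.toFinset_card_of_nodup hnd]

theorem sxItems_nodup : sxItems.Nodup := nodup_of_incrBy _ _ sxItems_incr

theorem base_set_eq {i : ℕ} (hi : i < 4) :
    {X : Finset (Finset GolayPt) | X ∈ sextets ∧ pat sxS0 X = sxPat i} =
      (fun it => sx (toFinset (it / 4))) '' {it | it ∈ sxItems.filter (fun it => it % 4 == i)} := by
  ext X
  constructor
  · rintro ⟨hX, hp⟩
    obtain ⟨it, hit, rfl⟩ := exists_item_of_sextet hX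
    refine ⟨it, ?_, rfl⟩
    show it ∈ sxItems.filter (fun it => it % 4 == i)
    rw [List.mem_filter, beq_iff_eq]
    refine ⟨hit, ?_⟩
    obtain ⟨g, hg, h⟩ := sx_reach hit
    have hi' : it % 4 < 4 := Nat.mod_lt _ (by norm_num)
    rw [← h, pat_famStab hg, pat_sxX hi'] at hp
    exact sxPat_inj _ hi' i hi hp
  · rintro ⟨it, hit, rfl⟩
    have hit' : it ∈ sxItems.filter (fun it => it % 4 == i) := hit
    rw [List.mem_filter, beq_iff_eq] at hit'
    obtain ⟨hit1, hit2⟩ := hit'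
    obtain ⟨g, hg, h⟩ := sx_reach hit1
    show sx (toFinset (it / 4)) ∈ sextets ∧ pat sxS0 (sx (toFinset (it / 4))) = sxPat i
    refine ⟨?_, ?_⟩
    · rw [← h]
      exact smul_mem_sextets hg.1 (sxX_mem (Nat.mod_lt _ (by norm_num)))
    · rw [← h, pat_famStab hg, hit2, pat_sxX hi]

theorem base_count {i : ℕ} (hi : i < 4) :
    {X : Finset (Finset GolayPt) | X ∈ sextets ∧ pat sxS0 X = sxPat i}.ncard =
      [1, 90, 240, 1440].getD i 0 := by
  rw [base_set_eq hi, ncard_image_list _ _ (sxItems_nodup.filter _), sxItems_count i hi]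
  intro a ha b hb hab
  have ha' := List.mem_of_mem_filter ha
  have hb' := List.mem_of_mem_filter hb
  obtain ⟨a1, a2, a3⟩ := sxItems_spec ha'
  obtain ⟨b1, b2, b3⟩ := sxItems_spec hb'
  have hmemC : ∀ m : ℕ, pop m = 4 → m % 2 = 1 →
      toFinset m ∈ {t : Finset GolayPt | t.card = 4 ∧ ({p0} ∩ t).card = 1} := by
    intro m h1 h2
    refine ⟨by rw [card_toFinset, h1], ?_⟩
    rw [Finset.singleton_inter_of_mem ((pt0_mem_iff _).mpr h2), Finset.card_singleton]
  have h1 := sx_injOn (p0) (hmemC _ a1 a2) (hmemC _ b1 b2) hab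
  have h2 := toFinset_inj a3 b3 h1
  exact List.inj_on_of_nodup_map sxMasks_nodup ha' hb' h2

/-! ### General facts, by transport -/

theorem exists_smul_base {S : Finset (Finset GolayPt)} (hS : S ∈ sextets) :
    ∃ h ∈ M24, h • sxS0 = S := sextets_transitive sxS0_mem hS

theorem pat_transport (h : Equiv.Perm GolayPt) (Q X : Finset (Finset GolayPt)) :
    pat (h • Q) X = pat Q (h⁻¹ • X) := by
  conv_lhs => rw [← smul_inv_smul h X]
  exact pat_smul h Q _

/-- The pattern of two sextets takes one of four values. -/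
theorem sextet_class {S X : Finset (Finset GolayPt)} (hS : S ∈ sextets) (hX : X ∈ sextets) :
    ∃ i < 4, pat S X = sxPat i := by
  obtain ⟨h, hh, rfl⟩ := exists_smul_base hS
  rw [pat_transport]
  obtain ⟨i, hi, hp, _⟩ := base_class (smul_mem_sextets (M24.inv_mem hh) hX)
  exact ⟨i, hi, hp⟩

theorem sextet_pat_zero {S X : Finset (Finset GolayPt)} (hS : S ∈ sextets) (hX : X ∈ sextets) :
    pat S X = sxPat 0 ↔ X = S := by
  obtain ⟨h, hh, rfl⟩ := exists_smul_base hS
  rw [pat_transport, base_pat_zero (smul_mem_sextets (M24.inv_mem hh) hX), inv_smul_eq_iff]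

theorem sextet_trans {S X X' : Finset (Finset GolayPt)} (hS : S ∈ sextets) (hX : X ∈ sextets)
    (hX' : X' ∈ sextets) (hp : pat S X = pat S X') : ∃ g ∈ M24, g • S = S ∧ g • X = X' := by
  obtain ⟨h, hh, rfl⟩ := exists_smul_base hS
  rw [pat_transport, pat_transport] at hp
  obtain ⟨g, hg, hgX⟩ := base_trans (smul_mem_sextets (M24.inv_mem hh) hX)
    (smul_mem_sextets (M24.inv_mem hh) hX') hp
  refine ⟨h * g * h⁻¹, M24.mul_mem (M24.mul_mem hh hg.1) (M24.inv_mem hh), ?_, ?_⟩
  · rw [mul_smul, mul_smul, inv_smul_smul, hg.2]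
  · rw [mul_smul, mul_smul, hgX, smul_inv_smul]

theorem sextet_count {S : Finset (Finset GolayPt)} (hS : S ∈ sextets) {i : ℕ} (hi : i < 4) :
    {X : Finset (Finset GolayPt) | X ∈ sextets ∧ pat S X = sxPat i}.ncard =
      [1, 90, 240, 1440].getD i 0 := by
  obtain ⟨h, hh, rfl⟩ := exists_smul_base hS
  rw [← base_count hi]
  have : {X : Finset (Finset GolayPt) | X ∈ sextets ∧ pat (h • sxS0) X = sxPat i} =
      (fun X => h • X) '' {X : Finset (Finset GolayPt) | X ∈ sextets ∧ pat sxS0 X = sxPat i} := by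
    ext X
    constructor
    · rintro ⟨hX, hp⟩
      refine ⟨h⁻¹ • X, ⟨smul_mem_sextets (M24.inv_mem hh) hX, ?_⟩, smul_inv_smul h X⟩
      rw [← pat_transport]; exact hp
    · rintro ⟨X0, ⟨hX0, hp⟩, rfl⟩
      refine ⟨smul_mem_sextets hh hX0, ?_⟩
      rw [pat_smul]; exact hp
  rw [this, Set.ncard_image_of_injective _ (MulAction.injective h)]

end Cfsg.Agent.Helper26
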