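import Mathlib
import Cfsg.Agent.Lib.Helper26.SextetOrbits

set_option autoImplicit false
open scoped Pointwise
open Cfsg

namespace Cfsg.Agent.Helper26

open Cfsg.Agent.Helper27

/-- Data of a certified classification of the sextets under a subgroup `H` of `M24` by an
`H`-invariant function `inv`: the items are `4 * a + i` with `a` running over the canonical tetrad
masks (those of `sxItems`) and `i < k` the class; the word of an item maps the representative
tetrad `rep i` into the sextet of `a`. -/
structure SextetCert (H : Subgroup (Equiv.Perm GolayPt)) (inv : Finset (Finset GolayPt) → ℕ)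
    (k : ℕ) (rep val : ℕ → ℕ) (items : List ℕ) : Prop where
  le : H ≤ M24
  inv_smul : ∀ g ∈ H, ∀ X, inv (g • X) = inv X
  masks : items.map (fun it => it / 4) = sxItems.map (fun it => it / 4)
  cls : ∀ it ∈ items, it % 4 < k
  rep_pop : ∀ i < k, pop (rep i) = 4
  rep_inv : ∀ i < k, inv (sx (toFinset (rep i))) = val i
  val_inj : ∀ i < k, ∀ j < k, val i = val j → i = j
  reach : ∀ it ∈ items, ∃ x, sxOk it x = true ∧ ReachH H [rep (it % 4)] x

namespace SextetCert

variable {H : Subgroup (Equiv.Perm GolayPt)} {inv : Finset (Finset GolayPt) → ℕ}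
  {k : ℕ} {rep val : ℕ → ℕ} {items : List ℕ}

theorem mem_masks (C : SextetCert H inv k rep val items) {it : ℕ} (hit : it ∈ items) :
    ∃ it' ∈ sxItems, it' / 4 = it / 4 := by
  have : it / 4 ∈ items.map (fun it => it / 4) := List.mem_map.mpr ⟨it, hit, rfl⟩
  rw [C.masks] at this
  obtain ⟨it', hit', h⟩ := List.mem_map.mp this
  exact ⟨it', hit', h⟩

theorem item_spec (C : SextetCert H inv k rep val items) {it : ℕ} (hit : it ∈ items) :
    pop (it / 4) = 4 ∧ (it / 4) % 2 = 1 ∧ it / 4 < 2 ^ 24 := by
  obtain ⟨it', hit', h⟩ := C.mem_masks hit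
  rw [← h]
  exact sxItems_spec hit'

theorem rep_card (C : SextetCert H inv k rep val items) {i : ℕ} (hi : i < k) :
    (toFinset (rep i)).card = 4 := by
  rw [card_toFinset, C.rep_pop i hi]

theorem item_reach (C : SextetCert H inv k rep val items) {it : ℕ} (hit : it ∈ items) :
    ∃ g ∈ H, g • sx (toFinset (rep (it % 4))) = sx (toFinset (it / 4)) := by
  obtain ⟨x, hok, g, hg, hx⟩ := C.reach it hit
  have hi := C.cls it hit
  refine ⟨g, hg, ?_⟩
  match x, hok, hx with
  | [t], hok, hx =>
    have hsame : sameSx t (it / 4) = true := hok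
    have ht : toFinset t = g • toFinset (rep (it % 4)) := by
      simpa using hx
    rw [smul_sx (C.le hg) (C.rep_card hi), ← ht]
    exact sx_eq_of_sameSx (C.item_spec hit).1 hsame

theorem exists_item (C : SextetCert H inv k rep val items) {X : Finset (Finset GolayPt)}
    (hX : X ∈ sextets) : ∃ it ∈ items, X = sx (toFinset (it / 4)) := by
  obtain ⟨it', hit', rfl⟩ := exists_item_of_sextet hX
  have : it' / 4 ∈ sxItems.map (fun it => it / 4) := List.mem_map.mpr ⟨it', hit', rfl⟩
  rw [← C.masks] at this
  obtain ⟨it, hit, h⟩ := List.mem_map.mp this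
  exact ⟨it, hit, by rw [h]⟩

theorem rep_mem (C : SextetCert H inv k rep val items) {i : ℕ} (hi : i < k) :
    sx (toFinset (rep i)) ∈ sextets := sx_mem_sextets (C.rep_card hi)

/-- Every sextet lies in the `H`-orbit of one of the representatives. -/
theorem classify (C : SextetCert H inv k rep val items) {X : Finset (Finset GolayPt)}
    (hX : X ∈ sextets) :
    ∃ i < k, inv X = val i ∧ ∃ g ∈ H, g • sx (toFinset (rep i)) = X := by
  obtain ⟨it, hit, rfl⟩ := C.exists_item hX
  obtain ⟨g, hg, h⟩ := C.item_reach hit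
  have hi := C.cls it hit
  refine ⟨it % 4, hi, ?_, g, hg, h⟩
  rw [← h, C.inv_smul g hg, C.rep_inv _ hi]

/-- Sextets with the same invariant are conjugate under `H`. -/
theorem trans (C : SextetCert H inv k rep val items) {X X' : Finset (Finset GolayPt)}
    (hX : X ∈ sextets) (hX' : X' ∈ sextets) (h : inv X = inv X') : ∃ g ∈ H, g • X = X' := by
  obtain ⟨i, hi, hp, g, hg, rfl⟩ := C.classify hX
  obtain ⟨j, hj, hp', g', hg', rfl⟩ := C.classify hX'
  have : i = j := C.val_inj i hi j hj (hp.symm.trans (h.trans hp'))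
  subst this
  refine ⟨g' * g⁻¹, H.mul_mem hg' (H.inv_mem hg), ?_⟩
  rw [mul_smul, inv_smul_smul]

theorem masks_nodup (C : SextetCert H inv k rep val items) :
    (items.map (fun it => it / 4)).Nodup := by
  rw [C.masks]; exact sxMasks_nodup

theorem items_nodup (C : SextetCert H inv k rep val items) : items.Nodup :=
  List.Nodup.of_map _ C.masks_nodup

theorem set_eq (C : SextetCert H inv k rep val items) {i : ℕ} (hi : i < k) :
    {X : Finset (Finset GolayPt) | X ∈ sextets ∧ inv X = val i} =
      (fun it => sx (toFinset (it / 4))) '' {it | it ∈ items.filter (fun it => it % 4 == i)} := by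
  ext X
  constructor
  · rintro ⟨hX, hp⟩
    obtain ⟨it, hit, rfl⟩ := C.exists_item hX
    refine ⟨it, ?_, rfl⟩
    show it ∈ items.filter (fun it => it % 4 == i)
    rw [List.mem_filter, beq_iff_eq]
    refine ⟨hit, ?_⟩
    obtain ⟨g, hg, h⟩ := C.item_reach hit
    have hi' := C.cls it hit
    rw [← h, C.inv_smul g hg, C.rep_inv _ hi'] at hp
    exact C.val_inj _ hi' i hi hp
  · rintro ⟨it, hit, rfl⟩
    have hit' : it ∈ items.filter (fun it => it % 4 == i) := hit
    rw [List.mem_filter, beq_iff_eq] at hit'
    obtain ⟨hit1, hit2⟩ := hit'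
    obtain ⟨g, hg, h⟩ := C.item_reach hit1
    show sx (toFinset (it / 4)) ∈ sextets ∧ inv (sx (toFinset (it / 4))) = val i
    refine ⟨?_, ?_⟩
    · rw [← h]
      exact smul_mem_sextets (C.le hg) (C.rep_mem (C.cls it hit1))
    · rw [← h, C.inv_smul g hg, hit2, C.rep_inv _ hi]

/-- The number of sextets with a given invariant. -/
theorem count (C : SextetCert H inv k rep val items) {i : ℕ} (hi : i < k) :
    {X : Finset (Finset GolayPt) | X ∈ sextets ∧ inv X = val i}.ncard =
      (items.filter (fun it => it % 4 == i)).length := by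
  rw [C.set_eq hi, ncard_image_list _ _ (C.items_nodup.filter _)]
  intro a ha b hb hab
  have ha' := List.mem_of_mem_filter ha
  have hb' := List.mem_of_mem_filter hb
  obtain ⟨a1, a2, a3⟩ := C.item_spec ha'
  obtain ⟨b1, b2, b3⟩ := C.item_spec hb'
  have hmemC : ∀ m : ℕ, pop m = 4 → m % 2 = 1 →
      toFinset m ∈ {t : Finset GolayPt | t.card = 4 ∧ ({p0} ∩ t).card = 1} := by
    intro m h1 h2
    refine ⟨by rw [card_toFinset, h1], ?_⟩
    rw [Finset.singleton_inter_of_mem ((pt0_mem_iff _).mpr h2), Finset.card_singleton]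
  have h1 := sx_injOn p0 (hmemC _ a1 a2) (hmemC _ b1 b2) hab
  have h2 := toFinset_inj a3 b3 h1
  exact List.inj_on_of_nodup_map C.masks_nodup ha' hb' h2

end SextetCert

/-- Build a certificate from kernel-checked data. -/
theorem SextetCert.mk' {H : Subgroup (Equiv.Perm GolayPt)} {inv : Finset (Finset GolayPt) → ℕ}
    {k : ℕ} {rep val : ℕ → ℕ} {items : List ℕ} {gens : List (ℕ × ℕ)} {words : List (List ℕ)}
    (le : H ≤ M24) (inv_smul : ∀ g ∈ H, ∀ X, inv (g • X) = inv X)
    (hgens : GensIn H gens)
    (masks : items.map (fun it => it / 4) = sxItems.map (fun it => it / 4))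
    (cls : items.all (fun it => Nat.blt (it % 4) k) = true)
    (rep_pop : ∀ i < k, pop (rep i) = 4)
    (rep_inv : ∀ i < k, inv (sx (toFinset (rep i))) = val i)
    (val_inj : ∀ i < k, ∀ j < k, val i = val j → i = j)
    (cert : certCheckP gens sxOk (fun it => [rep (it % 4)]) items words = true) :
    SextetCert H inv k rep val items where
  le := le
  inv_smul := inv_smul
  masks := masks
  cls := fun it hit => by
    have := List.all_eq_true.mp cls it hit
    rwa [Nat.blt_eq] at this
  rep_pop := rep_pop
  rep_inv := rep_inv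
  val_inj := val_inj
  reach := certCheckP_spec hgens sxOk (fun it => [rep (it % 4)]) items words cert

end Cfsg.Agent.Helper26
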