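import Mathlib
import Cfsg.Agent.Lib.Helper26.SextetClasses

set_option autoImplicit false
open scoped Pointwise
open Cfsg

namespace Cfsg.Agent.Helper26

open Cfsg.Agent.Helper27

namespace SextetCert

variable {Q0 : Finset (Finset GolayPt)} {k : ℕ} {rep val : ℕ → ℕ} {items : List ℕ}

/-- Classification of the sextets by their pattern relative to a translate of the base family. -/
theorem pat_classify (C : SextetCert (famStab Q0) (pat Q0) k rep val items)
    {h : Equiv.Perm GolayPt} (hh : h ∈ M24) {X : Finset (Finset GolayPt)} (hX : X ∈ sextets) :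
    ∃ i < k, pat (h • Q0) X = val i := by
  rw [pat_transport]
  obtain ⟨i, hi, hp, _⟩ := C.classify (smul_mem_sextets (M24.inv_mem hh) hX)
  exact ⟨i, hi, hp⟩

theorem pat_trans (C : SextetCert (famStab Q0) (pat Q0) k rep val items)
    {h : Equiv.Perm GolayPt} (hh : h ∈ M24) {X X' : Finset (Finset GolayPt)} (hX : X ∈ sextets)
    (hX' : X' ∈ sextets) (hp : pat (h • Q0) X = pat (h • Q0) X') :
    ∃ g ∈ M24, g • (h • Q0) = h • Q0 ∧ g • X = X' := by
  rw [pat_transport, pat_transport] at hp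
  obtain ⟨g, hg, hgX⟩ := C.trans (smul_mem_sextets (M24.inv_mem hh) hX)
    (smul_mem_sextets (M24.inv_mem hh) hX') hp
  refine ⟨h * g * h⁻¹, M24.mul_mem (M24.mul_mem hh hg.1) (M24.inv_mem hh), ?_, ?_⟩
  · rw [mul_smul, mul_smul, inv_smul_smul, hg.2]
  · rw [mul_smul, mul_smul, hgX, smul_inv_smul]

theorem pat_count (C : SextetCert (famStab Q0) (pat Q0) k rep val items)
    {h : Equiv.Perm GolayPt} (hh : h ∈ M24) {i : ℕ} (hi : i < k) :
    {X : Finset (Finset GolayPt) | X ∈ sextets ∧ pat (h • Q0) X = val i}.ncard =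
      (items.filter (fun it => it % 4 == i)).length := by
  rw [← C.count hi]
  have : {X : Finset (Finset GolayPt) | X ∈ sextets ∧ pat (h • Q0) X = val i} =
      (fun X => h • X) '' {X : Finset (Finset GolayPt) | X ∈ sextets ∧ pat Q0 X = val i} := by
    ext X
    constructor
    · rintro ⟨hX, hp⟩
      refine ⟨h⁻¹ • X, ⟨smul_mem_sextets (M24.inv_mem hh) hX, ?_⟩, smul_inv_smul h X⟩
      rw [← pat_transport]; exact hp
    · rintro ⟨X0, ⟨hX0, hp⟩, rfl⟩
      refine ⟨smul_mem_sextets hh hX0, ?_⟩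
      rw [pat_smul]; exact hp
  rw [this, Set.ncard_image_of_injective _ (MulAction.injective h)]

/-- The orbit of a sextet under the stabiliser of a family is the set of sextets with the same
pattern. -/
theorem pat_orbit_eq (C : SextetCert (famStab Q0) (pat Q0) k rep val items)
    {h : Equiv.Perm GolayPt} (hh : h ∈ M24) {X : Finset (Finset GolayPt)} (hX : X ∈ sextets)
    {c : ℕ} (hc : pat (h • Q0) X = c) :
    MulAction.orbit ↥(MulAction.stabilizer M24 (h • Q0)) X =
      {Y | Y ∈ sextets ∧ pat (h • Q0) Y = c} := by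
  ext Y
  constructor
  · rintro ⟨⟨⟨g, hg⟩, hstab⟩, rfl⟩
    have hgQ : g • (h • Q0) = h • Q0 := hstab
    refine ⟨smul_mem_sextets hg hX, ?_⟩
    show pat (h • Q0) (g • X) = c
    conv_lhs => rw [← hgQ]
    rw [pat_smul]
    exact hc
  · intro hY
    obtain ⟨g, hg, h1, h2⟩ := C.pat_trans hh hX hY.1 (hc.trans hY.2.symm)
    exact ⟨⟨⟨g, hg⟩, h1⟩, h2⟩

end SextetCert

/-- Build a pattern certificate from kernel-checked data. -/
theorem SextetCert.mkPat {Q0L : List ℕ} {k : ℕ} {rep val : ℕ → ℕ} {XL : ℕ → List ℕ}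
    {items : List ℕ} {gens : List (ℕ × ℕ)} {words : List (List ℕ)}
    (hQ : (Q0L.map toFinset).Nodup)
    (hgens : ∀ g ∈ gens, famOK Q0L g = true)
    (masks : items.map (fun it => it / 4) = sxItems.map (fun it => it / 4))
    (cls : items.all (fun it => Nat.blt (it % 4) k) = true)
    (hXL : ∀ i < k, sextetOK (XL i) = true ∧ rep i ∈ XL i ∧ patL Q0L (XL i) = val i)
    (val_inj : ∀ i < k, ∀ j < k, val i = val j → i = j)
    (cert : certCheckP gens sxOk (fun it => [rep (it % 4)]) items words = true) :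
    SextetCert (famStab (toQ Q0L)) (pat (toQ Q0L)) k rep val items := by
  refine SextetCert.mk' (gens := gens) (words := words) inf_le_left ?_ (gensIn_of_famOK hgens)
    masks cls ?_ ?_ val_inj cert
  · intro g hg X
    exact pat_famStab hg X
  · intro i hi
    obtain ⟨h1, h2, _⟩ := hXL i hi
    obtain ⟨_, _, h3, _⟩ := sextetOK_spec h1
    exact (h3 _ h2).1
  · intro i hi
    obtain ⟨h1, h2, h3⟩ := hXL i hi
    have hmem : toFinset (rep i) ∈ toQ (XL i) := mem_toQ.mpr ⟨_, h2, rfl⟩
    rw [← sextet_eq_sx (toQ_mem_sextets h1) hmem, pat_toQ hQ (sextetOK_nodup h1), h3]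

end Cfsg.Agent.Helper26
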