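import Mathlib
import Cfsg.Agent.Lib.Helper26.SextetOrbits
import Cfsg.Agent.Lib.Helper26.SxStabData
import Cfsg.Agent.Lib.Helper7.M12Card

set_option autoImplicit false
open scoped Pointwise
open Cfsg

namespace Cfsg.Agent.Helper26

open Cfsg.Agent.Helper27

/-! ### The four-group condition -/

/-- `g` acts on the 4-set `t` as an element of the four-group: every pair in `t` is preserved or
moved to the complementary pair. -/
def V4c (g : Equiv.Perm GolayPt) (t : Finset GolayPt) : Prop :=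
  ∀ p : Finset GolayPt, p ⊆ t → p.card = 2 → g • p = p ∨ g • p = t \ p

theorem V4c_one (t : Finset GolayPt) : V4c 1 t := fun p _ _ => Or.inl (one_smul _ p)

theorem card_sdiff_pair {t p : Finset GolayPt} (ht : t.card = 4) (hp : p ⊆ t) (hp2 : p.card = 2) :
    (t \ p).card = 2 := by rw [Finset.card_sdiff_of_subset hp, ht, hp2]

theorem smul_sdiff_of_fix {g : Equiv.Perm GolayPt} {t p : Finset GolayPt} (hg : g • t = t) :
    g • (t \ p) = t \ g • p := by rw [Finset.smul_finset_sdiff, hg]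

theorem V4c_mul {g h : Equiv.Perm GolayPt} {t : Finset GolayPt} (ht : t.card = 4)
    (h1 : V4c g t) (h2 : V4c h t) : V4c (g * h) t := by
  intro p hp hp2
  rw [mul_smul]
  rcases h2 p hp hp2 with e | e
  · rw [e]; exact h1 p hp hp2
  · rw [e]
    rcases h1 (t \ p) Finset.sdiff_subset (card_sdiff_pair ht hp hp2) with e' | e'
    · exact Or.inr e'
    · left; rw [e', Finset.sdiff_sdiff_eq_self hp]

theorem V4c_inv {g : Equiv.Perm GolayPt} {t : Finset GolayPt}
    (hg : g • t = t) (h1 : V4c g t) : V4c g⁻¹ t := by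
  intro p hp hp2
  rcases h1 p hp hp2 with e | e
  · left; rw [inv_smul_eq_iff, e]
  · right
    rw [inv_smul_eq_iff, smul_sdiff_of_fix hg, e, Finset.sdiff_sdiff_eq_self hp]

theorem sq_apply_of_V4c {g : Equiv.Perm GolayPt} {t : Finset GolayPt} (hg : g • t = t)
    (h1 : V4c g t) {x : GolayPt} (hx : x ∈ t) : g (g x) = x := by
  by_cases hgx : g x = x
  · rw [hgx, hgx]
  · have hy : g x ∈ t := by
      have := Finset.smul_mem_smul_finset (a := g) hx
      rwa [hg] at this
    have hp : ({x, g x} : Finset GolayPt) ⊆ t := by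
      intro z hz
      rw [Finset.mem_insert, Finset.mem_singleton] at hz
      rcases hz with rfl | rfl <;> assumption
    have hp2 : ({x, g x} : Finset GolayPt).card = 2 := Finset.card_pair (Ne.symm hgx)
    have hmem : g x ∈ g • ({x, g x} : Finset GolayPt) :=
      Finset.smul_mem_smul_finset (a := g) (Finset.mem_insert_self _ _)
    have hmem2 : g (g x) ∈ g • ({x, g x} : Finset GolayPt) :=
      Finset.smul_mem_smul_finset (a := g) (by simp)
    rcases h1 _ hp hp2 with e | e
    · rw [e, Finset.mem_insert, Finset.mem_singleton] at hmem2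
      rcases hmem2 with h | h
      · exact h
      · exact absurd (g.injective h) hgx
    · rw [e, Finset.mem_sdiff] at hmem
      exact absurd (by simp) hmem.2

/-! ### The normal `2^6` as a set of permutations -/

/-- The elements of `M24` fixing every tetrad of `S` and acting on each as an element of the
four-group. -/
def sxNSet (S : Finset (Finset GolayPt)) : Set (Equiv.Perm GolayPt) :=
  {g | g ∈ M24 ∧ (∀ t ∈ S, g • t = t) ∧ ∀ t ∈ S, V4c g t}

/-- The same as a subgroup. -/
def sxNSub {S : Finset (Finset GolayPt)} (hS : S ∈ sextets) : Subgroup (Equiv.Perm GolayPt) where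
  carrier := sxNSet S
  one_mem' := ⟨M24.one_mem, fun t _ => one_smul _ t, fun t _ => V4c_one t⟩
  mul_mem' := by
    rintro g h ⟨g1, g2, g3⟩ ⟨h1, h2, h3⟩
    exact ⟨M24.mul_mem g1 h1, fun t ht => by rw [mul_smul, h2 t ht, g2 t ht],
      fun t ht => V4c_mul (card_of_mem_sextet hS ht) (g3 t ht) (h3 t ht)⟩
  inv_mem' := by
    rintro g ⟨g1, g2, g3⟩
    exact ⟨M24.inv_mem g1, fun t ht => by rw [inv_smul_eq_iff, g2 t ht],
      fun t ht => V4c_inv (g2 t ht) (g3 t ht)⟩

theorem mem_sxNSub {S : Finset (Finset GolayPt)} (hS : S ∈ sextets) {g : Equiv.Perm GolayPt} :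
    g ∈ sxNSub hS ↔ g ∈ sxNSet S := Iff.rfl

theorem mul_self_of_mem_sxNSet {S : Finset (Finset GolayPt)} (hS : S ∈ sextets)
    {g : Equiv.Perm GolayPt} (hg : g ∈ sxNSet S) : g * g = 1 := by
  apply Equiv.ext
  intro x
  obtain ⟨t, ht, hx⟩ := exists_mem_of_sextet hS x
  simp only [Equiv.Perm.mul_apply, Equiv.Perm.one_apply]
  exact sq_apply_of_V4c (hg.2.1 t ht) (hg.2.2 t ht) hx

theorem conj_mem_sxNSet {S : Finset (Finset GolayPt)} {h g : Equiv.Perm GolayPt} (hh : h ∈ M24)
    (hg : g ∈ sxNSet S) : h * g * h⁻¹ ∈ sxNSet (h • S) := by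
  obtain ⟨g1, g2, g3⟩ := hg
  refine ⟨M24.mul_mem (M24.mul_mem hh g1) (M24.inv_mem hh), ?_, ?_⟩
  · intro t' ht'
    obtain ⟨t, ht, rfl⟩ := Finset.mem_smul_finset.mp ht'
    rw [mul_smul, mul_smul, inv_smul_smul, g2 t ht]
  · intro t' ht' p hp hp2
    obtain ⟨t, ht, rfl⟩ := Finset.mem_smul_finset.mp ht'
    have hp' : h⁻¹ • p ⊆ t := Finset.subset_smul_finset_iff.mp hp
    have hp2' : (h⁻¹ • p).card = 2 := by rw [Finset.card_smul_finset, hp2]
    rw [mul_smul, mul_smul]
    rcases g3 t ht _ hp' hp2' with e | e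
    · left; rw [e, smul_inv_smul]
    · right; rw [e, Finset.smul_finset_sdiff, smul_inv_smul]

/-! ### Bridging the table-level checks -/

theorem idx_permOf_apply {T : ℕ} (hc : checkInv T T = true) (x : GolayPt) :
    idx (permOf (T, T) x) = lk T (idx x) := by
  rw [permOf_eq (g := (T, T)) hc]
  exact idx_mkPerm_apply T T hc x

theorem V4c_of_v4ok {T m : ℕ} (hc : checkInv T T = true)
    (hfix : permOf (T, T) • toFinset m = toFinset m) (hcard : (toFinset m).card = 4)
    (h : v4ok T m = true) : V4c (permOf (T, T)) (toFinset m) := by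
  intro p hp hp2
  obtain ⟨x, y, hxy, rfl⟩ := Finset.card_eq_two.mp hp2
  have hx : x ∈ toFinset m := hp (by simp)
  have hy : y ∈ toFinset m := hp (by simp)
  have bx : m.testBit (idx x) = true := mem_toFinset.mp hx
  have by' : m.testBit (idx y) = true := mem_toFinset.mp hy
  have hij : idx x ≠ idx y := fun e => hxy (idx_injective e)
  unfold v4ok at h
  rw [List.all_eq_true] at h
  have h' := h (idx x) (List.mem_range.mpr (idx_lt x))
  rw [List.all_eq_true] at h'
  have h'' := h' (idx y) (List.mem_range.mpr (idx_lt y))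
  set g := permOf (T, T) with hgdef
  have ex : idx (g x) = lk T (idx x) := idx_permOf_apply hc x
  have ey : idx (g y) = lk T (idx y) := idx_permOf_apply hc y
  rw [← ex, ← ey] at h''
  have hbeq : ∀ a b : ℕ, (Nat.beq a b = true) ↔ a = b := fun a b =>
    ⟨Nat.eq_of_beq_eq_true, fun e => e ▸ Nat.beq_refl a⟩
  have hnbeq : ∀ a b : ℕ, ((!Nat.beq a b) = true) ↔ a ≠ b := fun a b => by
    rw [Bool.not_eq_true', ← Bool.not_eq_true, hbeq]
  simp only [bx, by', Bool.not_true, Bool.false_or, Bool.or_eq_true, Bool.and_eq_true, hbeq, hnbeq]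
    at h''
  have hsm : g • ({x, y} : Finset GolayPt) = {g x, g y} := by
    rw [Finset.smul_finset_insert, Finset.smul_finset_singleton]
    rfl
  rw [hsm]
  rcases h'' with h0 | (⟨e1, e2⟩ | ⟨e1, e2⟩) | ⟨⟨⟨n1, n2⟩, n3⟩, n4⟩
  · exact absurd h0 hij
  · left
    rw [idx_injective e1, idx_injective e2]
  · left
    rw [idx_injective e1, idx_injective e2, Finset.pair_comm]
  · right
    have gx : g x ∈ toFinset m := by
      have := Finset.smul_mem_smul_finset (a := g) hx
      rwa [hfix] at this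
    have gy : g y ∈ toFinset m := by
      have := Finset.smul_mem_smul_finset (a := g) hy
      rwa [hfix] at this
    apply Finset.eq_of_subset_of_card_le
    · intro z hz
      rw [Finset.mem_insert, Finset.mem_singleton] at hz
      rw [Finset.mem_sdiff, Finset.mem_insert, Finset.mem_singleton]
      rcases hz with rfl | rfl
      · exact ⟨gx, fun h => h.elim (fun e => n1 (by rw [e])) (fun e => n2 (by rw [e]))⟩
      · exact ⟨gy, fun h => h.elim (fun e => n3 (by rw [e])) (fun e => n4 (by rw [e]))⟩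
    · rw [card_sdiff_pair hcard hp hp2, Finset.card_pair]
      intro e
      exact hxy (g.injective e)

theorem sxNOk_spec {T : ℕ} (h : sxNOk T = true) : permOf (T, T) ∈ sxNSet sxS0 := by
  unfold sxNOk at h
  simp only [Bool.and_eq_true, List.all_eq_true] at h
  obtain ⟨⟨hc, hm⟩, hall⟩ := h
  have hfix : ∀ m ∈ sxS0L, permOf (T, T) • toFinset m = toFinset m := by
    intro m hm
    have := Nat.eq_of_beq_eq_true (hall m hm).1
    rw [← toFinset_permMask' (g := (T, T)) hc m]
    show toFinset (permMask T m) = toFinset m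
    rw [this]
  refine ⟨?_, ?_, ?_⟩
  · rw [permOf_eq (g := (T, T)) hc]; exact mkPerm_mem_M24 _ _ hc hm
  · intro t ht
    obtain ⟨m, hm, rfl⟩ := mem_toQ.mp ht
    exact hfix m hm
  · intro t ht
    have h4 := card_of_mem_sextet sxS0_mem ht
    obtain ⟨m, hm, rfl⟩ := mem_toQ.mp ht
    exact V4c_of_v4ok hc (hfix m hm) h4 (hall m hm).2

/-- Fingerprint of a permutation. -/
def permFp (σ : Equiv.Perm GolayPt) : List ℕ := (List.range 24).map (fun i => idx (σ (pt i)))

theorem permFp_permOf {T : ℕ} (hc : checkInv T T = true) : permFp (permOf (T, T)) = fpTab T := by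
  unfold permFp fpTab
  apply List.map_congr_left
  intro i hi
  rw [idx_permOf_apply hc, idx_pt (List.mem_range.mp hi)]

/-- The 64 permutations. -/
def sxNPerms : Finset (Equiv.Perm GolayPt) := (sxNTabs.map (fun T => permOf (T, T))).toFinset

theorem sxNTabs_spec {T : ℕ} (hT : T ∈ sxNTabs) : sxNOk T = true :=
  List.all_eq_true.mp sxNTabs_ok T hT

theorem sxNTabs_checkInv {T : ℕ} (hT : T ∈ sxNTabs) : checkInv T T = true := by
  have h := sxNTabs_spec hT
  unfold sxNOk at h
  simp only [Bool.and_eq_true] at h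
  exact h.1.1

theorem card_sxNPerms : sxNPerms.card = 64 := by
  unfold sxNPerms
  rw [List.toFinset_card_of_nodup, List.length_map, sxNTabs_length]
  apply List.Nodup.of_map permFp
  rw [List.map_map]
  have : sxNTabs.map (permFp ∘ fun T => permOf (T, T)) = sxNTabs.map fpTab := by
    apply List.map_congr_left
    intro T hT
    exact permFp_permOf (sxNTabs_checkInv hT)
  rw [this]
  exact sxNTabs_nodup

theorem sxNPerms_subset : ∀ σ ∈ sxNPerms, σ ∈ sxNSet sxS0 := by
  intro σ hσ
  unfold sxNPerms at hσ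
  rw [List.mem_toFinset, List.mem_map] at hσ
  obtain ⟨T, hT, rfl⟩ := hσ
  exact sxNOk_spec (sxNTabs_spec hT)

/-- Every sextet has at least 64 such permutations. -/
theorem exists_sxN_finset {S : Finset (Finset GolayPt)} (hS : S ∈ sextets) :
    ∃ P : Finset (Equiv.Perm GolayPt), P.card = 64 ∧ ∀ σ ∈ P, σ ∈ sxNSet S := by
  obtain ⟨h, hh, rfl⟩ := exists_smul_base hS
  refine ⟨sxNPerms.image (fun σ => h * σ * h⁻¹), ?_, ?_⟩
  · rw [Finset.card_image_of_injective, card_sxNPerms]
    intro a b hab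
    simpa using hab
  · intro σ hσ
    obtain ⟨τ, hτ, rfl⟩ := Finset.mem_image.mp hσ
    exact conj_mem_sxNSet hh (sxNPerms_subset τ hτ)

/-! ### Swaps of two tetrads -/

theorem base_swap {t1 t2 : Finset GolayPt} (h1 : t1 ∈ sxS0) (h2 : t2 ∈ sxS0) (hne : t1 ≠ t2) :
    ∃ g ∈ M24, g • t1 = t2 ∧ g • t2 = t1 ∧ ∀ t ∈ sxS0, t ≠ t1 → t ≠ t2 → g • t = t := by
  obtain ⟨ma, hma, rfl⟩ := mem_toQ.mp h1
  obtain ⟨mb, hmb, rfl⟩ := mem_toQ.mp h2
  have hab : ma ≠ mb := fun e => hne (by rw [e])
  have hck := sxSwapCheck_ok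
  unfold sxSwapCheck at hck
  have hbeq : ∀ a b : ℕ, (Nat.beq a b = true) ↔ a = b := fun a b =>
    ⟨Nat.eq_of_beq_eq_true, fun e => e ▸ Nat.beq_refl a⟩
  simp only [List.all_eq_true, Bool.or_eq_true, List.any_eq_true, Bool.and_eq_true,
    hbeq] at hck
  rcases hck ma hma mb hmb with e | ⟨g, _, ⟨⟨⟨⟨e1, e2⟩, e3⟩, hc⟩, hm⟩⟩
  · exact absurd e hab
  · refine ⟨permOf g, ?_, ?_, ?_, ?_⟩
    · rw [permOf_eq hc]; exact mkPerm_mem_M24 _ _ hc hm
    · rw [← toFinset_permMask' hc, e1]
    · rw [← toFinset_permMask' hc, e2]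
    · intro t ht n1 n2
      obtain ⟨m, hm', rfl⟩ := mem_toQ.mp ht
      rcases e3 m hm' with (e | e) | e
      · exact absurd (by rw [e]) n1
      · exact absurd (by rw [e]) n2
      · rw [← toFinset_permMask' hc, e]

theorem sextet_swap {S : Finset (Finset GolayPt)} (hS : S ∈ sextets) {t1 t2 : Finset GolayPt}
    (h1 : t1 ∈ S) (h2 : t2 ∈ S) (hne : t1 ≠ t2) :
    ∃ g ∈ M24, g • t1 = t2 ∧ g • t2 = t1 ∧ ∀ t ∈ S, t ≠ t1 → t ≠ t2 → g • t = t := by
  obtain ⟨h, hh, rfl⟩ := exists_smul_base hS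
  obtain ⟨u1, hu1, rfl⟩ := Finset.mem_smul_finset.mp h1
  obtain ⟨u2, hu2, rfl⟩ := Finset.mem_smul_finset.mp h2
  have hne' : u1 ≠ u2 := fun e => hne (by rw [e])
  obtain ⟨g, hg, e1, e2, e3⟩ := base_swap hu1 hu2 hne'
  refine ⟨h * g * h⁻¹, M24.mul_mem (M24.mul_mem hh hg) (M24.inv_mem hh), ?_, ?_, ?_⟩
  · rw [mul_smul, mul_smul, inv_smul_smul, e1]
  · rw [mul_smul, mul_smul, inv_smul_smul, e2]
  · intro t ht n1 n2
    obtain ⟨u, hu, rfl⟩ := Finset.mem_smul_finset.mp ht
    rw [mul_smul, mul_smul, inv_smul_smul,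
      e3 u hu (fun e => n1 (by rw [e])) (fun e => n2 (by rw [e]))]

end Cfsg.Agent.Helper26
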