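import Mathlib
import Cfsg.Agent.Lib.Helper26.SxStab

set_option autoImplicit false
open scoped Pointwise
open Cfsg

namespace Cfsg.Agent.Helper26

open Cfsg.Agent.Helper27 Cfsg.Agent.Helper7

/-! ### Realising permutations of the six tetrads -/

/-- The permutation `e` of the tetrads of `S` is induced by an element of `M24`. -/
def SxReal (S : Finset (Finset GolayPt)) (e : Equiv.Perm ↥S) : Prop :=
  ∃ g : Equiv.Perm GolayPt, g ∈ M24 ∧
    ∀ t : ↥S, g • (t : Finset GolayPt) = ((e t : ↥S) : Finset GolayPt)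

theorem sxReal_one (S : Finset (Finset GolayPt)) : SxReal S 1 :=
  ⟨1, M24.one_mem, fun t => one_smul _ _⟩

theorem sxReal_mul {S : Finset (Finset GolayPt)} {e1 e2 : Equiv.Perm ↥S} (h1 : SxReal S e1)
    (h2 : SxReal S e2) : SxReal S (e1 * e2) := by
  obtain ⟨g1, hg1, k1⟩ := h1
  obtain ⟨g2, hg2, k2⟩ := h2
  refine ⟨g1 * g2, M24.mul_mem hg1 hg2, fun t => ?_⟩
  rw [mul_smul, k2 t, k1 (e2 t)]
  rfl

theorem sxReal_swap {S : Finset (Finset GolayPt)} (hS : S ∈ sextets) {a b : ↥S} (hab : a ≠ b) :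
    SxReal S (Equiv.swap a b) := by
  have hne : (a : Finset GolayPt) ≠ (b : Finset GolayPt) := fun e => hab (Subtype.ext e)
  obtain ⟨g, hg, e1, e2, e3⟩ := sextet_swap hS a.2 b.2 hne
  refine ⟨g, hg, fun t => ?_⟩
  by_cases hta : t = a
  · rw [hta, Equiv.swap_apply_left, e1]
  · by_cases htb : t = b
    · rw [htb, Equiv.swap_apply_right, e2]
    · rw [Equiv.swap_apply_of_ne_of_ne hta htb]
      exact e3 t t.2 (fun e => hta (Subtype.ext e)) (fun e => htb (Subtype.ext e))

theorem sxReal_all {S : Finset (Finset GolayPt)} (hS : S ∈ sextets) (e : Equiv.Perm ↥S) :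
    SxReal S e := by
  induction e using Equiv.Perm.swap_induction_on with
  | one => exact sxReal_one S
  | swap_mul f x y hxy hf => exact sxReal_mul (sxReal_swap hS hxy) hf

theorem smul_eq_of_real {S : Finset (Finset GolayPt)} {e : Equiv.Perm ↥S}
    {g : Equiv.Perm GolayPt}
    (h : ∀ t : ↥S, g • (t : Finset GolayPt) = ((e t : ↥S) : Finset GolayPt)) : g • S = S := by
  apply Finset.eq_of_subset_of_card_le
  · intro t' ht'
    obtain ⟨t, ht, rfl⟩ := Finset.mem_smul_finset.mp ht'
    rw [h ⟨t, ht⟩]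
    exact (e ⟨t, ht⟩).2
  · rw [Finset.card_smul_finset]

/-! ### The stabiliser as a group -/

/-- The underlying permutation of an element of the stabiliser. -/
def sxc (S : Finset (Finset GolayPt)) : ↥(MulAction.stabilizer M24 S) →* Equiv.Perm GolayPt :=
  M24.subtype.comp (MulAction.stabilizer M24 S).subtype

theorem sxc_apply (S : Finset (Finset GolayPt)) (x : ↥(MulAction.stabilizer M24 S)) :
    sxc S x = ((x : M24) : Equiv.Perm GolayPt) := rfl

theorem sxc_injective (S : Finset (Finset GolayPt)) : Function.Injective (sxc S) := by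
  intro x y h
  exact Subtype.ext (Subtype.ext h)

theorem sxc_mem (S : Finset (Finset GolayPt)) (x : ↥(MulAction.stabilizer M24 S)) :
    sxc S x ∈ M24 := (x : M24).2

theorem sxc_smul (S : Finset (Finset GolayPt)) (x : ↥(MulAction.stabilizer M24 S)) :
    sxc S x • S = S := x.2

theorem sxc_inv_smul (S : Finset (Finset GolayPt)) (x : ↥(MulAction.stabilizer M24 S)) :
    (sxc S x)⁻¹ • S = S := by rw [inv_smul_eq_iff, sxc_smul]

theorem exists_sxc {S : Finset (Finset GolayPt)} {g : Equiv.Perm GolayPt} (hg : g ∈ M24)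
    (h : g • S = S) : ∃ x : ↥(MulAction.stabilizer M24 S), sxc S x = g :=
  ⟨⟨⟨g, hg⟩, h⟩, rfl⟩

/-- The action on the tetrads. -/
def sxPerm (S : Finset (Finset GolayPt)) (x : ↥(MulAction.stabilizer M24 S)) :
    Equiv.Perm ↥S where
  toFun t := ⟨sxc S x • (t : Finset GolayPt), by
    have := Finset.smul_mem_smul_finset (a := sxc S x) t.2
    rwa [sxc_smul] at this⟩
  invFun t := ⟨(sxc S x)⁻¹ • (t : Finset GolayPt), by
    have := Finset.smul_mem_smul_finset (a := (sxc S x)⁻¹) t.2
    rwa [sxc_inv_smul] at this⟩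
  left_inv t := Subtype.ext (inv_smul_smul _ _)
  right_inv t := Subtype.ext (smul_inv_smul _ _)

theorem sxPerm_apply (S : Finset (Finset GolayPt)) (x : ↥(MulAction.stabilizer M24 S)) (t : ↥S) :
    ((sxPerm S x t : ↥S) : Finset GolayPt) = sxc S x • (t : Finset GolayPt) := rfl

/-- The homomorphism to the symmetric group on the tetrads. -/
def sxHom (S : Finset (Finset GolayPt)) : ↥(MulAction.stabilizer M24 S) →* Equiv.Perm ↥S where
  toFun := sxPerm S
  map_one' := by
    apply Equiv.ext; intro t; apply Subtype.ext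
    rw [sxPerm_apply, map_one, one_smul]; rfl
  map_mul' x y := by
    apply Equiv.ext; intro t; apply Subtype.ext
    rw [sxPerm_apply, map_mul, mul_smul, Equiv.Perm.mul_apply, sxPerm_apply, sxPerm_apply]

theorem sxHom_surjective {S : Finset (Finset GolayPt)} (hS : S ∈ sextets) :
    Function.Surjective (sxHom S) := by
  intro e
  obtain ⟨g, hg, h⟩ := sxReal_all hS e
  obtain ⟨x, rfl⟩ := exists_sxc hg (smul_eq_of_real h)
  refine ⟨x, ?_⟩
  apply Equiv.ext; intro t; apply Subtype.ext
  exact h t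

theorem mem_sxHom_ker {S : Finset (Finset GolayPt)} {x : ↥(MulAction.stabilizer M24 S)} :
    x ∈ (sxHom S).ker ↔ ∀ t ∈ S, sxc S x • t = t := by
  rw [MonoidHom.mem_ker]
  constructor
  · intro h t ht
    have := congrArg (fun e : Equiv.Perm ↥S => ((e ⟨t, ht⟩ : ↥S) : Finset GolayPt)) h
    exact this
  · intro h
    apply Equiv.ext; intro t; apply Subtype.ext
    exact h t t.2

theorem orbit_sextet {S : Finset (Finset GolayPt)} (hS : S ∈ sextets) :
    MulAction.orbit ↥M24 S = sextets := by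
  ext S'
  constructor
  · rintro ⟨g, rfl⟩
    exact smul_mem_sextets g.2 hS
  · intro hS'
    obtain ⟨g, hg, h⟩ := sextets_transitive hS hS'
    exact ⟨⟨g, hg⟩, h⟩

theorem card_stab_sextet {S : Finset (Finset GolayPt)} (hS : S ∈ sextets) :
    Nat.card ↥(MulAction.stabilizer M24 S) = 138240 := by
  have h := Nat.card_congr (MulAction.orbitProdStabilizerEquivGroup ↥M24 S)
  rw [Nat.card_prod, orbit_sextet hS, Nat.card_coe_set_eq, ncard_sextets, card_M24] at h
  omega

theorem card_sxHom_ker {S : Finset (Finset GolayPt)} (hS : S ∈ sextets) :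
    Nat.card ↥(sxHom S).ker = 192 := by
  have h1 := Subgroup.card_mul_index (sxHom S).ker
  rw [Subgroup.index_ker, MonoidHom.range_eq_top.mpr (sxHom_surjective hS), Subgroup.card_top,
    Nat.card_perm, Nat.card_eq_fintype_card (α := ↥S), Fintype.card_coe, hS.1,
    card_stab_sextet hS] at h1
  have : Nat.factorial 6 = 720 := by decide
  rw [this] at h1
  omega

/-! ### The normal subgroup of order 64 -/

/-- The normal `2^6` inside the stabiliser. -/
def sxN {S : Finset (Finset GolayPt)} (hS : S ∈ sextets) :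
    Subgroup ↥(MulAction.stabilizer M24 S) := (sxNSub hS).comap (sxc S)

theorem mem_sxN {S : Finset (Finset GolayPt)} (hS : S ∈ sextets)
    {x : ↥(MulAction.stabilizer M24 S)} : x ∈ sxN hS ↔ sxc S x ∈ sxNSet S := Iff.rfl

theorem sxN_normal {S : Finset (Finset GolayPt)} (hS : S ∈ sextets) : (sxN hS).Normal := by
  constructor
  intro n hn g
  rw [mem_sxN] at hn ⊢
  rw [map_mul, map_mul, map_inv]
  have := conj_mem_sxNSet (sxc_mem S g) hn
  rwa [sxc_smul] at this

theorem sxN_sq {S : Finset (Finset GolayPt)} (hS : S ∈ sextets) :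
    ∀ x ∈ sxN hS, x * x = 1 := by
  intro x hx
  apply sxc_injective S
  rw [map_mul, map_one]
  exact mul_self_of_mem_sxNSet hS ((mem_sxN hS).mp hx)

theorem sxN_le_ker {S : Finset (Finset GolayPt)} (hS : S ∈ sextets) :
    sxN hS ≤ (sxHom S).ker := by
  intro x hx
  rw [mem_sxHom_ker]
  exact ((mem_sxN hS).mp hx).2.1

theorem smul_eq_of_fix {S : Finset (Finset GolayPt)} {g : Equiv.Perm GolayPt}
    (h : ∀ t ∈ S, g • t = t) : g • S = S := by
  apply Finset.eq_of_subset_of_card_le
  · intro t' ht'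
    obtain ⟨t, ht, rfl⟩ := Finset.mem_smul_finset.mp ht'
    rw [h t ht]
    exact ht
  · rw [Finset.card_smul_finset]

theorem card_sxN_ge {S : Finset (Finset GolayPt)} (hS : S ∈ sextets) :
    64 ≤ Nat.card ↥(sxN hS) := by
  obtain ⟨P, hP, hsub⟩ := exists_sxN_finset hS
  have hmap : (↑P : Set (Equiv.Perm GolayPt)) ⊆ (((sxN hS).map (sxc S) : Subgroup _) : Set _) := by
    intro σ hσ
    have h1 := hsub σ (Finset.mem_coe.mp hσ)
    obtain ⟨x, rfl⟩ := exists_sxc h1.1 (smul_eq_of_fix h1.2.1)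
    exact ⟨x, (mem_sxN hS).mpr h1, rfl⟩
  have hcard : Nat.card ↥((sxN hS).map (sxc S)) = Nat.card ↥(sxN hS) :=
    Subgroup.card_map_of_injective (sxc_injective S)
  have h1 := Nat.card_mono (Set.toFinite _) hmap
  rw [Nat.card_coe_set_eq, Set.ncard_coe_finset, hP] at h1
  rw [← hcard]
  exact h1

theorem card_sxN {S : Finset (Finset GolayPt)} (hS : S ∈ sextets) :
    Nat.card ↥(sxN hS) = 64 := by
  have hp : IsPGroup 2 ↥(sxN hS) := by
    intro x
    refine ⟨1, ?_⟩
    rw [pow_one, pow_two]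
    apply Subtype.ext
    exact sxN_sq hS x.1 x.2
  have : Fact (Nat.Prime 2) := ⟨Nat.prime_two⟩
  obtain ⟨n, hn⟩ := IsPGroup.iff_card.mp hp
  have hdvd : Nat.card ↥(sxN hS) ∣ 192 := by
    rw [← card_sxHom_ker hS]
    exact Subgroup.card_dvd_of_le (sxN_le_ker hS)
  have hge := card_sxN_ge hS
  rw [hn] at hdvd hge ⊢
  have hn8 : n < 8 := by
    by_contra h
    rw [not_lt] at h
    have h1 := Nat.pow_le_pow_right (by norm_num : 0 < 2) h
    have h2 := Nat.le_of_dvd (by norm_num) hdvd
    omega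
  interval_cases n <;> first | rfl | omega

end Cfsg.Agent.Helper26
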