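import Mathlib

/-!
# TU project (S2279): the Lucas / Kummer piece (LUC) (helper26, for helper59's server)
-/

set_option autoImplicit false

namespace Cfsg.Agent.Helper26.TU

/-- One Lucas step at a time: `p ∤ C(p^a m - 1 + p^a, p^a)` when `p ∤ m`. -/
theorem h26_luc (p : ℕ) [hp : Fact p.Prime] :
    ∀ a m : ℕ, 0 < m → ¬ p ∣ m → ¬ p ∣ Nat.choose (p ^ a * m - 1 + p ^ a) (p ^ a) := by
  have hp0 : 0 < p := hp.out.pos
  intro a
  induction a with
  | zero =>
    intro m hm hpm
    have : (p ^ 0 * m - 1 + p ^ 0) = m := by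
      rw [pow_zero, one_mul]; omega
    rw [this, pow_zero, Nat.choose_one_right]
    exact hpm
  | succ a ih =>
    intro m hm hpm hdvd
    apply ih m hm hpm
    have hXpos : 0 < p ^ a * m := Nat.mul_pos (pow_pos hp0 a) hm
    obtain ⟨X, hX⟩ : ∃ X, p ^ a * m = X + 1 := ⟨p ^ a * m - 1, by omega⟩
    have hN : p ^ (a + 1) * m - 1 + p ^ (a + 1) = p * (p ^ a * m - 1 + p ^ a) + (p - 1) := by
      have h1 : p ^ (a + 1) * m = p * (X + 1) := by rw [pow_succ, ← hX]; ring
      have h2 : p ^ (a + 1) = p * p ^ a := by rw [pow_succ]; ring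
      rw [h1, h2, hX]
      have h3 : p * (X + 1) - 1 = p * X + (p - 1) := by
        rw [mul_add, mul_one]; omega
      rw [h3, Nat.add_sub_cancel, mul_add]
      omega
    have hk : p ^ (a + 1) = p * p ^ a := by rw [pow_succ]; ring
    have hlt : p - 1 < p := by omega
    have hmod := Choose.choose_modEq_choose_mod_mul_choose_div_nat
      (n := p ^ (a + 1) * m - 1 + p ^ (a + 1)) (k := p ^ (a + 1)) (p := p)
    rw [hN, Nat.mul_add_mod, Nat.mod_eq_of_lt hlt, Nat.mul_add_div hp0,
      Nat.div_eq_of_lt hlt, add_zero, hk, Nat.mul_mod_right, Nat.mul_div_cancel_left _ hp0,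
      Nat.choose_zero_right, one_mul] at hmod
    rw [hN, hk] at hdvd
    exact (Nat.ModEq.dvd_iff hmod (dvd_refl p)).1 hdvd

/-- (LUC) -/
theorem exists_offset (p n : ℕ) [hp : Fact p.Prime] (hn : 4 ≤ n) :
    ∃ a : ℕ, n = p ^ a ∨ (p ^ a + 3 ≤ n ∧ ¬ p ∣ Nat.choose (n - 1 + p ^ a) (n - 1)) := by
  have hp2 : 2 ≤ p := hp.out.two_le
  obtain ⟨a, m, hpm, rfl⟩ := Nat.exists_eq_pow_mul_and_not_dvd (by omega : n ≠ 0) p hp.out.ne_one
  refine ⟨a, ?_⟩
  by_cases hm1 : m = 1
  · left; rw [hm1, mul_one]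
  right
  have hm0 : m ≠ 0 := by
    rintro rfl
    simp at hn
  have hm2 : 2 ≤ m := by omega
  refine ⟨?_, ?_⟩
  · rcases Nat.eq_zero_or_pos a with ha | ha
    · subst ha
      rw [pow_zero, one_mul] at hn ⊢
      omega
    · have hs : 2 ≤ p ^ a := by
        calc 2 ≤ p := hp2
          _ = p ^ 1 := (pow_one p).symm
          _ ≤ p ^ a := Nat.pow_le_pow_right (by omega) ha
      by_cases hm3 : 3 ≤ m
      · have : p ^ a * 3 ≤ p ^ a * m := Nat.mul_le_mul_left _ hm3
        omega
      · have hm : m = 2 := by omega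
        subst hm
        have hp3 : 3 ≤ p := by
          rcases Nat.lt_or_ge p 3 with h | h
          · exfalso
            have : p = 2 := by omega
            exact hpm (by rw [this])
          · exact h
        have hs3 : 3 ≤ p ^ a := by
          calc 3 ≤ p := hp3
            _ = p ^ 1 := (pow_one p).symm
            _ ≤ p ^ a := Nat.pow_le_pow_right (by omega) ha
        omega
  · rw [Nat.choose_symm_add]
    exact h26_luc p a m (by omega) hpm

end Cfsg.Agent.Helper26.TU
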