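import Mathlib
import Cfsg.Agent.Lib.Helper26.SextetData
import Cfsg.Agent.Lib.Helper26.TrioData

set_option autoImplicit false
set_option maxRecDepth 1000000
open scoped Pointwise
open Cfsg

namespace Cfsg.Agent.Helper26

open Cfsg.Agent.Helper27

/-- The seven sextets refining the base trio, ordered so that the lines of the plane are the
triples of labels `k + 1` with vanishing xor. -/
def trFL : List (List ℕ) :=
  [[3592, 557076, 1056898, 2097504, 4653056, 8409089],
   [2656, 331777, 532612, 1081362, 2098440, 12730368],
   [1128, 41104, 1572870, 2099968, 4329473, 8732672],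
   [840, 212993, 524434, 1089540, 2100256, 12849152],
   [3392, 32902, 1581072, 2097704, 4472833, 8589312],
   [2344, 8214, 413696, 1605760, 2098752, 12648449],
   [1824, 565250, 1048724, 2099272, 4280320, 8781825]]

/-- The sextets of the 35 tetrads inside the third octad containing the point `0`. -/
def trCand : List (List ℕ) :=
  [[9296, 32936, 86017, 1575168, 2097670, 12976128],
   [2244, 34050, 151553, 533024, 3145752, 12910592],
   [912, 282625, 524362, 1049636, 2140160, 12779520],
   [2098, 8460, 1081920, 2622592, 4214785, 8847360],
   [3592, 557076, 1056898, 2097504, 4653056, 8409089],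
   [308, 10250, 200705, 1050240, 2654272, 12861440],
   [2656, 331777, 532612, 1081362, 2098440, 12730368],
   [450, 35844, 524824, 3153952, 4263937, 8798208],
   [41728, 525346, 1048652, 2099344, 4603904, 8458241],
   [33292, 397313, 527376, 1057088, 2097314, 12664832],
   [1128, 41104, 1572870, 2099968, 4329473, 8732672],
   [594, 524680, 1083424, 2106372, 4538368, 8523777],
   [9730, 557344, 1050760, 2097236, 4460545, 8601600],
   [2310, 8248, 33984, 3670528, 4407296, 8654849],
   [676, 475136, 534592, 1049872, 2129930, 12587009],
   [840, 212993, 524434, 1089540, 2100256, 12849152],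
   [2076, 8482, 344065, 558592, 3145920, 12718080],
   [10880, 524388, 1049610, 2130192, 4276225, 8785920],
   [1412, 34882, 1049136, 2629640, 4591616, 8470529],
   [9352, 32880, 409601, 1051138, 2621700, 12652544],
   [1556, 559112, 1048992, 2105410, 4341761, 8720384],
   [46, 10512, 1573952, 2130560, 4526080, 8536065],
   [3392, 32902, 1581072, 2097704, 4472833, 8589312],
   [8772, 526496, 1081608, 2098194, 4395008, 8667137],
   [216, 42016, 462848, 525058, 3147780, 12599297],
   [1094, 35200, 458753, 1572904, 2105872, 12603392],
   [33314, 533760, 1050704, 2097292, 4390913, 8671232],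
   [8416, 33816, 526852, 3145986, 4476928, 8585217],
   [1200, 41032, 1049348, 2623490, 4521985, 8540160],
   [650, 524624, 1059840, 2129956, 4345856, 8716289],
   [2344, 8214, 413696, 1605760, 2098752, 12648449],
   [282, 10276, 524992, 3179520, 4587521, 8474624],
   [1824, 565250, 1048724, 2099272, 4280320, 8781825],
   [3202, 33092, 348160, 1057288, 2621488, 12713985],
   [35344, 217088, 525324, 1048674, 2105728, 12845057]]

/-- Tables (with inverses) of elements of `M24` interchanging two octads of the base trio. -/
def trSwapTabs : List (ℕ × ℕ) :=
  [(727029628325114543391316180353658162, 727747158179113687905222386421749010),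
   (566387025345688602029884764642783233, 549438536836355569547673388217317377),
   (382369660965399097941565474609864101, 463989816754798882452239285303513574)]

/-- `m` is a submask of one of the three octads. -/
def inTrio (m : ℕ) : Bool := trT0L.any fun o => Nat.beq (Nat.land m o) m

/-- (D1) the seven sextets are sextets refining the trio. -/
theorem trFL_ok : trFL.all (fun L => sextetOK L && L.all inTrio) = true := by decide +kernel

theorem trFL_length : trFL.length = 7 := by decide

/-- (D1') the seven sextets are distinct: the first tetrad of one is not in another. -/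
theorem trFL_distinct : ∀ i < 7, ∀ j < 7, i ≠ j →
    ((trFL.getD j []).contains ((trFL.getD i []).getD 0 0)) = false := by decide +kernel

/-- (D2) every tetrad inside the third octad containing the point `0` lies in one of the listed
sextets, which is one of the seven or has a tetrad not inside an octad of the trio. -/
theorem trCand_ok : (sxItems.filter (fun it => Nat.beq (Nat.land (it / 4) 13062145) (it / 4))).all
    (fun it => trCand.any fun L => L.contains (it / 4) && sextetOK L &&
      (trFL.contains L || L.any fun u => !(inTrio u))) = true := by decide +kernel

/-- Index of the third point of a line. -/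
def third (i j : ℕ) : ℕ := (Nat.xor (i + 1) (j + 1) - 1) % 7

/-- (D3) collinearity. -/
def colOK (a b c : List ℕ) : Bool :=
  (a.any fun t => b.any fun u => Nat.beq (pop (Nat.land t u)) 2) &&
    a.all fun t => b.all fun u => !(Nat.beq (pop (Nat.land t u)) 2) || c.contains (Nat.xor t u)

theorem trCol_ok : ∀ i < 7, ∀ j < 7, i ≠ j →
    colOK (trFL.getD i []) (trFL.getD j []) (trFL.getD (third i j) []) = true := by decide +kernel

/-- (D4) separation of points by tetrads. -/
theorem trSep_ok : ∀ i < 24, ∀ j < 24, i ≠ j →
    (trFL.any fun L => L.any fun m => m.testBit i && !(m.testBit j)) = true := by decide +kernel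

/-- (D5) swaps. -/
def trSwapCheck : Bool :=
  trT0L.all fun ma => trT0L.all fun mb => Nat.beq ma mb || trSwapTabs.any fun g =>
    Nat.beq (permMask g.2 ma) mb && Nat.beq (permMask g.2 mb) ma &&
      trT0L.all (fun m => Nat.beq m ma || Nat.beq m mb || Nat.beq (permMask g.2 m) m) &&
      checkInv g.1 g.2 && inM24 g.2

theorem trSwapCheck_ok : trSwapCheck = true := by decide +kernel

end Cfsg.Agent.Helper26
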