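import Mathlib
import Cfsg.Prelude.Def_SporadicCombinatorics
import Cfsg.Agent.Lib.Helper26.Sextets
import Cfsg.Agent.Lib.Helper27.Trans
import Cfsg.Agent.S1556

set_option autoImplicit false
open scoped Pointwise
open Cfsg

namespace Cfsg.Agent.Helper26

theorem trio_octad {T : Finset (Finset GolayPt)} (hT : T ∈ trios) {o : Finset GolayPt}
    (ho : o ∈ T) : o ∈ octads := hT.2.1 o ho

theorem trio_disjoint {T : Finset (Finset GolayPt)} (hT : T ∈ trios) {o o' : Finset GolayPt}
    (ho : o ∈ T) (ho' : o' ∈ T) (hne : o ≠ o') : Disjoint o o' := hT.2.2 o ho o' ho' hne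

theorem smul_mem_trios {g : Equiv.Perm GolayPt} (hg : g ∈ M24) {T : Finset (Finset GolayPt)}
    (hT : T ∈ trios) : g • T ∈ trios := by
  refine ⟨?_, ?_, ?_⟩
  · rw [Finset.card_smul_finset]; exact hT.1
  · intro o ho
    obtain ⟨o', ho', rfl⟩ := Finset.mem_smul_finset.mp ho
    exact smul_mem_octads' hg (trio_octad hT ho')
  · intro o ho u hu hne
    obtain ⟨o', ho', rfl⟩ := Finset.mem_smul_finset.mp ho
    obtain ⟨u', hu', rfl⟩ := Finset.mem_smul_finset.mp hu
    have hne' : o' ≠ u' := by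
      rintro rfl
      exact hne rfl
    have := trio_disjoint hT ho' hu' hne'
    rw [Finset.disjoint_iff_inter_eq_empty] at this ⊢
    rw [← Finset.smul_finset_inter, this, Finset.smul_finset_empty]

theorem card_compl_union_octads {a b : Finset GolayPt} (ha : a ∈ octads) (hb : b ∈ octads)
    (hab : Disjoint a b) : ((a ∪ b)ᶜ).card = 8 := by
  rw [Finset.card_compl, Finset.card_union_of_disjoint hab, ha.2, hb.2, card_golayPt']

/-- A trio is determined by two of its octads. -/
theorem trio_eq_of_two {T : Finset (Finset GolayPt)} (hT : T ∈ trios) {a b : Finset GolayPt}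
    (ha : a ∈ T) (hb : b ∈ T) (hab : a ≠ b) : T = {a, b, (a ∪ b)ᶜ} := by
  have h1 : ((T.erase a).erase b).card = 1 := by
    rw [Finset.card_erase_of_mem (Finset.mem_erase.mpr ⟨hab.symm, hb⟩),
      Finset.card_erase_of_mem ha, hT.1]
  obtain ⟨c, hc⟩ := Finset.card_eq_one.mp h1
  have hcmem : c ∈ (T.erase a).erase b := by rw [hc]; exact Finset.mem_singleton_self c
  rw [Finset.mem_erase, Finset.mem_erase] at hcmem
  obtain ⟨hcb, hca, hcT⟩ := hcmem
  have hda := trio_disjoint hT ha hb hab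
  have hdca := trio_disjoint hT hcT ha hca
  have hdcb := trio_disjoint hT hcT hb hcb
  have hsub : c ⊆ (a ∪ b)ᶜ := by
    intro x hx
    rw [Finset.mem_compl, Finset.mem_union]
    rintro (h | h)
    · exact Finset.disjoint_left.mp hdca hx h
    · exact Finset.disjoint_left.mp hdcb hx h
  have hceq : c = (a ∪ b)ᶜ := Finset.eq_of_subset_of_card_le hsub (by
    rw [card_compl_union_octads (trio_octad hT ha) (trio_octad hT hb) hda, (trio_octad hT hcT).2])
  rw [← hceq]
  symm
  apply Finset.eq_of_subset_of_card_le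
  · intro x hx
    simp only [Finset.mem_insert, Finset.mem_singleton] at hx
    rcases hx with rfl | rfl | rfl
    · exact ha
    · exact hb
    · exact hcT
  · rw [hT.1, Finset.card_insert_of_notMem, Finset.card_insert_of_notMem, Finset.card_singleton]
    · simp only [Finset.mem_singleton]; exact fun h => hcb h.symm
    · simp only [Finset.mem_insert, Finset.mem_singleton]
      rintro (h | h)
      · exact hab h
      · exact hca h.symm

theorem trio_eq_of_two_of_two {T T' : Finset (Finset GolayPt)} (hT : T ∈ trios) (hT' : T' ∈ trios)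
    {a b : Finset GolayPt} (ha : a ∈ T) (hb : b ∈ T) (ha' : a ∈ T') (hb' : b ∈ T') (hab : a ≠ b) :
    T = T' := by
  rw [trio_eq_of_two hT ha hb hab, trio_eq_of_two hT' ha' hb' hab]

theorem exists_two_of_trio {T : Finset (Finset GolayPt)} (hT : T ∈ trios) :
    ∃ a ∈ T, ∃ b ∈ T, a ≠ b := by
  apply Finset.one_lt_card.mp
  rw [hT.1]; norm_num

/-- The octads of a trio cover the 24 points. -/
theorem trio_cover {T : Finset (Finset GolayPt)} (hT : T ∈ trios) (p : GolayPt) :
    ∃ o ∈ T, p ∈ o := by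
  obtain ⟨a, ha, b, hb, hab⟩ := exists_two_of_trio hT
  have hTe := trio_eq_of_two hT ha hb hab
  by_cases hp : p ∈ a ∪ b
  · rcases Finset.mem_union.mp hp with h | h
    · exact ⟨a, ha, h⟩
    · exact ⟨b, hb, h⟩
  · refine ⟨(a ∪ b)ᶜ, ?_, Finset.mem_compl.mpr hp⟩
    rw [hTe]
    simp

open Cfsg.Agent.Helper27 in
/-- `M24` is transitive on trios. -/
theorem trios_transitive {T T' : Finset (Finset GolayPt)} (hT : T ∈ trios) (hT' : T' ∈ trios) :
    ∃ g ∈ M24, g • T = T' := by
  obtain ⟨a, ha, b, hb, hab⟩ := exists_two_of_trio hT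
  obtain ⟨a', ha', b', hb', hab'⟩ := exists_two_of_trio hT'
  have hao := trio_octad hT ha
  have hbo := trio_octad hT hb
  have hao' := trio_octad hT' ha'
  have hbo' := trio_octad hT' hb'
  obtain ⟨g0, hg0, e0⟩ := octads_transitive hao
  obtain ⟨g0', hg0', e0'⟩ := octads_transitive hao'
  -- g1 maps a to a'
  have hg1 : g0' * g0⁻¹ ∈ M24 := M24.mul_mem hg0' (M24.inv_mem hg0)
  have e1 : (g0' * g0⁻¹) • a = a' := by
    rw [← e0, mul_smul, inv_smul_smul, e0']
  have hd : Disjoint a b := trio_disjoint hT ha hb hab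
  have hd' : Disjoint a' b' := trio_disjoint hT' ha' hb' hab'
  have hb1 : (g0' * g0⁻¹) • b ∈ octads := smul_mem_octads' hg1 hbo
  have hc1 : (a' ∩ (g0' * g0⁻¹) • b).card = (a' ∩ b').card := by
    rw [← e1, ← Finset.smul_finset_inter, Finset.card_smul_finset,
      Finset.disjoint_iff_inter_eq_empty.mp hd]
    rw [e1, Finset.disjoint_iff_inter_eq_empty.mp hd']
  obtain ⟨g2, hg2, e2, e3⟩ := Cfsg.Agent.S1556.result a' _ b' hao' hb1 hbo' hc1
  refine ⟨g2 * (g0' * g0⁻¹), M24.mul_mem hg2 hg1, ?_⟩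
  have hgT : (g2 * (g0' * g0⁻¹)) • T ∈ trios := smul_mem_trios (M24.mul_mem hg2 hg1) hT
  apply trio_eq_of_two_of_two hgT hT' (a := a') (b := b') ?_ ?_ ha' hb' hab'
  · rw [← e2, ← e1, ← mul_smul]
    exact Finset.smul_mem_smul_finset ha
  · rw [← e3, ← mul_smul]
    exact Finset.smul_mem_smul_finset hb

end Cfsg.Agent.Helper26
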