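import Mathlib
import Cfsg.Agent.Lib.Helper26.TrioData
import Cfsg.Agent.Lib.Helper26.Trios

set_option autoImplicit false
open scoped Pointwise
open Cfsg

namespace Cfsg.Agent.Helper26

open Cfsg.Agent.Helper27

/-! ### Generic helpers -/

theorem pat_famStab' {Q : Finset (Finset GolayPt)} {g : Equiv.Perm GolayPt} (hg : g ∈ famStab Q)
    (X : Finset (Finset GolayPt)) : pat Q (g • X) = pat Q X := by
  conv_lhs => rw [← hg.2]
  exact pat_smul g Q X

theorem ncard_image_list' {β : Type*} (f : ℕ → β) (L : List ℕ) (hnd : L.Nodup)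
    (hinj : ∀ a ∈ L, ∀ b ∈ L, f a = f b → a = b) : (f '' {a | a ∈ L}).ncard = L.length := by
  have h1 := Set.InjOn.ncard_image (f := f) (s := {a | a ∈ L}) (fun a ha b hb => hinj a ha b hb)
  rw [h1]
  have : {a | a ∈ L} = (↑L.toFinset : Set ℕ) := by
    ext a; simp
  rw [this, Set.ncard_coe_finset, List.toFinset_card_of_nodup hnd]

theorem pat_transport' (h : Equiv.Perm GolayPt) (Q X : Finset (Finset GolayPt)) :
    pat (h • Q) X = pat Q (h⁻¹ • X) := by
  conv_lhs => rw [← smul_inv_smul h X]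
  exact pat_smul h Q _

/-! ### Mask-level trios -/

theorem toQ_three (a b c : ℕ) : toQ [a, b, c] = {toFinset a, toFinset b, toFinset c} := by
  unfold toQ
  simp

theorem trioOK_spec {a b c : ℕ} (h : trioOK [a, b, c] = true) :
    (toFinset a ∈ octads ∧ toFinset b ∈ octads ∧ toFinset c ∈ octads) ∧
    (a < 2 ^ 24 ∧ b < 2 ^ 24 ∧ c < 2 ^ 24) ∧ (a &&& b = 0 ∧ a &&& c = 0 ∧ b &&& c = 0) := by
  unfold trioOK at h
  simp only [Bool.and_eq_true, Nat.blt_eq] at h
  obtain ⟨⟨⟨⟨⟨⟨⟨⟨h1, h2⟩, h3⟩, h4⟩, h5⟩, h6⟩, h7⟩, h8⟩, h9⟩ := h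
  exact ⟨⟨toFinset_mem_octads_of_isOctM h1, toFinset_mem_octads_of_isOctM h2,
    toFinset_mem_octads_of_isOctM h3⟩, ⟨h4, h5, h6⟩,
    ⟨Nat.eq_of_beq_eq_true h7, Nat.eq_of_beq_eq_true h8, Nat.eq_of_beq_eq_true h9⟩⟩

theorem trioOK_length {L : List ℕ} (h : trioOK L = true) : ∃ a b c, L = [a, b, c] := by
  match L, h with
  | [a, b, c], _ => exact ⟨a, b, c, rfl⟩

theorem disjoint_of_land {a b : ℕ} (h : a &&& b = 0) : Disjoint (toFinset a) (toFinset b) := by
  rw [Finset.disjoint_iff_inter_eq_empty, ← toFinset_and, h, toFinset_zero]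

theorem ne_of_octad_disjoint {s t : Finset GolayPt} (hs : s ∈ octads) (hd : Disjoint s t) :
    s ≠ t := by
  rintro rfl
  rw [Finset.disjoint_self_iff_empty] at hd
  have := hs.2
  rw [hd] at this
  simp at this

theorem toQ_mem_trios {L : List ℕ} (h : trioOK L = true) : toQ L ∈ trios := by
  obtain ⟨a, b, c, rfl⟩ := trioOK_length h
  obtain ⟨⟨ha, hb, hc⟩, _, ⟨hab, hac, hbc⟩⟩ := trioOK_spec h
  have dab := disjoint_of_land hab
  have dac := disjoint_of_land hac
  have dbc := disjoint_of_land hbc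
  have nab := ne_of_octad_disjoint ha dab
  have nac := ne_of_octad_disjoint ha dac
  have nbc := ne_of_octad_disjoint hb dbc
  rw [toQ_three]
  refine ⟨?_, ?_, ?_⟩
  · rw [Finset.card_insert_of_notMem, Finset.card_insert_of_notMem, Finset.card_singleton]
    · simpa using nbc
    · simp only [Finset.mem_insert, Finset.mem_singleton]
      rintro (h | h)
      · exact nab h
      · exact nac h
  · intro o ho
    simp only [Finset.mem_insert, Finset.mem_singleton] at ho
    rcases ho with rfl | rfl | rfl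
    · exact ha
    · exact hb
    · exact hc
  · intro o ho u hu hne
    simp only [Finset.mem_insert, Finset.mem_singleton] at ho hu
    rcases ho with rfl | rfl | rfl <;> rcases hu with rfl | rfl | rfl
    · exact absurd rfl hne
    · exact dab
    · exact dac
    · exact dab.symm
    · exact absurd rfl hne
    · exact dbc
    · exact dac.symm
    · exact dbc.symm
    · exact absurd rfl hne

theorem trioOK_nodup {L : List ℕ} (h : trioOK L = true) : (L.map toFinset).Nodup := by
  obtain ⟨a, b, c, rfl⟩ := trioOK_length h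
  obtain ⟨⟨ha, hb, hc⟩, _, ⟨hab, hac, hbc⟩⟩ := trioOK_spec h
  have nab := ne_of_octad_disjoint ha (disjoint_of_land hab)
  have nac := ne_of_octad_disjoint ha (disjoint_of_land hac)
  have nbc := ne_of_octad_disjoint hb (disjoint_of_land hbc)
  simp only [List.map_cons, List.map_nil, List.nodup_cons, List.mem_cons, List.not_mem_nil,
    or_false, not_or, List.nodup_nil, and_true, not_false_eq_true]
  exact ⟨⟨nab, nac⟩, nbc⟩

/-- The base trio. -/
def trT0 : Finset (Finset GolayPt) := toQ trT0L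

/-- The representatives of the five orbits. -/
def trX (i : ℕ) : Finset (Finset GolayPt) := toQ (trXL i)

theorem trX_zero : trX 0 = trT0 := rfl

theorem trX_mem {i : ℕ} (hi : i < 5) : trX i ∈ trios := toQ_mem_trios (trXL_ok i hi)

theorem trT0_mem : trT0 ∈ trios := trX_mem (i := 0) (by norm_num)

theorem pat_trX {i : ℕ} (hi : i < 5) : pat trT0 (trX i) = trPat i := by
  show pat (toQ (trXL 0)) (toQ (trXL i)) = trPat i
  rw [pat_toQ (trioOK_nodup (trXL_ok 0 (by norm_num))) (trioOK_nodup (trXL_ok i hi))]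
  exact trPat_ok i hi

theorem trItems_spec {it : ℕ} (hit : it ∈ trItems) :
    trioOK (itL it) = true ∧ itO it % 2 = 1 ∧ itO2 it < itO3 it ∧ it % 8 < 5 := by
  have := List.all_eq_true.mp trItems_ok it hit
  simp only [Bool.and_eq_true, Nat.blt_eq] at this
  exact ⟨this.1.1.1, Nat.eq_of_beq_eq_true this.1.1.2, this.1.2, this.2⟩

theorem mem3_spec {y it : ℕ} (h : mem3 y it = true) : toFinset y ∈ toQ (itL it) := by
  unfold mem3 at h
  simp only [Bool.or_eq_true] at h
  rw [mem_toQ]
  rcases h with (h | h) | h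
  · exact ⟨itO it, by simp [itL], by rw [Nat.eq_of_beq_eq_true h]⟩
  · exact ⟨itO2 it, by simp [itL], by rw [Nat.eq_of_beq_eq_true h]⟩
  · exact ⟨itO3 it, by simp [itL], by rw [Nat.eq_of_beq_eq_true h]⟩

theorem trStart_spec {i : ℕ} (hi : i < 5) : ∃ x1 x2, trStart i = [x1, x2] ∧
    toFinset x1 ∈ trX i ∧ toFinset x2 ∈ trX i ∧ toFinset x1 ≠ toFinset x2 := by
  have h := trStart_ok i hi
  unfold trStartOK at h
  match hs : trStart i, h with
  | [x1, x2], h =>
    simp only [Bool.and_eq_true, List.contains_iff_mem, Bool.not_eq_true', Nat.blt_eq] at h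
    obtain ⟨⟨⟨⟨h1, h2⟩, h3⟩, h4⟩, h5⟩ := h
    refine ⟨x1, x2, rfl, mem_toQ.mpr ⟨x1, h1, rfl⟩, mem_toQ.mpr ⟨x2, h2, rfl⟩, ?_⟩
    intro heq
    have := toFinset_inj h4 h5 heq
    rw [this, Nat.beq_refl] at h3
    exact absurd h3 (by simp)

/-- Every listed trio is in the orbit of the representative of its class. -/
theorem tr_reach {it : ℕ} (hit : it ∈ trItems) :
    ∃ g ∈ famStab trT0, g • trX (it % 8) = toQ (itL it) := by
  obtain ⟨x, hok, g, hg, hx⟩ := certCheckP_spec (gensIn_of_famOK trGens_ok) trOk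
    (fun it => trStart (it % 8)) trItems trWords trCert it hit
  obtain ⟨hvalid, _, _, hi⟩ := trItems_spec hit
  obtain ⟨x1, x2, hst, hx1, hx2, hne⟩ := trStart_spec hi
  refine ⟨g, hg, ?_⟩
  match x, hok, hx with
  | [y1, y2], hok, hx =>
    have hok' : mem3 y1 it = true ∧ mem3 y2 it = true := by
      have : (mem3 y1 it && mem3 y2 it) = true := hok
      rwa [Bool.and_eq_true] at this
    simp only [hst, List.map_cons, List.map_nil, List.cons.injEq, and_true] at hx
    obtain ⟨e1, e2⟩ := hx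
    have hgT : g • trX (it % 8) ∈ trios := smul_mem_trios hg.1 (trX_mem hi)
    apply trio_eq_of_two_of_two hgT (toQ_mem_trios hvalid) (a := toFinset y1) (b := toFinset y2)
    · rw [e1]; exact Finset.smul_mem_smul_finset hx1
    · rw [e2]; exact Finset.smul_mem_smul_finset hx2
    · exact mem3_spec hok'.1
    · exact mem3_spec hok'.2
    · rw [e1, e2]
      intro h
      exact hne (MulAction.injective g h)

/-! ### Completeness of the enumeration -/

/-- The point `0`. -/
def q0 : GolayPt := some 0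

theorem q0_mem_iff (m : ℕ) : q0 ∈ toFinset m ↔ m % 2 = 1 := by
  rw [mem_toFinset]
  have : Helper27.idx q0 = 0 := by decide
  rw [this, Nat.testBit_zero]
  simp

theorem toFinset_full : toFinset 16777215 = Finset.univ := by
  ext p
  simp only [mem_toFinset, Finset.mem_univ, iff_true]
  have : (16777215 : ℕ) = 2 ^ 24 - 1 := by norm_num
  rw [this, Nat.testBit_two_pow_sub_one]
  simpa using Helper27.idx_lt p

theorem xor_lt24 {a b : ℕ} (ha : a < 2 ^ 24) (hb : b < 2 ^ 24) : a ^^^ b < 2 ^ 24 :=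
  Nat.xor_lt_two_pow ha hb

theorem toFinset_third {o x : ℕ} (h : Disjoint (toFinset o) (toFinset x)) :
    toFinset (16777215 ^^^ o ^^^ x) = (toFinset o ∪ toFinset x)ᶜ := by
  rw [toFinset_xor, toFinset_xor, toFinset_full]
  ext p
  have := fun hp : p ∈ toFinset o => (Finset.disjoint_left.mp h) hp
  simp only [Finset.mem_symmDiff, Finset.mem_univ, true_and, Finset.mem_compl, Finset.mem_union]
  tauto

theorem land_eq_zero_of_disjoint {a b : ℕ} (ha : a < 2 ^ 24)
    (h : Disjoint (toFinset a) (toFinset b)) : a &&& b = 0 := by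
  rw [Finset.disjoint_iff_inter_eq_empty, ← toFinset_and, ← toFinset_zero] at h
  have hlt : a &&& b < 2 ^ 24 := lt_of_le_of_lt Nat.and_le_left ha
  exact toFinset_inj hlt (by norm_num) h

theorem mem_trItems_of {o x : ℕ} (ho : o ∈ octadList) (hx : x ∈ octadList) (hodd : o % 2 = 1)
    (hdisj : o &&& x = 0) (hlt : x < 16777215 ^^^ o ^^^ x) :
    ∃ it ∈ trItems, itO it = o ∧ itO2 it = x := by
  have hmem : o * 16777216 + x ∈ trEnum := by
    unfold trEnum
    rw [List.mem_flatMap]
    refine ⟨o, ?_, ?_⟩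
    · unfold octs0
      rw [List.mem_filter]
      refine ⟨ho, ?_⟩
      rw [hodd]; rfl
    · rw [List.mem_map]
      refine ⟨x, ?_, rfl⟩
      rw [List.mem_filter, Bool.and_eq_true]
      refine ⟨hx, ?_, ?_⟩
      · show Nat.beq (o &&& x) 0 = true
        rw [hdisj]; rfl
      · rw [Nat.blt_eq]; exact hlt
  rw [trEnum_eq, List.mem_map] at hmem
  obtain ⟨it, hit, heq⟩ := hmem
  have hxlt : x < 16777216 := octadList_lt hx
  refine ⟨it, hit, ?_, ?_⟩
  · unfold itO
    have : it / 134217728 = it / 8 / 16777216 := by rw [Nat.div_div_eq_div_mul]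
    rw [this, heq]
    omega
  · unfold itO2
    rw [heq]
    omega

theorem exists_item_of_trio {T : Finset (Finset GolayPt)} (hT : T ∈ trios) :
    ∃ it ∈ trItems, T = toQ (itL it) := by
  obtain ⟨a, ha, hpa⟩ := trio_cover hT q0
  obtain ⟨b, hb, hba⟩ := Finset.exists_mem_ne (by rw [hT.1]; norm_num : 1 < T.card) a
  have hab : a ≠ b := fun h => hba h.symm
  have hTe := trio_eq_of_two hT ha hb hab
  have hao := trio_octad hT ha
  have hbo := trio_octad hT hb
  have hd : Disjoint a b := trio_disjoint hT ha hb hab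
  obtain ⟨o, ho, rfl⟩ := mem_octads_iff'.mp hao
  obtain ⟨m2, hm2, rfl⟩ := mem_octads_iff'.mp hbo
  have holt := octadList_lt ho
  have hm2lt := octadList_lt hm2
  have hodd : o % 2 = 1 := (q0_mem_iff o).mp hpa
  have hdisj : o &&& m2 = 0 := land_eq_zero_of_disjoint holt hd
  -- the third octad
  have hc : toFinset (16777215 ^^^ o ^^^ m2) ∈ T := by
    rw [toFinset_third hd, hTe]
    simp
  have hco := trio_octad hT hc
  obtain ⟨m3, hm3, hm3eq⟩ := mem_octads_iff'.mp hco
  have hm3lt := octadList_lt hm3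
  have hm3' : m3 = 16777215 ^^^ o ^^^ m2 :=
    (toFinset_inj (xor_lt24 (xor_lt24 (by norm_num) holt) hm2lt) hm3lt hm3eq).symm
  have hcne : toFinset m2 ≠ toFinset m3 := by
    rw [← hm3eq, toFinset_third hd]
    intro h
    have hp : ∃ p, p ∈ toFinset m2 := by
      have : (toFinset m2).Nonempty := by
        rw [← Finset.card_pos, hbo.2]; norm_num
      exact this
    obtain ⟨p, hp⟩ := hp
    have hp' := hp
    rw [h, Finset.mem_compl, Finset.mem_union] at hp'
    exact hp' (Or.inr hp)
  have hne23 : m2 ≠ m3 := fun h => hcne (by rw [h])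
  rcases lt_or_gt_of_ne hne23 with hlt | hgt
  · obtain ⟨it, hit, e1, e2⟩ := mem_trItems_of ho hm2 hodd hdisj (by rw [← hm3']; exact hlt)
    refine ⟨it, hit, ?_⟩
    unfold itL itO3
    rw [e1, e2, toQ_three, hTe, ← toFinset_third hd]
    rfl
  · -- use the third octad as the second
    have hd3 : Disjoint (toFinset o) (toFinset m3) := by
      rw [← hm3eq, toFinset_third hd, Finset.disjoint_left]
      intro p hp hp'
      rw [Finset.mem_compl, Finset.mem_union] at hp'
      exact hp' (Or.inl hp)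
    have hdisj3 : o &&& m3 = 0 := land_eq_zero_of_disjoint holt hd3
    have hback : 16777215 ^^^ o ^^^ m3 = m2 := by
      rw [hm3']
      apply Nat.eq_of_testBit_eq
      intro i
      simp only [Nat.testBit_xor]
      cases (16777215 : ℕ).testBit i <;> cases o.testBit i <;> cases m2.testBit i <;> rfl
    obtain ⟨it, hit, e1, e2⟩ := mem_trItems_of ho hm3 hodd hdisj3 (by rw [hback]; exact hgt)
    refine ⟨it, hit, ?_⟩
    unfold itL itO3
    rw [e1, e2, toQ_three]
    show T = {toFinset o, toFinset m3, toFinset (16777215 ^^^ o ^^^ m3)}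
    rw [hback, hTe, ← toFinset_third hd, ← hm3']
    ext s
    simp only [Finset.mem_insert, Finset.mem_singleton]
    tauto

/-! ### Injectivity of the enumeration -/

theorem trKeys_nodup :
    (trItems.map (fun it => (itO it % 4096) * 4096 + itO2 it % 4096)).Nodup := by
  have h := incrBy_pairwise (fun it => (itO it % 4096) * 4096 + itO2 it % 4096) trItems trItems_incr
  have h2 : (trItems.map (fun it => (itO it % 4096) * 4096 + itO2 it % 4096)).Pairwise (· < ·) :=
    List.pairwise_map.mpr h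
  exact h2.imp (fun hab => ne_of_lt hab)

theorem trItems_nodup : trItems.Nodup := nodup_of_incrBy _ _ trItems_incr

theorem xor_back (o x : ℕ) : 16777215 ^^^ o ^^^ (16777215 ^^^ o ^^^ x) = x := by
  apply Nat.eq_of_testBit_eq
  intro i
  simp only [Nat.testBit_xor]
  cases (16777215 : ℕ).testBit i <;> cases o.testBit i <;> cases x.testBit i <;> rfl

theorem trItems_inj {it it' : ℕ} (hit : it ∈ trItems) (hit' : it' ∈ trItems)
    (h : toQ (itL it) = toQ (itL it')) : it = it' := by
  obtain ⟨hv, hodd, hlt, _⟩ := trItems_spec hit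
  obtain ⟨hv', hodd', hlt', _⟩ := trItems_spec hit'
  have hA := toQ_mem_trios hv
  obtain ⟨⟨ha, hb, hc⟩, ⟨la, lb, lc⟩, ⟨hab, hac, hbc⟩⟩ := trioOK_spec hv
  obtain ⟨⟨ha', hb', hc'⟩, ⟨la', lb', lc'⟩, ⟨hab', hac', hbc'⟩⟩ := trioOK_spec hv'
  have memA : ∀ m ∈ itL it, toFinset m ∈ toQ (itL it) := fun m hm => mem_toQ.mpr ⟨m, hm, rfl⟩
  have memA' : ∀ m ∈ itL it', toFinset m ∈ toQ (itL it) := by
    intro m hm
    rw [h]
    exact mem_toQ.mpr ⟨m, hm, rfl⟩
  -- first components agree
  have e1 : itO it = itO it' := by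
    apply toFinset_inj la la'
    by_contra hne
    have hd := trio_disjoint hA (memA _ (by simp [itL])) (memA' _ (by simp [itL])) hne
    exact Finset.disjoint_left.mp hd ((q0_mem_iff _).mpr hodd) ((q0_mem_iff _).mpr hodd')
  have hb'A : toFinset (itO2 it') ∈ toQ (itL it) := memA' _ (by simp [itL])
  have hkey : itO2 it = itO2 it' := by
    unfold itL at hb'A
    rw [toQ_three] at hb'A
    simp only [Finset.mem_insert, Finset.mem_singleton] at hb'A
    rcases hb'A with h1 | h1 | h1
    · exfalso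
      have := ne_of_octad_disjoint ha' (disjoint_of_land hab')
      rw [← e1] at this
      exact this h1.symm
    · exact (toFinset_inj lb' lb h1).symm
    · exfalso
      have e2 : itO2 it' = itO3 it := toFinset_inj lb' lc h1
      have e3 : itO3 it' = itO2 it := by
        show 16777215 ^^^ itO it' ^^^ itO2 it' = itO2 it
        rw [e2, ← e1]
        exact xor_back _ _
      omega
  have hk : (fun it => (itO it % 4096) * 4096 + itO2 it % 4096) it =
      (fun it => (itO it % 4096) * 4096 + itO2 it % 4096) it' := by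
    simp only [e1, hkey]
  exact List.inj_on_of_nodup_map trKeys_nodup hit hit' hk

/-! ### Base facts -/

theorem tr_base_class {X : Finset (Finset GolayPt)} (hX : X ∈ trios) :
    ∃ i < 5, pat trT0 X = trPat i ∧ ∃ g ∈ famStab trT0, g • trX i = X := by
  obtain ⟨it, hit, rfl⟩ := exists_item_of_trio hX
  obtain ⟨g, hg, h⟩ := tr_reach hit
  have hi : it % 8 < 5 := (trItems_spec hit).2.2.2
  refine ⟨it % 8, hi, ?_, g, hg, h⟩
  rw [← h, pat_famStab' hg, pat_trX hi]

theorem tr_base_pat_zero {X : Finset (Finset GolayPt)} (hX : X ∈ trios) :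
    pat trT0 X = trPat 0 ↔ X = trT0 := by
  constructor
  · intro h
    obtain ⟨i, hi, hp, g, hg, rfl⟩ := tr_base_class hX
    have : i = 0 := trPat_inj i hi 0 (by norm_num) (hp.symm.trans h)
    subst this
    exact hg.2
  · rintro rfl
    exact pat_trX (i := 0) (by norm_num)

theorem tr_base_trans {X X' : Finset (Finset GolayPt)} (hX : X ∈ trios) (hX' : X' ∈ trios)
    (h : pat trT0 X = pat trT0 X') : ∃ g ∈ famStab trT0, g • X = X' := by
  obtain ⟨i, hi, hp, g, hg, rfl⟩ := tr_base_class hX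
  obtain ⟨j, hj, hp', g', hg', rfl⟩ := tr_base_class hX'
  have : i = j := trPat_inj i hi j hj (hp.symm.trans (h.trans hp'))
  subst this
  refine ⟨g' * g⁻¹, (famStab trT0).mul_mem hg' ((famStab trT0).inv_mem hg), ?_⟩
  rw [mul_smul, inv_smul_smul]

theorem tr_base_set_eq {i : ℕ} (hi : i < 5) :
    {X : Finset (Finset GolayPt) | X ∈ trios ∧ pat trT0 X = trPat i} =
      (fun it => toQ (itL it)) '' {it | it ∈ trItems.filter (fun it => it % 8 == i)} := by
  ext X
  constructor
  · rintro ⟨hX, hp⟩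
    obtain ⟨it, hit, rfl⟩ := exists_item_of_trio hX
    refine ⟨it, ?_, rfl⟩
    show it ∈ trItems.filter (fun it => it % 8 == i)
    rw [List.mem_filter, beq_iff_eq]
    refine ⟨hit, ?_⟩
    obtain ⟨g, hg, h⟩ := tr_reach hit
    have hi' : it % 8 < 5 := (trItems_spec hit).2.2.2
    rw [← h, pat_famStab' hg, pat_trX hi'] at hp
    exact trPat_inj _ hi' i hi hp
  · rintro ⟨it, hit, rfl⟩
    have hit' : it ∈ trItems.filter (fun it => it % 8 == i) := hit
    rw [List.mem_filter, beq_iff_eq] at hit'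
    obtain ⟨hit1, hit2⟩ := hit'
    obtain ⟨g, hg, h⟩ := tr_reach hit1
    show toQ (itL it) ∈ trios ∧ pat trT0 (toQ (itL it)) = trPat i
    refine ⟨toQ_mem_trios (trItems_spec hit1).1, ?_⟩
    rw [← h, pat_famStab' hg, hit2, pat_trX hi]

theorem tr_base_count {i : ℕ} (hi : i < 5) :
    {X : Finset (Finset GolayPt) | X ∈ trios ∧ pat trT0 X = trPat i}.ncard =
      [1, 42, 56, 1008, 2688].getD i 0 := by
  rw [tr_base_set_eq hi, ncard_image_list' _ _ (trItems_nodup.filter _), trItems_count i hi]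
  intro a ha b hb hab
  exact trItems_inj (List.mem_of_mem_filter ha) (List.mem_of_mem_filter hb) hab

theorem ncard_trios : trios.ncard = 3795 := by
  have : trios = (fun it => toQ (itL it)) '' {it | it ∈ trItems} := by
    ext X
    constructor
    · intro hX
      obtain ⟨it, hit, rfl⟩ := exists_item_of_trio hX
      exact ⟨it, hit, rfl⟩
    · rintro ⟨it, hit, rfl⟩
      exact toQ_mem_trios (trItems_spec hit).1
  rw [this, ncard_image_list' _ _ trItems_nodup, trItems_length]
  intro a ha b hb hab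
  exact trItems_inj ha hb hab

/-! ### General facts, by transport -/

theorem tr_exists_smul_base {T : Finset (Finset GolayPt)} (hT : T ∈ trios) :
    ∃ h ∈ M24, h • trT0 = T := trios_transitive trT0_mem hT

/-- The pattern of two trios takes one of five values. -/
theorem trio_class {T X : Finset (Finset GolayPt)} (hT : T ∈ trios) (hX : X ∈ trios) :
    ∃ i < 5, pat T X = trPat i := by
  obtain ⟨h, hh, rfl⟩ := tr_exists_smul_base hT
  rw [pat_transport']
  obtain ⟨i, hi, hp, _⟩ := tr_base_class (smul_mem_trios (M24.inv_mem hh) hX)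
  exact ⟨i, hi, hp⟩

theorem trio_pat_zero {T X : Finset (Finset GolayPt)} (hT : T ∈ trios) (hX : X ∈ trios) :
    pat T X = trPat 0 ↔ X = T := by
  obtain ⟨h, hh, rfl⟩ := tr_exists_smul_base hT
  rw [pat_transport', tr_base_pat_zero (smul_mem_trios (M24.inv_mem hh) hX), inv_smul_eq_iff]

theorem trio_trans {T X X' : Finset (Finset GolayPt)} (hT : T ∈ trios) (hX : X ∈ trios)
    (hX' : X' ∈ trios) (hp : pat T X = pat T X') : ∃ g ∈ M24, g • T = T ∧ g • X = X' := by
  obtain ⟨h, hh, rfl⟩ := tr_exists_smul_base hT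
  rw [pat_transport', pat_transport'] at hp
  obtain ⟨g, hg, hgX⟩ := tr_base_trans (smul_mem_trios (M24.inv_mem hh) hX)
    (smul_mem_trios (M24.inv_mem hh) hX') hp
  refine ⟨h * g * h⁻¹, M24.mul_mem (M24.mul_mem hh hg.1) (M24.inv_mem hh), ?_, ?_⟩
  · rw [mul_smul, mul_smul, inv_smul_smul, hg.2]
  · rw [mul_smul, mul_smul, hgX, smul_inv_smul]

theorem trio_count {T : Finset (Finset GolayPt)} (hT : T ∈ trios) {i : ℕ} (hi : i < 5) :
    {X : Finset (Finset GolayPt) | X ∈ trios ∧ pat T X = trPat i}.ncard =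
      [1, 42, 56, 1008, 2688].getD i 0 := by
  obtain ⟨h, hh, rfl⟩ := tr_exists_smul_base hT
  rw [← tr_base_count hi]
  have : {X : Finset (Finset GolayPt) | X ∈ trios ∧ pat (h • trT0) X = trPat i} =
      (fun X => h • X) '' {X : Finset (Finset GolayPt) | X ∈ trios ∧ pat trT0 X = trPat i} := by
    ext X
    constructor
    · rintro ⟨hX, hp⟩
      refine ⟨h⁻¹ • X, ⟨smul_mem_trios (M24.inv_mem hh) hX, ?_⟩, smul_inv_smul h X⟩
      rw [← pat_transport']; exact hp
    · rintro ⟨X0, ⟨hX0, hp⟩, rfl⟩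
      refine ⟨smul_mem_trios hh hX0, ?_⟩
      rw [pat_smul]; exact hp
  rw [this, Set.ncard_image_of_injective _ (MulAction.injective h)]

end Cfsg.Agent.Helper26
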