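import Mathlib
import Cfsg.Agent.Lib.Helper26.SextetOrbits
import Cfsg.Agent.Lib.Helper26.TrioOrbits
import Cfsg.Agent.Lib.Helper26.TrStabData
import Cfsg.Agent.Lib.Helper26.OctadSplit

set_option autoImplicit false
open scoped Pointwise
open Cfsg

namespace Cfsg.Agent.Helper26

open Cfsg.Agent.Helper27

/-! ### Mask/finset bridges -/

theorem subset_of_land {a b : ℕ} (h : a &&& b = a) : toFinset a ⊆ toFinset b := by
  rw [← h, toFinset_and]
  exact Finset.inter_subset_right

theorem land_of_subset {a b : ℕ} (ha : a < 2 ^ 24) (h : toFinset a ⊆ toFinset b) :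
    a &&& b = a := by
  apply toFinset_inj (lt_of_le_of_lt Nat.and_le_left ha) ha
  rw [toFinset_and]
  exact Finset.inter_eq_left.mpr h

theorem beq_iff (a b : ℕ) : (Nat.beq a b = true) ↔ a = b :=
  ⟨Nat.eq_of_beq_eq_true, fun e => e ▸ Nat.beq_refl a⟩

/-! ### Sextets refining a trio -/

/-- Every member of `s` lies inside a member of `T`. -/
def Refines (s T : Finset (Finset GolayPt)) : Prop := ∀ t ∈ s, ∃ o ∈ T, t ⊆ o

theorem refines_smul (g : Equiv.Perm GolayPt) {s T : Finset (Finset GolayPt)} (h : Refines s T) :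
    Refines (g • s) (g • T) := by
  intro t' ht'
  obtain ⟨t, ht, rfl⟩ := Finset.mem_smul_finset.mp ht'
  obtain ⟨o, ho, hto⟩ := h t ht
  exact ⟨g • o, Finset.smul_mem_smul_finset ho, Finset.smul_finset_subset_smul_finset hto⟩

/-- The seven sextets refining the base trio. -/
def trF0 : Finset (Finset (Finset GolayPt)) := (trFL.map toQ).toFinset

theorem mem_trF0 {s : Finset (Finset GolayPt)} : s ∈ trF0 ↔ ∃ L ∈ trFL, toQ L = s := by
  unfold trF0
  rw [List.mem_toFinset, List.mem_map]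

theorem trFL_spec {L : List ℕ} (hL : L ∈ trFL) : sextetOK L = true ∧ ∀ m ∈ L, inTrio m = true := by
  have := List.all_eq_true.mp trFL_ok L hL
  rw [Bool.and_eq_true, List.all_eq_true] at this
  exact this

theorem inTrio_spec {m : ℕ} (h : inTrio m = true) : ∃ o ∈ trT0, toFinset m ⊆ o := by
  unfold inTrio at h
  rw [List.any_eq_true] at h
  obtain ⟨o, ho, h2⟩ := h
  exact ⟨toFinset o, mem_toQ.mpr ⟨o, ho, rfl⟩, subset_of_land (Nat.eq_of_beq_eq_true h2)⟩

theorem not_inTrio_spec {m : ℕ} (hm : m < 2 ^ 24) (h : inTrio m = false) :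
    ¬ ∃ o ∈ trT0, toFinset m ⊆ o := by
  rintro ⟨o, ho, hsub⟩
  obtain ⟨om, hom, rfl⟩ := mem_toQ.mp ho
  have h2 := land_of_subset hm hsub
  have : inTrio m = true := by
    unfold inTrio
    rw [List.any_eq_true]
    exact ⟨om, hom, (beq_iff _ _).mpr h2⟩
  rw [h] at this
  exact Bool.false_ne_true this

theorem trF0_sextet {s : Finset (Finset GolayPt)} (hs : s ∈ trF0) : s ∈ sextets := by
  obtain ⟨L, hL, rfl⟩ := mem_trF0.mp hs
  exact toQ_mem_sextets (trFL_spec hL).1

theorem trF0_refines {s : Finset (Finset GolayPt)} (hs : s ∈ trF0) : Refines s trT0 := by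
  obtain ⟨L, hL, rfl⟩ := mem_trF0.mp hs
  intro t ht
  obtain ⟨m, hm, rfl⟩ := mem_toQ.mp ht
  exact inTrio_spec ((trFL_spec hL).2 m hm)

theorem mem_trF0_of {s : Finset (Finset GolayPt)} (hs : s ∈ sextets) (hr : Refines s trT0) :
    s ∈ trF0 := by
  obtain ⟨t, ht, h0⟩ := exists_mem_of_sextet hs p0
  have ht4 := card_of_mem_sextet hs ht
  obtain ⟨it, hit, rfl⟩ := exists_item_of_tetrad ht4 h0
  obtain ⟨hpop, hodd, hlt⟩ := sxItems_spec hit
  obtain ⟨o, ho, hsub⟩ := hr _ ht
  obtain ⟨om, hom, rfl⟩ := mem_toQ.mp ho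
  -- the octad is the third one
  have hom3 : om = 13062145 := by
    have h1 : p0 ∈ toFinset om := hsub h0
    rw [pt0_mem_iff] at h1
    have : ∀ o ∈ trT0L, o % 2 = 1 → o = 13062145 := by decide
    exact this om hom h1
  subst hom3
  have hland := land_of_subset hlt hsub
  have hmem : it ∈ sxItems.filter (fun it => Nat.beq (Nat.land (it / 4) 13062145) (it / 4)) := by
    rw [List.mem_filter]
    exact ⟨hit, (beq_iff _ _).mpr hland⟩
  have hc := List.all_eq_true.mp trCand_ok it hmem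
  rw [List.any_eq_true] at hc
  obtain ⟨L, _, hL⟩ := hc
  simp only [Bool.and_eq_true, Bool.or_eq_true, List.contains_iff_mem, List.any_eq_true] at hL
  obtain ⟨⟨hmL, hok⟩, hcase⟩ := hL
  have hsL : s = toQ L := by
    rw [sextet_eq_sx hs ht]
    exact (sextet_eq_sx (toQ_mem_sextets hok) (mem_toQ.mpr ⟨it / 4, hmL, rfl⟩)).symm
  rcases hcase with hin | ⟨u, hu, hnot⟩
  · exact mem_trF0.mpr ⟨L, hin, hsL.symm⟩
  · exfalso
    have hu24 : u < 2 ^ 24 := ((sextetOK_spec hok).2.2.1 u hu).2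
    have hnot' : inTrio u = false := by
      rw [Bool.not_eq_true'] at hnot
      exact hnot
    apply not_inTrio_spec hu24 hnot'
    apply hr
    rw [hsL]
    exact mem_toQ.mpr ⟨u, hu, rfl⟩

theorem mem_trF0_iff {s : Finset (Finset GolayPt)} : s ∈ trF0 ↔ s ∈ sextets ∧ Refines s trT0 :=
  ⟨fun h => ⟨trF0_sextet h, trF0_refines h⟩, fun h => mem_trF0_of h.1 h.2⟩

theorem smul_trF0 {g : Equiv.Perm GolayPt} (hg : g ∈ M24) (hT : g • trT0 = trT0) :
    g • trF0 = trF0 := by
  apply Finset.eq_of_subset_of_card_le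
  · intro s' hs'
    obtain ⟨s, hs, rfl⟩ := Finset.mem_smul_finset.mp hs'
    rw [mem_trF0_iff] at hs ⊢
    refine ⟨smul_mem_sextets hg hs.1, ?_⟩
    have := refines_smul g hs.2
    rwa [hT] at this
  · rw [Finset.card_smul_finset]

/-! ### Indexing the seven sextets -/

/-- The `k`-th of the seven sextets. -/
def trF (k : ℕ) : Finset (Finset GolayPt) := toQ (trFL.getD k [])

theorem trFL_getD_mem {k : ℕ} (hk : k < 7) : trFL.getD k [] ∈ trFL := by
  rw [List.getD_eq_getElem _ _ (by rw [trFL_length]; exact hk)]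
  exact List.getElem_mem _

theorem trF_mem {k : ℕ} (hk : k < 7) : trF k ∈ trF0 :=
  mem_trF0.mpr ⟨_, trFL_getD_mem hk, rfl⟩

theorem exists_trF {s : Finset (Finset GolayPt)} (hs : s ∈ trF0) : ∃ k < 7, trF k = s := by
  obtain ⟨L, hL, rfl⟩ := mem_trF0.mp hs
  obtain ⟨k, hk, rfl⟩ := List.mem_iff_getElem.mp hL
  rw [trFL_length] at hk
  refine ⟨k, hk, ?_⟩
  unfold trF
  rw [List.getD_eq_getElem _ _ (by rw [trFL_length]; exact hk)]

theorem trF_inj {i j : ℕ} (hi : i < 7) (hj : j < 7) (h : trF i = trF j) : i = j := by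
  by_contra hne
  have hd := trFL_distinct i hi j hj hne
  have hLi := trFL_spec (trFL_getD_mem hi)
  have hLj := trFL_spec (trFL_getD_mem hj)
  obtain ⟨hlen, _, hb, _⟩ := sextetOK_spec hLi.1
  have h0 : (trFL.getD i []).getD 0 0 ∈ trFL.getD i [] := by
    rw [List.getD_eq_getElem (trFL.getD i []) 0 (by rw [hlen]; norm_num)]
    exact List.getElem_mem _
  have hmem : toFinset ((trFL.getD i []).getD 0 0) ∈ trF j := by
    rw [← h]; exact mem_toQ.mpr ⟨_, h0, rfl⟩
  obtain ⟨m, hm, hmeq⟩ := mem_toQ.mp hmem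
  have hm24 := ((sextetOK_spec hLj.1).2.2.1 m hm).2
  have := toFinset_inj hm24 (hb _ h0).2 hmeq
  rw [this] at hm
  have : (trFL.getD j []).contains ((trFL.getD i []).getD 0 0) = true :=
    List.contains_iff_mem.mpr hm
  rw [hd] at this
  exact Bool.false_ne_true this

/-! ### Collinearity -/

/-- The intrinsic collinearity relation on families of tetrads. -/
def Col (a b c : Finset (Finset GolayPt)) : Prop :=
  ∀ t ∈ a, ∀ u ∈ b, (t ∩ u).card = 2 → symmDiff t u ∈ c

theorem col_smul (g : Equiv.Perm GolayPt) {a b c : Finset (Finset GolayPt)} (h : Col a b c) :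
    Col (g • a) (g • b) (g • c) := by
  intro t' ht' u' hu' hcard
  obtain ⟨t, ht, rfl⟩ := Finset.mem_smul_finset.mp ht'
  obtain ⟨u, hu, rfl⟩ := Finset.mem_smul_finset.mp hu'
  rw [← Finset.smul_finset_inter, Finset.card_smul_finset] at hcard
  have := h t ht u hu hcard
  have h2 : symmDiff (g • t) (g • u) = g • symmDiff t u := by
    rw [symmDiff_def, symmDiff_def, Finset.sup_eq_union, Finset.sup_eq_union,
      Finset.smul_finset_union, Finset.smul_finset_sdiff, Finset.smul_finset_sdiff]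
  rw [h2]
  exact Finset.smul_mem_smul_finset this

theorem col_unique {a b c c' : Finset (Finset GolayPt)} (hc : c ∈ sextets) (hc' : c' ∈ sextets)
    (hex : ∃ t ∈ a, ∃ u ∈ b, (t ∩ u).card = 2) (h : Col a b c) (h' : Col a b c') : c = c' := by
  obtain ⟨t, ht, u, hu, hcard⟩ := hex
  rw [sextet_eq_sx hc (h t ht u hu hcard), sextet_eq_sx hc' (h' t ht u hu hcard)]

theorem colOK_spec {a b c : List ℕ} (h : colOK a b c = true) :
    (∃ t ∈ toQ a, ∃ u ∈ toQ b, (t ∩ u).card = 2) ∧ Col (toQ a) (toQ b) (toQ c) := by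
  unfold colOK at h
  simp only [Bool.and_eq_true, List.any_eq_true, List.all_eq_true, Bool.or_eq_true,
    Bool.not_eq_true', List.contains_iff_mem] at h
  obtain ⟨⟨t, ht, u, hu, htu⟩, hall⟩ := h
  constructor
  · refine ⟨toFinset t, mem_toQ.mpr ⟨t, ht, rfl⟩, toFinset u, mem_toQ.mpr ⟨u, hu, rfl⟩, ?_⟩
    rw [← toFinset_and, card_toFinset]
    exact Nat.eq_of_beq_eq_true htu
  · intro t' ht' u' hu' hcard
    obtain ⟨t, ht, rfl⟩ := mem_toQ.mp ht'
    obtain ⟨u, hu, rfl⟩ := mem_toQ.mp hu'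
    rw [← toFinset_and, card_toFinset] at hcard
    rcases hall t ht u hu with hf | hmem
    · exfalso
      have : Nat.beq (pop (Nat.land t u)) 2 = true := (beq_iff _ _).mpr hcard
      rw [hf] at this
      exact Bool.false_ne_true this
    · rw [← toFinset_xor]
      exact mem_toQ.mpr ⟨_, hmem, rfl⟩

theorem third_lt (i j : ℕ) : third i j < 7 := Nat.mod_lt _ (by norm_num)

theorem trCol {i j : ℕ} (hi : i < 7) (hj : j < 7) (hij : i ≠ j) :
    (∃ t ∈ trF i, ∃ u ∈ trF j, (t ∩ u).card = 2) ∧ Col (trF i) (trF j) (trF (third i j)) :=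
  colOK_spec (trCol_ok i hi j hj hij)

/-- An element of `M24` fixing the base trio permutes the seven sextets by a collineation. -/
theorem third_of_smul {g : Equiv.Perm GolayPt} {i j i' j' k' : ℕ} (hi : i < 7) (hj : j < 7)
    (hij : i ≠ j) (hi' : i' < 7) (hj' : j' < 7) (hk' : k' < 7) (hij' : i' ≠ j')
    (ei : g • trF i = trF i') (ej : g • trF j = trF j')
    (ek : g • trF (third i j) = trF k') : k' = third i' j' := by
  have h1 := col_smul g (trCol hi hj hij).2
  rw [ei, ej, ek] at h1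
  have h2 := trCol hi' hj' hij'
  apply trF_inj hk' (third_lt _ _)
  exact col_unique (trF0_sextet (trF_mem hk')) (trF0_sextet (trF_mem (third_lt _ _))) h2.1 h1 h2.2

/-! ### Separation of points -/

theorem trSep {p q : GolayPt} (hpq : p ≠ q) : ∃ s ∈ trF0, ∃ t ∈ s, p ∈ t ∧ q ∉ t := by
  have hij : Helper27.idx p ≠ Helper27.idx q := fun e => hpq (idx_injective e)
  have h := trSep_ok (Helper27.idx p) (idx_lt p) (Helper27.idx q) (idx_lt q) hij
  simp only [List.any_eq_true, Bool.and_eq_true, Bool.not_eq_true'] at h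
  obtain ⟨L, hL, m, hm, h1, h2⟩ := h
  refine ⟨toQ L, mem_trF0.mpr ⟨L, hL, rfl⟩, toFinset m, mem_toQ.mpr ⟨m, hm, rfl⟩, ?_, ?_⟩
  · exact mem_toFinset.mpr h1
  · rw [mem_toFinset, h2]
    exact Bool.false_ne_true

end Cfsg.Agent.Helper26
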