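import Mathlib
import Cfsg.Agent.Lib.Helper26.TrStab

set_option autoImplicit false
open scoped Pointwise
open Cfsg

namespace Cfsg.Agent.Helper26

open Cfsg.Agent.Helper27 Cfsg.Agent.Helper7

/-! ### The kernel of the action on the three octads and the seven sextets -/

/-- Elements of `M24` fixing each octad of the base trio and each of the seven sextets. -/
def trKSet : Set (Equiv.Perm GolayPt) :=
  {g | g ∈ M24 ∧ (∀ o ∈ trT0, g • o = o) ∧ ∀ s ∈ trF0, g • s = s}

/-- The same as a subgroup. -/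
def trKSub : Subgroup (Equiv.Perm GolayPt) where
  carrier := trKSet
  one_mem' := ⟨M24.one_mem, fun o _ => one_smul _ o, fun s _ => one_smul _ s⟩
  mul_mem' := by
    rintro g h ⟨g1, g2, g3⟩ ⟨h1, h2, h3⟩
    exact ⟨M24.mul_mem g1 h1, fun o ho => by rw [mul_smul, h2 o ho, g2 o ho],
      fun s hs => by rw [mul_smul, h3 s hs, g3 s hs]⟩
  inv_mem' := by
    rintro g ⟨g1, g2, g3⟩
    exact ⟨M24.inv_mem g1, fun o ho => by rw [inv_smul_eq_iff, g2 o ho],
      fun s hs => by rw [inv_smul_eq_iff, g3 s hs]⟩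

theorem mem_trKSub {g : Equiv.Perm GolayPt} : g ∈ trKSub ↔ g ∈ trKSet := Iff.rfl

theorem trT0_card_octad {o : Finset GolayPt} (ho : o ∈ trT0) : o.card = 8 :=
  (trio_octad trT0_mem ho).2

theorem trT0_eq_of_mem {o o' : Finset GolayPt} (ho : o ∈ trT0) (ho' : o' ∈ trT0) {p : GolayPt}
    (hp : p ∈ o) (hp' : p ∈ o') : o = o' := by
  by_contra hne
  exact Finset.disjoint_left.mp (trio_disjoint trT0_mem ho ho' hne) hp hp'

/-- Two distinct tetrads of a sextet inside one octad are complementary in it. -/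
theorem tetrad_compl {s : Finset (Finset GolayPt)} (hs : s ∈ sextets) {t t' o : Finset GolayPt}
    (ht : t ∈ s) (ht' : t' ∈ s) (hne : t ≠ t') (hto : t ⊆ o) (hto' : t' ⊆ o) (ho : o.card = 8) :
    t' = o \ t := by
  have hoct := hs.2.2 t ht t' ht' hne
  have hsub : t ∪ t' ⊆ o := Finset.union_subset hto hto'
  have heq : t ∪ t' = o := Finset.eq_of_subset_of_card_le hsub (by rw [ho, hoct.2])
  rw [← heq, Finset.union_sdiff_cancel_left (disjoint_of_mem_sextet hs ht ht' hne)]

theorem trK_tetrad {g : Equiv.Perm GolayPt} (hg : g ∈ trKSet) {s : Finset (Finset GolayPt)}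
    (hs : s ∈ trF0) {t o : Finset GolayPt} (ht : t ∈ s) (ho : o ∈ trT0) (hto : t ⊆ o) :
    g • t = t ∨ (g • t = o \ t ∧ g • (o \ t) = t) := by
  by_cases h : g • t = t
  · exact Or.inl h
  · right
    have hmem : g • t ∈ s := by
      have := Finset.smul_mem_smul_finset (a := g) ht
      rwa [hg.2.2 s hs] at this
    have hsub : g • t ⊆ o := by
      have := Finset.smul_finset_subset_smul_finset (a := g) hto
      rwa [hg.2.1 o ho] at this
    have h1 := tetrad_compl (trF0_sextet hs) ht hmem (Ne.symm h) hto hsub (trT0_card_octad ho)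
    refine ⟨h1, ?_⟩
    rw [Finset.smul_finset_sdiff, hg.2.1 o ho, h1, Finset.sdiff_sdiff_eq_self hto]

theorem trK_sq_mem {g : Equiv.Perm GolayPt} (hg : g ∈ trKSet) {s : Finset (Finset GolayPt)}
    (hs : s ∈ trF0) {t : Finset GolayPt} (ht : t ∈ s) {p : GolayPt} (hp : p ∈ t) :
    g (g p) ∈ t := by
  obtain ⟨o, ho, hto⟩ := trF0_refines hs t ht
  rcases trK_tetrad hg hs ht ho hto with h | ⟨h1, h2⟩
  · have h3 : g p ∈ t := by
      have := Finset.smul_mem_smul_finset (a := g) hp
      rwa [h] at this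
    have := Finset.smul_mem_smul_finset (a := g) h3
    rwa [h] at this
  · have h3 : g p ∈ o \ t := by
      have := Finset.smul_mem_smul_finset (a := g) hp
      rwa [h1] at this
    have := Finset.smul_mem_smul_finset (a := g) h3
    rwa [h2] at this

theorem trK_sq {g : Equiv.Perm GolayPt} (hg : g ∈ trKSet) : g * g = 1 := by
  apply Equiv.ext
  intro p
  simp only [Equiv.Perm.mul_apply, Equiv.Perm.one_apply]
  by_contra hne
  obtain ⟨s, hs, t, ht, hp, hq⟩ := trSep (Ne.symm hne)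
  exact hq (trK_sq_mem hg hs ht hp)

theorem trK_fix_octad {g : Equiv.Perm GolayPt} (hg : g ∈ trKSet) {o : Finset GolayPt}
    (ho : o ∈ trT0) {p : GolayPt} (hp : p ∈ o) (hgp : g p = p) : ∀ y ∈ o, g y = y := by
  intro y hy
  by_contra hne
  obtain ⟨s, hs, t, ht, hyt, hgy⟩ := trSep (Ne.symm hne)
  have hsx := trF0_sextet hs
  -- the tetrad lies in `o`
  have hto : t ⊆ o := by
    obtain ⟨o', ho', hto'⟩ := trF0_refines hs t ht
    rwa [trT0_eq_of_mem ho ho' hy (hto' hyt)]
  -- the tetrad through the fixed point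
  obtain ⟨t1, ht1, hp1⟩ := exists_mem_of_sextet hsx p
  have hto1 : t1 ⊆ o := by
    obtain ⟨o', ho', hto'⟩ := trF0_refines hs t1 ht1
    rwa [trT0_eq_of_mem ho ho' hp (hto' hp1)]
  have hfix1 : g • t1 = t1 := by
    rcases trK_tetrad hg hs ht1 ho hto1 with h | ⟨h1, _⟩
    · exact h
    · exfalso
      have : g p ∈ g • t1 := Finset.smul_mem_smul_finset (a := g) hp1
      rw [hgp, h1, Finset.mem_sdiff] at this
      exact this.2 hp1
  have hfix : g • t = t := by
    by_cases h : t1 = t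
    · rw [← h]; exact hfix1
    · have h2 := tetrad_compl hsx ht1 ht h hto1 hto (trT0_card_octad ho)
      rw [h2, Finset.smul_finset_sdiff, hg.2.1 o ho, hfix1]
  apply hgy
  have := Finset.smul_mem_smul_finset (a := g) hyt
  rwa [hfix] at this

theorem trK_eq_one {g : Equiv.Perm GolayPt} (hg : g ∈ trKSet) {o1 o2 : Finset GolayPt}
    (ho1 : o1 ∈ trT0) (ho2 : o2 ∈ trT0) (hne : o1 ≠ o2) {p1 p2 : GolayPt} (hp1 : p1 ∈ o1)
    (hp2 : p2 ∈ o2) (h1 : g p1 = p1) (h2 : g p2 = p2) : g = 1 := by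
  have hfix : g ∈ octFix o1 := mem_octFix.mpr ⟨hg.1, trK_fix_octad hg ho1 hp1 h1⟩
  have hp2' : p2 ∉ o1 := fun h =>
    Finset.disjoint_left.mp (trio_disjoint trT0_mem ho1 ho2 hne) h hp2
  exact octFix_semiregular (trio_octad trT0_mem ho1) hfix hp2' h2

/-- The base points used to bound the kernel. -/
theorem trBase : toFinset 1613974 ∈ trT0 ∧ toFinset 2101096 ∈ trT0 ∧
    toFinset 1613974 ≠ toFinset 2101096 ∧ Helper27.pt 1 ∈ toFinset 1613974 ∧ Helper27.pt 3 ∈ toFinset 2101096 := by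
  refine ⟨mem_toQ.mpr ⟨_, by decide, rfl⟩, mem_toQ.mpr ⟨_, by decide, rfl⟩, ?_, ?_, ?_⟩
  · intro h
    have := toFinset_inj (by norm_num) (by norm_num) h
    exact absurd this (by decide)
  · rw [mem_toFinset, Helper27.idx_pt (by norm_num)]; decide
  · rw [mem_toFinset, Helper27.idx_pt (by norm_num)]; decide

theorem card_trKSub_le : Nat.card ↥trKSub ≤ 64 := by
  obtain ⟨ho1, ho2, hne, hp1, hp2⟩ := trBase
  let f : ↥trKSub → ↥(toFinset 1613974 ×ˢ toFinset 2101096) := fun g =>
    ⟨(g.1 (Helper27.pt 1), g.1 (Helper27.pt 3)), by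
      rw [Finset.mem_product]
      constructor
      · have := Finset.smul_mem_smul_finset (a := g.1) hp1
        rwa [g.2.2.1 _ ho1] at this
      · have := Finset.smul_mem_smul_finset (a := g.1) hp2
        rwa [g.2.2.1 _ ho2] at this⟩
  have hf : Function.Injective f := by
    intro g h hgh
    have e := congrArg Subtype.val hgh
    have e1 : g.1 (Helper27.pt 1) = h.1 (Helper27.pt 1) := congrArg Prod.fst e
    have e2 : g.1 (Helper27.pt 3) = h.1 (Helper27.pt 3) := congrArg Prod.snd e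
    have hk : g.1⁻¹ * h.1 ∈ trKSet := trKSub.mul_mem (trKSub.inv_mem g.2) h.2
    have k1 : (g.1⁻¹ * h.1) (Helper27.pt 1) = Helper27.pt 1 := by
      rw [Equiv.Perm.mul_apply, ← e1]; exact Equiv.symm_apply_apply _ _
    have k2 : (g.1⁻¹ * h.1) (Helper27.pt 3) = Helper27.pt 3 := by
      rw [Equiv.Perm.mul_apply, ← e2]; exact Equiv.symm_apply_apply _ _
    have := trK_eq_one hk ho1 ho2 hne hp1 hp2 k1 k2
    apply Subtype.ext
    exact inv_mul_eq_one.mp this
  have h1 := Nat.card_le_card_of_injective f hf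
  rw [Nat.card_eq_fintype_card (α := ↥(toFinset 1613974 ×ˢ toFinset 2101096)), Fintype.card_coe,
    Finset.card_product, card_toFinset, card_toFinset] at h1
  have : pop 1613974 * pop 2101096 = 64 := by decide
  rwa [this] at h1

end Cfsg.Agent.Helper26
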