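import Mathlib
import Cfsg.Agent.Lib.Helper26.TrStabK
import Cfsg.Agent.Lib.Helper26.SxStabGroup
import Cfsg.Agent.Lib.Helper26.Fano

set_option autoImplicit false
open scoped Pointwise
open Cfsg

namespace Cfsg.Agent.Helper26

open Cfsg.Agent.Helper27 Cfsg.Agent.Helper7

/-! ### The action of a family stabiliser on an invariant finite family -/

section famHom

variable {α : Type*} [DecidableEq α] [MulAction (Equiv.Perm GolayPt) α]

/-- The action of the stabiliser of `S` on an invariant finite family `F`. -/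
def famPerm (S : Finset (Finset GolayPt)) (F : Finset α)
    (h : ∀ x : ↥(MulAction.stabilizer M24 S), sxc S x • F = F)
    (x : ↥(MulAction.stabilizer M24 S)) : Equiv.Perm ↥F where
  toFun t := ⟨sxc S x • (t : α), by
    have := Finset.smul_mem_smul_finset (a := sxc S x) t.2
    rwa [h x] at this⟩
  invFun t := ⟨(sxc S x)⁻¹ • (t : α), by
    have h' : (sxc S x)⁻¹ • F = F := by rw [inv_smul_eq_iff, h x]
    have := Finset.smul_mem_smul_finset (a := (sxc S x)⁻¹) t.2
    rwa [h'] at this⟩
  left_inv t := Subtype.ext (inv_smul_smul _ _)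
  right_inv t := Subtype.ext (smul_inv_smul _ _)

theorem famPerm_apply (S : Finset (Finset GolayPt)) (F : Finset α)
    (h : ∀ x : ↥(MulAction.stabilizer M24 S), sxc S x • F = F)
    (x : ↥(MulAction.stabilizer M24 S)) (t : ↥F) :
    ((famPerm S F h x t : ↥F) : α) = sxc S x • (t : α) := rfl

/-- The action as a homomorphism. -/
def famHom (S : Finset (Finset GolayPt)) (F : Finset α)
    (h : ∀ x : ↥(MulAction.stabilizer M24 S), sxc S x • F = F) :
    ↥(MulAction.stabilizer M24 S) →* Equiv.Perm ↥F where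
  toFun := famPerm S F h
  map_one' := by
    apply Equiv.ext; intro t; apply Subtype.ext
    rw [famPerm_apply, map_one, one_smul]; rfl
  map_mul' x y := by
    apply Equiv.ext; intro t; apply Subtype.ext
    rw [famPerm_apply, map_mul, mul_smul, Equiv.Perm.mul_apply, famPerm_apply, famPerm_apply]

theorem famHom_apply (S : Finset (Finset GolayPt)) (F : Finset α)
    (h : ∀ x : ↥(MulAction.stabilizer M24 S), sxc S x • F = F)
    (x : ↥(MulAction.stabilizer M24 S)) (t : ↥F) :
    ((famHom S F h x t : ↥F) : α) = sxc S x • (t : α) := rfl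

theorem famHom_eq_one {S : Finset (Finset GolayPt)} {F : Finset α}
    {h : ∀ x : ↥(MulAction.stabilizer M24 S), sxc S x • F = F}
    {x : ↥(MulAction.stabilizer M24 S)} (hx : famHom S F h x = 1) :
    ∀ t ∈ F, sxc S x • t = t := by
  intro t ht
  have := congrArg (fun e : Equiv.Perm ↥F => ((e ⟨t, ht⟩ : ↥F) : α)) hx
  exact this

end famHom

/-! ### The base trio -/

theorem trF0_inv (x : ↥(MulAction.stabilizer M24 trT0)) : sxc trT0 x • trF0 = trF0 :=
  smul_trF0 (sxc_mem trT0 x) (sxc_smul trT0 x)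

/-- Action on the seven sextets. -/
def trPhiF : ↥(MulAction.stabilizer M24 trT0) →* Equiv.Perm ↥trF0 :=
  famHom trT0 trF0 trF0_inv

/-- Action on the three octads. -/
def trPhiT : ↥(MulAction.stabilizer M24 trT0) →* Equiv.Perm ↥trT0 :=
  famHom trT0 trT0 (sxc_smul trT0)

/-- The indexing of the seven sextets. -/
def trF7 (k : Fin 7) : ↥trF0 := ⟨trF k.1, trF_mem k.2⟩

theorem trF7_bijective : Function.Bijective trF7 := by
  constructor
  · intro a b h
    exact Fin.ext (trF_inj a.2 b.2 (congrArg Subtype.val h))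
  · intro s
    obtain ⟨k, hk, h⟩ := exists_trF s.2
    exact ⟨⟨k, hk⟩, Subtype.ext h⟩

/-- The seven sextets are indexed by `Fin 7`. -/
noncomputable def trE7 : ↥trF0 ≃ Fin 7 := (Equiv.ofBijective trF7 trF7_bijective).symm

theorem trF7_trE7 (s : ↥trF0) : trF7 (trE7 s) = s :=
  (Equiv.ofBijective trF7 trF7_bijective).apply_symm_apply s

theorem trE7_symm (k : Fin 7) : trE7.symm k = trF7 k := rfl

/-- Action on the seven labels. -/
noncomputable def trPsi1 : ↥(MulAction.stabilizer M24 trT0) →* Equiv.Perm (Fin 7) :=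
  (trE7.permCongrHom : Equiv.Perm ↥trF0 ≃* Equiv.Perm (Fin 7)).toMonoidHom.comp trPhiF

theorem trPsi1_apply (x : ↥(MulAction.stabilizer M24 trT0)) (k : Fin 7) :
    trPsi1 x k = trE7 (trPhiF x (trF7 k)) := rfl

theorem trF_trPsi1 (x : ↥(MulAction.stabilizer M24 trT0)) (k : Fin 7) :
    trF (trPsi1 x k).1 = sxc trT0 x • trF k.1 := by
  have h := trF7_trE7 (trPhiF x (trF7 k))
  rw [← trPsi1_apply] at h
  have h2 := congrArg Subtype.val h
  exact h2

theorem trPsi1_mem_fanoAut (x : ↥(MulAction.stabilizer M24 trT0)) : trPsi1 x ∈ fanoAut := by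
  rw [mem_fanoAut]
  intro i j hij
  apply Fin.ext
  have hne : trPsi1 x i ≠ trPsi1 x j := fun h => hij ((trPsi1 x).injective h)
  exact third_of_smul (g := sxc trT0 x) i.2 j.2 (fun h => hij (Fin.ext h)) (trPsi1 x i).2
    (trPsi1 x j).2 (trPsi1 x (third7 i j)).2 (fun h => hne (Fin.ext h))
    (trF_trPsi1 x i).symm (trF_trPsi1 x j).symm (trF_trPsi1 x (third7 i j)).symm

theorem trPsi1_eq_one {x : ↥(MulAction.stabilizer M24 trT0)} (h : trPsi1 x = 1) :
    ∀ s ∈ trF0, sxc trT0 x • s = s := by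
  apply famHom_eq_one (h := trF0_inv)
  have : (trE7.permCongrHom : Equiv.Perm ↥trF0 ≃* Equiv.Perm (Fin 7)) (trPhiF x) = 1 := h
  exact (MulEquiv.map_eq_one_iff _).mp this

/-- The homomorphism to `GL₃(2)`. -/
noncomputable def trPsiGL : ↥(MulAction.stabilizer M24 trT0) →* GL (Fin 3) (ZMod 2) :=
  (MonoidHom.ofInjective glHom_injective).symm.toMonoidHom.comp
    (trPsi1.codRestrict glHom.range (fun x => exists_gl_of_mem_fanoAut (trPsi1_mem_fanoAut x)))

theorem trPsiGL_eq_one {x : ↥(MulAction.stabilizer M24 trT0)} (h : trPsiGL x = 1) :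
    trPsi1 x = 1 := by
  have h1 : (MonoidHom.ofInjective glHom_injective).symm
      (trPsi1.codRestrict glHom.range
        (fun x => exists_gl_of_mem_fanoAut (trPsi1_mem_fanoAut x)) x) = 1 := h
  have h2 := (MulEquiv.map_eq_one_iff _).mp h1
  exact congrArg Subtype.val h2

theorem card_trT0 : Fintype.card ↥trT0 = 3 := by
  rw [Fintype.card_coe]; exact trT0_mem.1

/-- The three octads are indexed by `Fin 3`. -/
noncomputable def trE3 : ↥trT0 ≃ Fin 3 := Fintype.equivFinOfCardEq card_trT0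

/-- The homomorphism to the symmetric group of degree 3. -/
noncomputable def trPsi2 : ↥(MulAction.stabilizer M24 trT0) →* Equiv.Perm (Fin 3) :=
  (trE3.permCongrHom : Equiv.Perm ↥trT0 ≃* Equiv.Perm (Fin 3)).toMonoidHom.comp trPhiT

theorem trPsi2_eq_one {x : ↥(MulAction.stabilizer M24 trT0)} (h : trPsi2 x = 1) :
    ∀ o ∈ trT0, sxc trT0 x • o = o := by
  apply famHom_eq_one (h := sxc_smul trT0)
  have : (trE3.permCongrHom : Equiv.Perm ↥trT0 ≃* Equiv.Perm (Fin 3)) (trPhiT x) = 1 := h
  exact (MulEquiv.map_eq_one_iff _).mp this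

/-- The homomorphism onto `GL₃(2) × S₃`. -/
noncomputable def trPsi : ↥(MulAction.stabilizer M24 trT0) →*
    GL (Fin 3) (ZMod 2) × Equiv.Perm (Fin 3) := trPsiGL.prod trPsi2

theorem trPsi_ker {x : ↥(MulAction.stabilizer M24 trT0)} (hx : x ∈ trPsi.ker) :
    sxc trT0 x ∈ trKSet := by
  rw [MonoidHom.mem_ker] at hx
  have h1 : trPsiGL x = 1 := congrArg Prod.fst hx
  have h2 : trPsi2 x = 1 := congrArg Prod.snd hx
  exact ⟨sxc_mem trT0 x, trPsi2_eq_one h2, trPsi1_eq_one (trPsiGL_eq_one h1)⟩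

theorem orbit_trio {T : Finset (Finset GolayPt)} (hT : T ∈ trios) :
    MulAction.orbit ↥M24 T = trios := by
  ext T'
  constructor
  · rintro ⟨g, rfl⟩
    exact smul_mem_trios g.2 hT
  · intro hT'
    obtain ⟨g, hg, h⟩ := trios_transitive hT hT'
    exact ⟨⟨g, hg⟩, h⟩

theorem card_stab_trio {T : Finset (Finset GolayPt)} (hT : T ∈ trios) :
    Nat.card ↥(MulAction.stabilizer M24 T) = 64512 := by
  have h := Nat.card_congr (MulAction.orbitProdStabilizerEquivGroup ↥M24 T)
  rw [Nat.card_prod, orbit_trio hT, Nat.card_coe_set_eq, ncard_trios, card_M24] at h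
  omega

theorem card_trPsi_ker_le : Nat.card ↥trPsi.ker ≤ 64 := by
  let f : ↥trPsi.ker → ↥trKSub := fun x => ⟨sxc trT0 x.1, trPsi_ker x.2⟩
  have hf : Function.Injective f := by
    intro x y h
    have e : sxc trT0 x.1 = sxc trT0 y.1 :=
      congrArg (fun z : ↥trKSub => (z : Equiv.Perm GolayPt)) h
    exact Subtype.ext (sxc_injective trT0 e)
  exact le_trans (Nat.card_le_card_of_injective f hf) card_trKSub_le

theorem card_target : Nat.card (GL (Fin 3) (ZMod 2) × Equiv.Perm (Fin 3)) = 1008 := by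
  rw [Nat.card_prod, card_gl32, Nat.card_perm, Nat.card_eq_fintype_card, Fintype.card_fin]
  rfl

theorem card_trPsi : Nat.card ↥trPsi.ker = 64 ∧ Nat.card ↥trPsi.range = 1008 := by
  have h1 := Subgroup.card_mul_index trPsi.ker
  rw [Subgroup.index_ker, card_stab_trio trT0_mem] at h1
  have ha := card_trPsi_ker_le
  have hb : Nat.card ↥trPsi.range ≤ 1008 := by
    rw [← card_target]
    exact Nat.card_le_card_of_injective _ Subtype.val_injective
  have ha' : Nat.card ↥trPsi.ker = 64 := by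
    by_contra hne
    have h63 : Nat.card ↥trPsi.ker ≤ 63 := by omega
    have := Nat.mul_le_mul h63 hb
    omega
  rw [ha'] at h1
  exact ⟨ha', by omega⟩

theorem trPsi_surjective : Function.Surjective trPsi := by
  rw [← MonoidHom.range_eq_top]
  apply (Subgroup.card_eq_iff_eq_top _).mp
  rw [card_trPsi.2, card_target]

theorem trPsi_ker_sq : ∀ x ∈ trPsi.ker, x * x = 1 := by
  intro x hx
  apply sxc_injective trT0
  rw [map_mul, map_one]
  exact trK_sq (trPsi_ker hx)

/-- The structure of the stabiliser of the base trio. -/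
theorem base_trio_structure : ∃ (N : Subgroup ↥(MulAction.stabilizer M24 trT0)) (_ : N.Normal),
    Nat.card N = 64 ∧ (∀ x ∈ N, x * x = 1) ∧
    Nonempty (↥(MulAction.stabilizer M24 trT0) ⧸ N ≃* GL (Fin 3) (ZMod 2) × Equiv.Perm (Fin 3)) :=
  ⟨trPsi.ker, MonoidHom.normal_ker trPsi, card_trPsi.1, trPsi_ker_sq,
    ⟨QuotientGroup.quotientKerEquivOfSurjective trPsi trPsi_surjective⟩⟩

end Cfsg.Agent.Helper26
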