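import Mathlib
import Cfsg.Agent.Lib.Helper26.TrStabGroup

set_option autoImplicit false
open scoped Pointwise
open Cfsg

namespace Cfsg.Agent.Helper26

open Cfsg.Agent.Helper27 Cfsg.Agent.Helper7

/-- The structure of the stabiliser of any trio. -/
theorem trio_structure {T : Finset (Finset GolayPt)} (hT : T ∈ trios) :
    ∃ (N : Subgroup ↥(MulAction.stabilizer M24 T)) (_ : N.Normal),
    Nat.card N = 64 ∧ (∀ x ∈ N, x * x = 1) ∧
    Nonempty (↥(MulAction.stabilizer M24 T) ⧸ N ≃* GL (Fin 3) (ZMod 2) × Equiv.Perm (Fin 3)) := by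
  obtain ⟨h, hh, hT'⟩ := trios_transitive trT0_mem hT
  obtain ⟨N, hN, hc, hsq, ⟨iso⟩⟩ := base_trio_structure
  have hg : T = (⟨h, hh⟩ : ↥M24) • trT0 := hT'.symm
  let e : ↥(MulAction.stabilizer M24 trT0) ≃* ↥(MulAction.stabilizer M24 T) :=
    MulAction.stabilizerEquivStabilizer hg
  have hN' : (N.map e.toMonoidHom).Normal := hN.map _ e.surjective
  refine ⟨N.map e.toMonoidHom, hN', ?_, ?_, ?_⟩
  · rw [Subgroup.card_map_of_injective (f := e.toMonoidHom) e.injective]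
    exact hc
  · rintro x ⟨y, hy, rfl⟩
    rw [← map_mul, hsq y hy, map_one]
  · exact ⟨(QuotientGroup.congr N (N.map e.toMonoidHom) e rfl).symm.trans iso⟩

/-! ### Permutations of the three octads -/

theorem base_trio_swap {o1 o2 : Finset GolayPt} (h1 : o1 ∈ trT0) (h2 : o2 ∈ trT0)
    (hne : o1 ≠ o2) :
    ∃ g ∈ M24, g • o1 = o2 ∧ g • o2 = o1 ∧ ∀ o ∈ trT0, o ≠ o1 → o ≠ o2 → g • o = o := by
  obtain ⟨ma, hma, rfl⟩ := mem_toQ.mp h1
  obtain ⟨mb, hmb, rfl⟩ := mem_toQ.mp h2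
  have hab : ma ≠ mb := fun e => hne (by rw [e])
  have hck := trSwapCheck_ok
  unfold trSwapCheck at hck
  simp only [List.all_eq_true, Bool.or_eq_true, List.any_eq_true, Bool.and_eq_true,
    beq_iff] at hck
  rcases hck ma hma mb hmb with e | ⟨g, _, ⟨⟨⟨⟨e1, e2⟩, e3⟩, hc⟩, hm⟩⟩
  · exact absurd e hab
  · refine ⟨permOf g, ?_, ?_, ?_, ?_⟩
    · rw [permOf_eq hc]; exact mkPerm_mem_M24 _ _ hc hm
    · rw [← toFinset_permMask' hc, e1]
    · rw [← toFinset_permMask' hc, e2]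
    · intro t ht n1 n2
      obtain ⟨m, hm', rfl⟩ := mem_toQ.mp ht
      rcases e3 m hm' with (e | e) | e
      · exact absurd (by rw [e]) n1
      · exact absurd (by rw [e]) n2
      · rw [← toFinset_permMask' hc, e]

theorem trio_swap {T : Finset (Finset GolayPt)} (hT : T ∈ trios) {o1 o2 : Finset GolayPt}
    (h1 : o1 ∈ T) (h2 : o2 ∈ T) (hne : o1 ≠ o2) :
    ∃ g ∈ M24, g • o1 = o2 ∧ g • o2 = o1 ∧ ∀ o ∈ T, o ≠ o1 → o ≠ o2 → g • o = o := by
  obtain ⟨h, hh, rfl⟩ := trios_transitive trT0_mem hT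
  obtain ⟨u1, hu1, rfl⟩ := Finset.mem_smul_finset.mp h1
  obtain ⟨u2, hu2, rfl⟩ := Finset.mem_smul_finset.mp h2
  have hne' : u1 ≠ u2 := fun e => hne (by rw [e])
  obtain ⟨g, hg, e1, e2, e3⟩ := base_trio_swap hu1 hu2 hne'
  refine ⟨h * g * h⁻¹, M24.mul_mem (M24.mul_mem hh hg) (M24.inv_mem hh), ?_, ?_, ?_⟩
  · rw [mul_smul, mul_smul, inv_smul_smul, e1]
  · rw [mul_smul, mul_smul, inv_smul_smul, e2]
  · intro t ht n1 n2
    obtain ⟨u, hu, rfl⟩ := Finset.mem_smul_finset.mp ht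
    rw [mul_smul, mul_smul, inv_smul_smul,
      e3 u hu (fun e => n1 (by rw [e])) (fun e => n2 (by rw [e]))]

theorem trReal_swap {T : Finset (Finset GolayPt)} (hT : T ∈ trios) {a b : ↥T} (hab : a ≠ b) :
    SxReal T (Equiv.swap a b) := by
  have hne : (a : Finset GolayPt) ≠ (b : Finset GolayPt) := fun e => hab (Subtype.ext e)
  obtain ⟨g, hg, e1, e2, e3⟩ := trio_swap hT a.2 b.2 hne
  refine ⟨g, hg, fun t => ?_⟩
  by_cases hta : t = a
  · rw [hta, Equiv.swap_apply_left, e1]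
  · by_cases htb : t = b
    · rw [htb, Equiv.swap_apply_right, e2]
    · rw [Equiv.swap_apply_of_ne_of_ne hta htb]
      exact e3 t t.2 (fun e => hta (Subtype.ext e)) (fun e => htb (Subtype.ext e))

theorem trReal_all {T : Finset (Finset GolayPt)} (hT : T ∈ trios) (e : Equiv.Perm ↥T) :
    SxReal T e := by
  induction e using Equiv.Perm.swap_induction_on with
  | one => exact sxReal_one T
  | swap_mul f x y hxy hf => exact sxReal_mul (trReal_swap hT hxy) hf

end Cfsg.Agent.Helper26
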