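import Mathlib
import Cfsg.Agent.Lib.Helper43.Tri.Rel

/-!
# TRI (NOTQB) `special_not_mem_Qb` for helper43's lemma server (row S0817), second seat (helper26)

A scalar multiple of `L_{1+u₀}` does not lie in any point radical modulo the centre: otherwise
`x + u₀ x = E(u',w') x` for all `x`, so the range of `x ↦ u₀ x` (of rank `4`) lies in the span of
`u', w'`; three coordinates of `u₀ x` at three basis vectors give a non-zero `3 × 3` determinant.
-/

set_option autoImplicit false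
set_option linter.unusedSectionVars false

namespace Cfsg.Agent.Helper26.Tri

open Matrix QuadraticMap Cfsg.Agent.Helper13 Cfsg.Agent.Helper43 Cfsg.Agent.Helper5.OAut Module
open Cfsg.Agent.Helper43.Tri Cfsg.Agent.Helper43.OGam

variable {F : Type*} [Field F]

local infixr:73 " ⋆ " => act _

theorem notqb_sq (x : OV F) : omul u₀ (omul u₀ x) = 0 := by
  rw [alt_left, omul_u₀_u₀, omul_zero_left]

theorem notqb_l1 (x : OV F) : omul u₀ x (Sum.inl 1) = x (Sum.inr 0) := by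
  rw [omul_inl1, u₀_inl0, u₀_inl1, u₀_inr2, u₀_inr3]; ring

theorem notqb_l0 (x : OV F) : omul u₀ x (Sum.inl 0) = - x (Sum.inr 1) := by
  rw [omul_inl0, u₀_inl0, u₀_inl1, u₀_inl2, u₀_inl3]; ring

theorem notqb_r2 (x : OV F) : omul u₀ x (Sum.inr 2) = x (Sum.inl 3) := by
  rw [omul_inr2, u₀_inr2, u₀_inr0, u₀_inl3, u₀_inl1]; ring

theorem notqb_det (a1 b1 a2 b2 a3 b3 W1 W2 W3 U1 U2 U3 : F) :
    (a1 * W1 + b1 * U1) * ((a2 * W2 + b2 * U2) * (a3 * W3 + b3 * U3)
        - (a2 * W3 + b2 * U3) * (a3 * W2 + b3 * U2))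
      - (a1 * W2 + b1 * U2) * ((a2 * W1 + b2 * U1) * (a3 * W3 + b3 * U3)
        - (a2 * W3 + b2 * U3) * (a3 * W1 + b3 * U1))
      + (a1 * W3 + b1 * U3) * ((a2 * W1 + b2 * U1) * (a3 * W2 + b3 * U2)
        - (a2 * W2 + b2 * U2) * (a3 * W1 + b3 * U1)) = 0 := by
  ring

theorem special_not_mem_Qb (C : Ctx (stdPlus F 4)) (g₁ : ↥(Cfsg.Omega F ⇑(stdPlus F 4))) (c : F)
    (hg₁ : ∀ x : OV F, (g₁ : O8 F) • x = c • (x + omul u₀ x))
    (u' : OV F) (hu'0 : u' ≠ 0) (hu' : stdPlus F 4 u' = 0) :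
    prj (stdPlus F 4) g₁ ∉ Qb (stdPlus F 4) u' := by
  intro hmem
  obtain ⟨g, hgQ, hgp⟩ := mem_Qb.mp hmem
  obtain ⟨w', hw', rfl⟩ := (mem_Qrad C hu').mp hgQ
  have hz := prj_eq_iff.mp hgp
  obtain ⟨d, hd⟩ := C.hcen _ hz
  have hgx : ∀ x : OV F, c • (x + omul u₀ x) = d • (E (stdPlus F 4) u' w' ⋆ x) := by
    intro x
    have h3 : ((E (stdPlus F 4) u' w')⁻¹ * g₁) ⋆ x = d • x := hd x
    rw [act_mul, act_inv_eq_iff, act_smul] at h3
    rw [← h3, act_def]
    exact (hg₁ x).symm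
  have hEu : E (stdPlus F 4) u' w' ⋆ u' = u' := E_fix_left C hu' hw'
  have hd0 : d ≠ 0 := by
    rintro rfl
    have h3 : ((E (stdPlus F 4) u' w')⁻¹ * g₁) ⋆ u' = (0 : F) • u' := hd u'
    rw [zero_smul, act_eq_zero] at h3
    exact hu'0 h3
  have h1 := hgx u'
  rw [hEu] at h1
  -- apply `L_{u₀}`
  have h2 : omul u₀ (c • (u' + omul u₀ u')) = omul u₀ (d • u') := by rw [h1]
  rw [omul_smul_right, omul_smul_right, omul_add_right, notqb_sq, add_zero] at h2
  have hcd : c = d := by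
    by_cases h0 : omul u₀ u' = 0
    · rw [h0, add_zero] at h1
      have h3 : (c - d) • u' = 0 := by rw [sub_smul, h1, sub_self]
      rcases smul_eq_zero.mp h3 with h | h
      · exact sub_eq_zero.mp h
      · exact absurd h hu'0
    · have h3 : (c - d) • omul u₀ u' = 0 := by rw [sub_smul, h2, sub_self]
      rcases smul_eq_zero.mp h3 with h | h
      · exact sub_eq_zero.mp h
      · exact absurd h h0
  subst hcd
  have hx : ∀ x : OV F, omul u₀ x = polar (⇑(stdPlus F 4)) u' x • w'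
      + (-(polar (⇑(stdPlus F 4)) w' x) - stdPlus F 4 w' * polar (⇑(stdPlus F 4)) u' x) • u' := by
    intro x
    have h3 := smul_right_injective (OV F) hd0 (hgx x)
    rw [E_act C hu' hw'] at h3
    have h4 : omul u₀ x = (x + omul u₀ x) - x := by abel
    rw [h4, h3]
    module
  -- coordinates
  have e1 := hx (Pi.single (Sum.inr 0) 1)
  have e2 := hx (Pi.single (Sum.inr 1) 1)
  have e3 := hx (Pi.single (Sum.inl 3) 1)
  have e11 := congrFun e1 (Sum.inl 1)
  have e12 := congrFun e1 (Sum.inl 0)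
  have e13 := congrFun e1 (Sum.inr 2)
  have e21 := congrFun e2 (Sum.inl 1)
  have e22 := congrFun e2 (Sum.inl 0)
  have e23 := congrFun e2 (Sum.inr 2)
  have e31 := congrFun e3 (Sum.inl 1)
  have e32 := congrFun e3 (Sum.inl 0)
  have e33 := congrFun e3 (Sum.inr 2)
  rw [notqb_l1] at e11 e21 e31
  rw [notqb_l0] at e12 e22 e32
  rw [notqb_r2] at e13 e23 e33
  simp only [Pi.add_apply, Pi.smul_apply, smul_eq_mul] at e11 e12 e13 e21 e22 e23 e31 e32 e33
  have key := notqb_det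
    (polar (⇑(stdPlus F 4)) u' (Pi.single (Sum.inr 0) 1))
    (-(polar (⇑(stdPlus F 4)) w' (Pi.single (Sum.inr 0) 1))
      - stdPlus F 4 w' * polar (⇑(stdPlus F 4)) u' (Pi.single (Sum.inr 0) 1))
    (polar (⇑(stdPlus F 4)) u' (Pi.single (Sum.inr 1) 1))
    (-(polar (⇑(stdPlus F 4)) w' (Pi.single (Sum.inr 1) 1))
      - stdPlus F 4 w' * polar (⇑(stdPlus F 4)) u' (Pi.single (Sum.inr 1) 1))
    (polar (⇑(stdPlus F 4)) u' (Pi.single (Sum.inl 3) 1))
    (-(polar (⇑(stdPlus F 4)) w' (Pi.single (Sum.inl 3) 1))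
      - stdPlus F 4 w' * polar (⇑(stdPlus F 4)) u' (Pi.single (Sum.inl 3) 1))
    (w' (Sum.inl 1)) (w' (Sum.inl 0)) (w' (Sum.inr 2))
    (u' (Sum.inl 1)) (u' (Sum.inl 0)) (u' (Sum.inr 2))
  rw [← e11, ← e12, ← e13, ← e21, ← e22, ← e23, ← e31, ← e32, ← e33] at key
  simp at key

end Cfsg.Agent.Helper26.Tri
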